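/-
Chevalley groups, part 1: root elements over an arbitrary commutative ring and their infinitesimal generators.

* `xR D R r t`   : the matrix x_r(t) over a commutative ring, `x_eq_xR`, `xR_map`.
* `adE D R r`    : the matrix of ad e_r read off the tables; `ad D R v` the linear map v ↦ ad v.
* `dM`           : entrywise derivative of a matrix of polynomials; `dM_mul`, `ode_unique`
                   (a polynomial solution of F' = A F with given value at 0 is unique in characteristic 0).
* `StepOK`       : the recursion of the chain table, giving `dM_xR` : (x_r(f))' = f' • ad e_r · x_r(f).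
-/
import Cfsg.Agent.EqLemmas

set_option autoImplicit false

namespace Cfsg.Agent.Chev

open Cfsg.Lie Matrix Polynomial
open Cfsg.Lie.ChevalleyDatum

variable (D : ChevalleyDatum)

/-- The matrix x_r(t) over a commutative ring, by the formula of `ChevalleyDatum.xMat`. -/
def xR (R : Type*) [CommRing R] (r : ℕ) (t : R) : Matrix D.Idx D.Idx R :=
  Matrix.of fun row col =>
    match col with
    | Sum.inl i =>
      (match row with
       | Sum.inl i' => if i' = i then 1 else 0
       | Sum.inr u => if u.val = r then - ((D.cartan i.val r : ℤ) : R) * t else 0)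
    | Sum.inr s =>
      if s.val = r then (match row with | Sum.inr u => if u.val = r then 1 else 0 | Sum.inl _ => 0)
      else if s.val = D.neg r then
        (match row with
         | Sum.inl i => (((D.coroot.getD r #[]).getD i.val 0 : ℤ) : R) * t
         | Sum.inr u => if u = s then 1 else if u.val = r then -(t ^ 2) else 0)
      else
        (match row with
         | Sum.inl _ => 0
         | Sum.inr u => (if u = s then 1 else 0) +
             ((D.chainCoeff r s.val u.val).map fun km => ((km.2 : ℤ) : R) * t ^ km.1).sum)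

theorem x_eq_xR {F : Type*} [Field F] {r : ℕ} (hr : r < D.nroots) (t : F) : D.x F r t = xR D F r t := by
  ext row col
  simp only [ChevalleyDatum.x, dif_pos hr, ChevalleyDatum.xMat, xR, Matrix.of_apply, ChevalleyDatum.neg,
    ChevalleyDatum.cartan, Fin.ext_iff]
  rcases row with i | u <;> rcases col with j | s <;> simp only [Fin.ext_iff]

theorem x_of_le {F : Type*} [Field F] {r : ℕ} (hr : D.nroots ≤ r) (t : F) : D.x F r t = 1 := by
  simp [ChevalleyDatum.x, Nat.not_lt.2 hr]

theorem xR_map {R S : Type*} [CommRing R] [CommRing S] (f : R →+* S) (r : ℕ) (t : R) :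
    (xR D R r t).map f = xR D S r (f t) := by
  ext row col
  rcases row with i | u <;> rcases col with j | s <;> simp only [xR, Matrix.map_apply, Matrix.of_apply] <;>
    split_ifs <;> simp [map_list_sum, List.map_map, Function.comp_def]

/-- The basis vector e_q (zero if `q` is out of range). -/
def ev (R : Type*) [CommRing R] (q : ℕ) : D.Idx → R :=
  Sum.elim (fun _ => 0) (fun u => if u.val = q then 1 else 0)

/-- The vector h_r. -/
def hv (R : Type*) [CommRing R] (r : ℕ) : D.Idx → R :=
  Sum.elim (fun i => (((D.coroot.getD r #[]).getD i.val 0 : ℤ) : R)) (fun _ => 0)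

theorem ev_of_lt (R : Type*) [CommRing R] {q : ℕ} (hq : q < D.nroots) :
    ev D R q = Pi.single (Sum.inr ⟨q, hq⟩) 1 := by
  ext a
  rcases a with i | u
  · simp [ev]
  · simp [ev, Pi.single_apply, Fin.ext_iff]

theorem mulVec_ev {R : Type*} [CommRing R] (M : Matrix D.Idx D.Idx R) {q : ℕ} (hq : q < D.nroots) :
    M *ᵥ ev D R q = fun a => M a (Sum.inr ⟨q, hq⟩) := by
  rw [ev_of_lt D R hq, Matrix.mulVec_single_one]
  rfl

theorem ev_map {R S : Type*} [CommRing R] [CommRing S] (f : R →+* S) (q : ℕ) :
    f ∘ ev D R q = ev D S q := by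
  ext a
  rcases a with i | u <;> simp [ev, apply_ite f]

theorem hv_map {R S : Type*} [CommRing R] [CommRing S] (f : R →+* S) (q : ℕ) :
    f ∘ hv D R q = hv D S q := by
  ext a
  rcases a with i | u <;> simp [hv]

/-- The image of a basis vector under ad e_r. -/
def colA (R : Type*) [CommRing R] (r : ℕ) : D.Idx → (D.Idx → R)
  | Sum.inl i => (-((D.cartan i.val r : ℤ) : R)) • ev D R r
  | Sum.inr s =>
    if s.val = r then 0 else if s.val = D.neg r then hv D R r
    else ((D.chainM r s.val 1 : ℤ) : R) • (D.chainRoot r s.val 1).elim 0 (ev D R)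

/-- The matrix of ad e_r. -/
def adE (R : Type*) [CommRing R] (r : ℕ) : Matrix D.Idx D.Idx R :=
  Matrix.of fun row col => colA D R r col row

theorem adE_col (R : Type*) [CommRing R] (r : ℕ) (b : D.Idx) :
    adE D R r *ᵥ Pi.single b 1 = colA D R r b := by
  rw [Matrix.mulVec_single_one]
  rfl

theorem colA_map {R S : Type*} [CommRing R] [CommRing S] (f : R →+* S) (r : ℕ) (b : D.Idx) :
    f ∘ colA D R r b = colA D S r b := by
  have he := congrFun (ev_map D f r)
  have hh := congrFun (hv_map D f r)
  ext a
  rcases b with i | s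
  · simp [colA, ← he a]
  · simp only [colA, Function.comp_apply]
    split_ifs with h₁ h₂
    · simp
    · exact hh a
    · cases h : D.chainRoot r s.val 1 with
      | none => simp
      | some k => simp [← congrFun (ev_map D f k) a]

theorem adE_map {R S : Type*} [CommRing R] [CommRing S] (f : R →+* S) (r : ℕ) :
    (adE D R r).map f = adE D S r := by
  ext a b
  exact congrFun (colA_map D f r b) a

/-- The matrices ad b of the basis vectors b. -/
def adB (R : Type*) [CommRing R] : D.Idx → Matrix D.Idx D.Idx R
  | Sum.inl i => Matrix.diagonal (Sum.elim (fun _ => 0) fun u => ((D.cartan i.val u.val : ℤ) : R))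
  | Sum.inr s => adE D R s.val

/-- The linear map v ↦ ad v. -/
noncomputable def ad (R : Type*) [CommRing R] : (D.Idx → R) →ₗ[R] Matrix D.Idx D.Idx R :=
  Fintype.linearCombination R (adB D R)

theorem ad_apply {R : Type*} [CommRing R] (v : D.Idx → R) : ad D R v = ∑ a, v a • adB D R a :=
  Fintype.linearCombination_apply R (adB D R) v

theorem ad_single {R : Type*} [CommRing R] (a : D.Idx) : ad D R (Pi.single a 1) = adB D R a := by
  simp [ad]

theorem ad_ev {R : Type*} [CommRing R] {q : ℕ} (hq : q < D.nroots) : ad D R (ev D R q) = adE D R q := by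
  rw [ev_of_lt D R hq, ad_single]
  rfl

theorem adB_map {R S : Type*} [CommRing R] [CommRing S] (f : R →+* S) (a : D.Idx) :
    (adB D R a).map f = adB D S a := by
  rcases a with i | s
  · simp only [adB]
    rw [Matrix.diagonal_map (map_zero f)]
    congr 1
    ext u
    rcases u with j | u <;> simp
  · exact adE_map D f s.val

theorem ad_map {R S : Type*} [CommRing R] [CommRing S] (f : R →+* S) (v : D.Idx → R) :
    (ad D R v).map f = ad D S (f ∘ v) := by
  ext a b
  simp only [ad_apply, Matrix.map_apply, Matrix.sum_apply, Matrix.smul_apply, smul_eq_mul, map_sum, map_mul,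
    Function.comp_apply]
  exact Finset.sum_congr rfl fun c _ => by rw [← adB_map D f c]; rfl

/-! ### Derivatives -/

section Deriv

variable {n : Type*} {R : Type*} [CommRing R]

/-- Entrywise derivative. -/
noncomputable def dM (M : Matrix n n R[X]) : Matrix n n R[X] := M.map derivative

/-- Entrywise derivative of a vector. -/
noncomputable def dV (v : n → R[X]) : n → R[X] := fun a => derivative (v a)

theorem dM_mul [Fintype n] (M N : Matrix n n R[X]) : dM (M * N) = dM M * N + M * dM N := by
  ext a b
  simp [dM, Matrix.mul_apply, derivative_mul, Finset.sum_add_distrib]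

theorem dM_mulVec [Fintype n] (M : Matrix n n R[X]) (v : n → R[X]) :
    dV (M *ᵥ v) = dM M *ᵥ v + M *ᵥ dV v := by
  ext1 a
  simp [dV, dM, Matrix.mulVec, dotProduct, derivative_mul, Finset.sum_add_distrib]

theorem dM_map_C (M : Matrix n n R) : dM (M.map C) = 0 := by
  ext a b
  simp [dM]

theorem ode_unique [Fintype n] [IsAddTorsionFree R] (A : Matrix n n R) (F G : Matrix n n R[X])
    (hF : dM F = A.map C * F) (hG : dM G = A.map C * G)
    (h0 : F.map (eval 0) = G.map (eval 0)) : F = G := by
  have key : ∀ k a b, (F a b).coeff k = (G a b).coeff k := by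
    intro k
    induction k with
    | zero =>
      intro a b
      simpa [coeff_zero_eq_eval_zero] using congrFun (congrFun h0 a) b
    | succ k ih =>
      intro a b
      have hF' := congrArg (fun p => Polynomial.coeff p k) (congrFun (congrFun hF a) b)
      have hG' := congrArg (fun p => Polynomial.coeff p k) (congrFun (congrFun hG a) b)
      simp only [dM, Matrix.map_apply, Matrix.mul_apply, finsetSum_coeff, coeff_C_mul,
        coeff_derivative] at hF' hG'
      have hsum : (F a b).coeff (k + 1) * ((k : R) + 1) = (G a b).coeff (k + 1) * ((k : R) + 1) := by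
        rw [hF', hG']
        exact Finset.sum_congr rfl fun c _ => by rw [ih c b]
      refine nsmul_right_injective (Nat.succ_ne_zero k) ?_
      simp only [nsmul_eq_mul, Nat.cast_succ]
      rw [mul_comm, hsum, mul_comm]
  ext a b : 1
  exact Polynomial.ext fun k => key k a b

end Deriv

/-! ### The chain table as a recursion -/

/-- `(q, M)` is the k-th term of the r-chain through a root and `L` lists the following terms. -/
def StepOK (r : ℕ) : List (ℕ × ℤ) → ℕ → ℤ → ℕ → Prop
  | [], _, _, q => q < D.nroots ∧ q ≠ r ∧ q ≠ D.neg r ∧ D.chainEntry r q = []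
  | (q', M') :: L, k, M, q => q < D.nroots ∧ q ≠ r ∧ q ≠ D.neg r ∧ D.chainRoot r q 1 = some q' ∧
      ((k + 1 : ℕ) : ℤ) * M' = M * D.chainM r q 1 ∧ StepOK r L (k + 1) M' q'

instance stepOKDecidable (r : ℕ) : ∀ (L : List (ℕ × ℤ)) (k : ℕ) (M : ℤ) (q : ℕ), Decidable (StepOK D r L k M q)
  | [], _, _, _ => by unfold StepOK; infer_instance
  | (q', M') :: L, k, M, q => by
    unfold StepOK
    haveI := stepOKDecidable r L (k + 1) M' q'
    infer_instance

/-- The terms M t^j e_q of a list, exponents starting from the given one. -/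
def sumCol (R : Type*) [CommRing R] (t : R) : List (ℕ × ℤ) → ℕ → (D.Idx → R)
  | [], _ => 0
  | (q, M) :: L, j => ((M : R) * t ^ j) • ev D R q + sumCol R t L (j + 1)

/-- The keys of row `r` of the chain table are distinct. -/
def KeysNodup (r : ℕ) : Prop := ((D.chain.getD r #[]).toList.map Prod.fst).Nodup

theorem chainCoeff_eq {r : ℕ} (hk : KeysNodup D r) (s u : ℕ) :
    D.chainCoeff r s u =
      ((D.chainEntry r s).zipIdx.filter fun q => q.1.1 = u).map fun q => (q.2 + 1, q.1.2) := by
  unfold KeysNodup at hk
  unfold ChevalleyDatum.chainCoeff ChevalleyDatum.chainEntry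
  generalize (D.chain.getD r #[]).toList = L at hk
  induction L with
  | nil => simp
  | cons e L ih =>
    simp only [List.map_cons, List.nodup_cons] at hk
    by_cases hes : e.1 = s
    · have hL : L.filter (fun x => decide (x.1 = s)) = [] := by
        rw [List.filter_eq_nil_iff]
        intro x hx
        simp only [decide_eq_true_eq]
        exact fun h => hk.1 (List.mem_map.2 ⟨x, hx, h.trans hes.symm⟩)
      simp [hes, hL]
    · simpa [List.find?_cons, List.filter_cons, hes] using ih hk.2

theorem sumCol_apply_inr (R : Type*) [CommRing R] (t : R) (u : Fin D.nroots) :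
    ∀ (L : List (ℕ × ℤ)) (j : ℕ), sumCol D R t L (j + 1) (Sum.inr u) =
      (((L.zipIdx j).filter fun q => q.1.1 = u.val).map fun q => ((q.1.2 : ℤ) : R) * t ^ (q.2 + 1)).sum
  | [], _ => by simp [sumCol]
  | (q, M) :: L, j => by
    simp only [sumCol, Pi.add_apply, Pi.smul_apply, sumCol_apply_inr R t u L (j + 1), List.zipIdx_cons,
      List.filter_cons, smul_eq_mul]
    by_cases h : q = u.val
    · simp [ev, h]
    · simp [ev, h, Ne.symm h]

theorem sumCol_apply_inl (R : Type*) [CommRing R] (t : R) (i : Fin D.rank) :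
    ∀ (L : List (ℕ × ℤ)) (j : ℕ), sumCol D R t L j (Sum.inl i) = 0
  | [], _ => by simp [sumCol]
  | (q, M) :: L, j => by simp [sumCol, ev, sumCol_apply_inl R t i L (j + 1)]

section Cols

variable {R : Type*} [CommRing R] (r : ℕ) (t : R)

theorem xR_inl (i : Fin D.rank) :
    xR D R r t *ᵥ Pi.single (Sum.inl i) 1 =
      Pi.single (Sum.inl i) 1 + (-((D.cartan i.val r : ℤ) : R) * t) • ev D R r := by
  rw [Matrix.mulVec_single_one]
  ext a
  rcases a with j | u
  · simp [xR, ev, Matrix.col, Pi.single_apply]
  · simp [xR, ev, Matrix.col]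
    split_ifs <;> simp

theorem xR_self (hr : r < D.nroots) : xR D R r t *ᵥ ev D R r = ev D R r := by
  rw [mulVec_ev D _ hr]
  ext a
  rcases a with j | u <;> simp [xR, ev]

theorem xR_neg (hn : D.neg r < D.nroots) (hne : D.neg r ≠ r) :
    xR D R r t *ᵥ ev D R (D.neg r) = ev D R (D.neg r) + t • hv D R r - (t ^ 2) • ev D R r := by
  rw [mulVec_ev D _ hn]
  ext a
  rcases a with j | u
  · simp only [xR, Matrix.of_apply, ev, hv, hne, if_false, if_true, Pi.sub_apply, Pi.add_apply, Pi.smul_apply,
      Sum.elim_inl, smul_eq_mul]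
    ring
  · simp only [xR, Matrix.of_apply, ev, hv, hne, if_false, if_true, Pi.sub_apply, Pi.add_apply, Pi.smul_apply,
      Sum.elim_inr, smul_eq_mul, Fin.ext_iff]
    split_ifs <;> first | (exfalso; omega) | ring

theorem xR_gen (hk : KeysNodup D r) {s : ℕ} (hs : s < D.nroots) (h₁ : s ≠ r) (h₂ : s ≠ D.neg r) :
    xR D R r t *ᵥ ev D R s = ev D R s + sumCol D R t (D.chainEntry r s) 1 := by
  rw [mulVec_ev D _ hs]
  ext a
  rcases a with j | u
  · simp [xR, ev, h₁, h₂, sumCol_apply_inl]
  · simp only [xR, Matrix.of_apply, if_neg h₁, if_neg h₂, Pi.add_apply, ev, Sum.elim_inr,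
      chainCoeff_eq D hk, sumCol_apply_inr D R t u (D.chainEntry r s) 0]
    simp [Fin.ext_iff, List.map_map, Function.comp_def]

theorem adE_inl (i : Fin D.rank) :
    adE D R r *ᵥ Pi.single (Sum.inl i) 1 = (-((D.cartan i.val r : ℤ) : R)) • ev D R r :=
  adE_col D R r _

theorem adE_self (hr : r < D.nroots) : adE D R r *ᵥ ev D R r = 0 := by
  rw [ev_of_lt D R hr, adE_col]
  simp [colA]

theorem adE_neg (hn : D.neg r < D.nroots) (hne : D.neg r ≠ r) :
    adE D R r *ᵥ ev D R (D.neg r) = hv D R r := by
  rw [ev_of_lt D R hn, adE_col]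
  simp [colA, hne]

theorem adE_gen {s : ℕ} (hs : s < D.nroots) (h₁ : s ≠ r) (h₂ : s ≠ D.neg r) :
    adE D R r *ᵥ ev D R s = ((D.chainM r s 1 : ℤ) : R) • (D.chainRoot r s 1).elim 0 (ev D R) := by
  rw [ev_of_lt D R hs, adE_col]
  simp [colA, h₁, h₂]

theorem hv_eq : hv D R r =
    ∑ i : Fin D.rank, (((D.coroot.getD r #[]).getD i.val 0 : ℤ) : R) • Pi.single (Sum.inl i) 1 := by
  ext a
  rcases a with j | u <;> simp [hv, Finset.sum_apply, Pi.single_apply]

theorem pairing_eq_sum (s : ℕ) :
    D.pairing r s = ∑ i : Fin D.rank, (D.coroot.getD r #[]).getD i.val 0 * D.cartan i.val s := by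
  rw [Fin.sum_univ_eq_sum_range fun i => (D.coroot.getD r #[]).getD i 0 * D.cartan i s]
  simp [ChevalleyDatum.pairing, Finset.sum, List.map_eq_map_iff, Multiset.range]

theorem adE_hv (s : ℕ) : adE D R r *ᵥ hv D R s = (-((D.pairing s r : ℤ) : R)) • ev D R r := by
  rw [hv_eq, Matrix.mulVec_sum]
  simp only [Matrix.mulVec_smul, adE_inl, smul_smul, ← Finset.sum_smul]
  rw [pairing_eq_sum]
  simp

theorem xR_hv (s : ℕ) :
    xR D R r t *ᵥ hv D R s = hv D R s + (-((D.pairing s r : ℤ) : R) * t) • ev D R r := by
  conv_lhs => rw [hv_eq, Matrix.mulVec_sum]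
  simp only [Matrix.mulVec_smul, xR_inl, smul_add, Finset.sum_add_distrib, smul_smul, ← Finset.sum_smul,
    ← hv_eq]
  rw [pairing_eq_sum]
  simp [Finset.sum_mul, mul_assoc]

end Cols

theorem sumCol_deriv {R : Type*} [CommRing R] (r : ℕ) (f : R[X]) :
    ∀ (L : List (ℕ × ℤ)) (k : ℕ) (M : ℤ) (q : ℕ), StepOK D r L k M q →
      derivative f • (adE D R[X] r *ᵥ (((M : R[X]) * f ^ k) • ev D R[X] q + sumCol D R[X] f L (k + 1))) =
        dV (sumCol D R[X] f L (k + 1))
  | [], k, M, q, h => by
    obtain ⟨hq, h₁, h₂, h₃⟩ := h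
    have : D.chainRoot r q 1 = none := by simp [ChevalleyDatum.chainRoot, h₃]
    ext a
    simp [sumCol, dV, Matrix.mulVec_smul, adE_gen D r hq h₁ h₂, this]
  | (q', M') :: L, k, M, q, h => by
    obtain ⟨hq, h₁, h₂, h₃, h₄, h₅⟩ := h
    have ih := sumCol_deriv r f L (k + 1) M' q' h₅
    simp only [sumCol] at ih ⊢
    rw [Matrix.mulVec_add, smul_add, ih, Matrix.mulVec_smul, adE_gen D r hq h₁ h₂, h₃]
    have h₄' : (((k + 1 : ℕ) : R[X]) * (M' : R[X])) = (M : R[X]) * (D.chainM r q 1 : R[X]) := by
      exact_mod_cast congrArg (Int.cast : ℤ → R[X]) h₄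
    ext1 a
    simp only [dV, Pi.add_apply, Pi.smul_apply, smul_eq_mul, Option.elim_some, map_add]
    congr 1
    rcases a with i | u
    · simp [ev]
    · simp only [ev, Sum.elim_inr]
      split_ifs
      · simp only [mul_one, derivative_mul, derivative_intCast, zero_mul, zero_add, derivative_pow,
          Nat.add_sub_cancel, map_natCast]
        linear_combination (f ^ k * derivative f) * (h₄'.symm)
      · simp

/-- The differential equation of a root element. -/
theorem dM_xR {R : Type*} [CommRing R] {r : ℕ} (hr : r < D.nroots) (hn : D.neg r < D.nroots)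
    (hne : D.neg r ≠ r) (hk : KeysNodup D r) (hself : D.pairing r r = 2)
    (hstep : ∀ s < D.nroots, s ≠ r → s ≠ D.neg r → StepOK D r (D.chainEntry r s) 0 1 s) (f : R[X]) :
    dM (xR D R[X] r f) = derivative f • (adE D R[X] r * xR D R[X] r f) := by
  refine Matrix.ext_of_mulVec_single fun b => ?_
  rw [Matrix.smul_mulVec, ← Matrix.mulVec_mulVec]
  have hd : dM (xR D R[X] r f) *ᵥ Pi.single b 1 = dV (xR D R[X] r f *ᵥ Pi.single b 1) := by
    ext a
    simp [dM, dV, Matrix.mulVec_single_one, Matrix.col]
  rw [hd]
  rcases b with i | ⟨s, hs⟩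
  · rw [xR_inl, Matrix.mulVec_add, adE_inl, Matrix.mulVec_smul, adE_self D r hr, smul_zero, add_zero]
    ext1 a
    rcases a with j | u <;> simp [dV, ev, Pi.single_apply, apply_ite derivative, mul_comm]
  · rw [← ev_of_lt D R[X] hs]
    by_cases h₁ : s = r
    · subst h₁
      rw [xR_self D s f hr, adE_self D s hr]
      ext1 a
      rcases a with j | u <;> simp [dV, ev, apply_ite derivative]
    by_cases h₂ : s = D.neg r
    · subst h₂
      rw [xR_neg D r f hn hne, Matrix.mulVec_sub, Matrix.mulVec_add, Matrix.mulVec_smul, Matrix.mulVec_smul,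
        adE_self D r hr, adE_neg D r hn hne, adE_hv, hself]
      ext1 a
      rcases a with j | u
      · simp [dV, ev, hv, derivative_mul, mul_comm]
      · simp [dV, ev, hv, derivative_mul, derivative_pow, apply_ite derivative, map_ofNat, mul_assoc, mul_comm, mul_left_comm,
          sub_eq_add_neg]
    · rw [xR_gen D r f hk hs h₁ h₂]
      have h := sumCol_deriv D (R := R) r f _ 0 1 s (hstep s hs h₁ h₂)
      simp only [Int.cast_one, pow_zero, one_mul, one_smul, zero_add] at h
      rw [h]
      ext1 a
      rcases a with j | u <;> simp [dV, ev, apply_ite derivative]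

theorem xR_zero {R : Type*} [CommRing R] {r : ℕ} (hk : KeysNodup D r) : xR D R r 0 = 1 := by
  ext a b
  rcases a with i | u <;> rcases b with j | s <;>
    simp only [xR, Matrix.of_apply, Matrix.one_apply, mul_zero, Sum.inl.injEq, Sum.inr.injEq, reduceCtorEq,
      if_false, Fin.ext_iff]
  · split_ifs <;> simp_all
  · split_ifs <;> first | simp_all | omega
  · simp [chainCoeff_eq D hk, List.map_map, Function.comp_def]
    split_ifs <;> first | (intros; simp_all) | simp_all | omega

end Cfsg.Agent.Chev
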