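/-
Chevalley groups, part 2: symbolic evaluation of root elements on root vectors, used for table checks.

A term `(q, c, i, j)` stands for c aⁱ bʲ e_q; a letter `(m, c, i, j)` for x_m(c aⁱ bʲ).
* `applyOne`, `applyAll`: a letter applied to terms, with `applyAll_spec`.
* `wTerms`      : the vector w with (d/db) G = ad w · G for the product G of the letters.
* `CommOK r s`  : the table condition equivalent to the commutator formula for the pair (r, s).
* `NOK r s`     : the table condition for n_r(t) e_s = η tᵈ e_{w_r s}.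
* `sum_zero_of_zeroSum`: collection of like terms.
-/
import Cfsg.Agent.Lib.Chev.Matrix

set_option autoImplicit false

namespace Cfsg.Agent.Chev

open Cfsg.Lie Matrix
open Cfsg.Lie.ChevalleyDatum

variable (D : ChevalleyDatum)

/-- Terms and letters: (root, coefficient, exponent of a, exponent of b). -/
abbrev Term : Type := ℕ × ℤ × ℕ × ℕ

/-- The value of a list of terms. -/
def evalT {R : Type*} [CommRing R] (a b : R) (L : List Term) : D.Idx → R :=
  (L.map fun τ => ((τ.2.1 : R) * a ^ τ.2.2.1 * b ^ τ.2.2.2) • ev D R τ.1).sum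

/-- The argument of a letter. -/
def argL {R : Type*} [CommRing R] (a b : R) (g : Term) : R := (g.2.1 : R) * a ^ g.2.2.1 * b ^ g.2.2.2

/-- A letter applied to a term. -/
def applyOne (g τ : Term) : Option (List Term) :=
  if τ.1 = D.neg g.1 ∨ D.nroots ≤ τ.1 then none
  else if τ.1 = g.1 then some [τ]
  else some (τ :: ((D.chainEntry g.1 τ.1).zipIdx.map fun q =>
    (q.1.1, τ.2.1 * g.2.1 ^ (q.2 + 1) * q.1.2, τ.2.2.1 + (q.2 + 1) * g.2.2.1, τ.2.2.2 + (q.2 + 1) * g.2.2.2)))

/-- A letter applied to a list of terms. -/
def applyAll (g : Term) : List Term → Option (List Term)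
  | [] => some []
  | τ :: L => match applyOne D g τ, applyAll g L with
    | some A, some B => some (A ++ B)
    | _, _ => none

/-- The terms of the logarithmic b-derivative of a product of letters. -/
def wTerms : List Term → Option (List Term)
  | [] => some []
  | g :: L =>
    if g.1 < D.nroots then
      match wTerms L with
      | some W => match applyAll D g W with
        | some A => some ((g.1, g.2.1 * g.2.2.2, g.2.2.1, g.2.2.2 - 1) :: A)
        | none => none
      | none => none
    else none

theorem evalT_nil {R : Type*} [CommRing R] (a b : R) : evalT D a b [] = 0 := rfl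

theorem evalT_cons {R : Type*} [CommRing R] (a b : R) (τ : Term) (L : List Term) :
    evalT D a b (τ :: L) = argL a b τ • ev D R τ.1 + evalT D a b L := by
  simp [evalT, argL]

theorem evalT_append {R : Type*} [CommRing R] (a b : R) (L L' : List Term) :
    evalT D a b (L ++ L') = evalT D a b L + evalT D a b L' := by
  simp [evalT]

theorem evalT_zipIdx {R : Type*} [CommRing R] (a b : R) (c C : ℤ) (i' j' i j : ℕ) :
    ∀ (L : List (ℕ × ℤ)) (k : ℕ),
      evalT D a b ((L.zipIdx k).map fun q =>
          (q.1.1, c * C ^ (q.2 + 1) * q.1.2, i' + (q.2 + 1) * i, j' + (q.2 + 1) * j)) =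
        ((c : R) * a ^ i' * b ^ j') • sumCol D R ((C : R) * a ^ i * b ^ j) L (k + 1)
  | [], k => by simp [evalT, sumCol]
  | (q, M) :: L, k => by
    rw [List.zipIdx_cons, List.map_cons, evalT_cons, evalT_zipIdx a b c C i' j' i j L (k + 1)]
    simp only [sumCol, smul_add, smul_smul, argL]
    congr 2
    push_cast
    rw [mul_pow, mul_pow, ← pow_mul, ← pow_mul, pow_add, pow_add]
    ring

theorem applyOne_spec {R : Type*} [CommRing R] (a b : R) {g τ : Term} {A : List Term}
    (hk : KeysNodup D g.1) (h : applyOne D g τ = some A) :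
    evalT D a b A = xR D R g.1 (argL a b g) *ᵥ (argL a b τ • ev D R τ.1) := by
  unfold applyOne at h
  split_ifs at h with h₁ h₂
  · obtain rfl : [τ] = A := Option.some.inj h
    rw [not_or, Nat.not_le] at h₁
    rw [Matrix.mulVec_smul, h₂, xR_self D g.1 _ (h₂ ▸ h₁.2), evalT_cons, evalT_nil, add_zero, h₂]
  · rw [not_or, Nat.not_le] at h₁
    rw [← Option.some.inj h, Matrix.mulVec_smul, xR_gen D g.1 _ hk h₁.2 h₂ h₁.1, smul_add, evalT_cons,
      evalT_zipIdx]
    simp [argL]

theorem applyAll_spec {R : Type*} [CommRing R] (a b : R) {g : Term} (hk : KeysNodup D g.1) :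
    ∀ {L A : List Term}, applyAll D g L = some A →
      evalT D a b A = xR D R g.1 (argL a b g) *ᵥ evalT D a b L
  | [], A, h => by
    simp only [applyAll, Option.some.injEq] at h
    simp [← h, evalT]
  | τ :: L, A, h => by
    simp only [applyAll] at h
    cases h₁ : applyOne D g τ with
    | none => simp [h₁] at h
    | some A₁ =>
      cases h₂ : applyAll D g L with
      | none => simp [h₁, h₂] at h
      | some A₂ =>
        simp only [h₁, h₂, Option.some.injEq] at h
        rw [← h, evalT_append, evalT_cons, applyOne_spec D a b hk h₁, applyAll_spec a b hk h₂,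
          Matrix.mulVec_add]

/-- All like terms of the list cancel. -/
def ZeroSum {κ : Type*} [DecidableEq κ] (L : List (κ × ℤ)) : Prop :=
  ∀ a ∈ L, ((L.filter fun x => decide (x.1 = a.1)).map Prod.snd).sum = 0

instance {κ : Type*} [DecidableEq κ] (L : List (κ × ℤ)) : Decidable (ZeroSum L) :=
  inferInstanceAs (Decidable (∀ a ∈ L, _))

theorem sum_eq_zero_of_zeroSum {κ V : Type*} [DecidableEq κ] [AddCommGroup V] (g : κ → V) (L : List (κ × ℤ))
    (h : ZeroSum L) : (L.map fun x => x.2 • g x.1).sum = 0 := by
  have key : ∀ (M : List (κ × ℤ)) (K : Finset κ), (∀ x ∈ M, x.1 ∈ K) →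
      (M.map fun x => x.2 • g x.1).sum =
        ∑ k ∈ K, ((M.filter fun x => decide (x.1 = k)).map Prod.snd).sum • g k := by
    intro M K
    induction M with
    | nil => simp
    | cons x M ih =>
      intro hM
      rw [List.map_cons, List.sum_cons, ih fun y hy => hM y (List.mem_cons_of_mem x hy)]
      have hx : ∀ k, (((x :: M).filter fun y => decide (y.1 = k)).map Prod.snd).sum =
          (if x.1 = k then x.2 else 0) + ((M.filter fun y => decide (y.1 = k)).map Prod.snd).sum := fun k => by
        by_cases hk : x.1 = k <;> simp [hk]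
      simp only [hx, add_smul, Finset.sum_add_distrib, ite_smul, zero_smul, Finset.sum_ite_eq,
        hM x List.mem_cons_self, if_true]
  rw [key L (L.map Prod.fst).toFinset fun x hx => List.mem_toFinset.2 (List.mem_map_of_mem hx)]
  refine Finset.sum_eq_zero fun k hk => ?_
  obtain ⟨x, hx, rfl⟩ := List.mem_map.1 (List.mem_toFinset.1 hk)
  rw [h x hx, zero_smul]

/-- Key of a term for the commutator check. -/
def keyIJ (τ : Term) : (ℕ × ℕ × ℕ) × ℤ := ((τ.1, τ.2.2.1, τ.2.2.2), τ.2.1)

/-- Negated key of a term for the commutator check. -/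
def keyIJneg (τ : Term) : (ℕ × ℕ × ℕ) × ℤ := ((τ.1, τ.2.2.1, τ.2.2.2), -τ.2.1)

/-- The condition on the tables equivalent to the commutator formula for the pair (r, s). -/
def CommOK (r s : ℕ) : Prop :=
  match wTerms D ((s, 1, 0, 1) :: D.commTerms r s), applyAll D (r, 1, 1, 0) [(s, 1, 0, 0)] with
  | some W, some E => ZeroSum (W.map keyIJ ++ E.map keyIJneg)
  | _, _ => False

instance (r s : ℕ) : Decidable (CommOK D r s) := by
  unfold CommOK
  split <;> infer_instance

theorem evalT_eq_of_zeroSum {R : Type*} [CommRing R] (a b : R) {W E : List Term}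
    (h : ZeroSum (W.map keyIJ ++ E.map keyIJneg)) : evalT D a b W = evalT D a b E := by
  have := sum_eq_zero_of_zeroSum (fun k : ℕ × ℕ × ℕ => (a ^ k.2.1 * b ^ k.2.2) • ev D R k.1) _ h
  rw [List.map_append, List.sum_append, List.map_map, List.map_map] at this
  rw [← sub_eq_zero, ← this, sub_eq_add_neg]
  congr 1
  · rw [evalT]
    congr 1
    refine List.map_congr_left fun τ _ => ?_
    simp only [Function.comp_apply, keyIJ, ← Int.cast_smul_eq_zsmul R, smul_smul, mul_assoc]
  · rw [evalT, List.sum_neg, List.map_map]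
    congr 1
    refine List.map_congr_left fun τ _ => ?_
    simp only [Function.comp_apply, keyIJneg, ← Int.cast_smul_eq_zsmul R, smul_smul, mul_assoc, Int.cast_neg,
      neg_mul, neg_smul]

/-- The index of the root w_r(s). -/
def refl (r s : ℕ) : ℕ :=
  if s = r then D.neg r
  else if s = D.neg r then r
  else if 0 < D.pairing r s then (D.chainRoot (D.neg r) s (D.pairing r s).toNat).getD s
  else if D.pairing r s < 0 then (D.chainRoot r s (-D.pairing r s).toNat).getD s
  else s

/-- The terms of x_r(a) x_{-r}(-b) x_r(a) e_s. -/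
def nTerms (r s : ℕ) : Option (List Term) :=
  ((applyAll D (r, 1, 1, 0) [(s, 1, 0, 0)]).bind (applyAll D (D.neg r, -1, 0, 1))).bind
    (applyAll D (r, 1, 1, 0))

/-- The sign η with n_r e_s = η e_{w_r s}. -/
def nSign (r s : ℕ) : ℤ :=
  if s = r ∨ s = D.neg r then -1
  else match nTerms D r s with
    | some C => (C.map fun τ => τ.2.1).sum
    | none => 0

/-- Key of a term for the check of n_r: the exponent of t when a = t, b = t⁻¹. -/
def keyD (τ : Term) : (ℕ × ℤ) × ℤ := ((τ.1, (τ.2.2.1 : ℤ) - τ.2.2.2), τ.2.1)

/-- The condition on the tables for n_r(t) e_s = η t^d e_{w_r s}. -/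
def NOK (r s : ℕ) : Prop :=
  (match nTerms D r s with
    | some C => ZeroSum (C.map keyD ++ [((refl D r s, -D.pairing r s), -nSign D r s)])
    | none => False) ∧
    refl D r s < D.nroots ∧ refl D r (refl D r s) = s ∧ refl D r s ≠ r ∧ refl D r s ≠ D.neg r ∧
    D.pairing r (refl D r s) = -D.pairing r s ∧
    (nSign D r s = 1 ∨ nSign D r s = -1) ∧
    nSign D r s * nSign D r (refl D r s) = (-1) ^ (D.pairing r s).natAbs ∧
    nSign D r s * nSign D r (D.neg s) = 1

instance (r s : ℕ) : Decidable (NOK D r s) := by
  unfold NOK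
  split <;> infer_instance

end Cfsg.Agent.Chev
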