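/-
Chevalley groups, part 3: the table conditions `Good D` and their first consequences.

`Good D` is proved for the seven tabulated data in `Chev/All.lean`. From it:
* `Good.adE_ad`     : ad e_r is a derivation; `Good.xR_conj`: x_r(t) ad v = ad (x_r(t) v) x_r(t).
* `Good.xR_add`, `Good.x_add`, `Good.x_zero`, `Good.x_neg`.
* `Good.commutator` : Chevalley's commutator formula.
* `conj_xR_of_conj_adE` : g ad e_r = η ad e_s g implies g x_r(t) = x_s(η t) g.
* `Good.n_inl`, `Good.n_root` : n_r(t) h_i = h_i - A h_r and n_r(t) e_s = η tᵈ e_{w_r s}, d = -⟨r, s⟩.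
-/
import Cfsg.Agent.Lib.Chev.Words

set_option autoImplicit false

namespace Cfsg.Agent.Chev

open Cfsg.Lie Matrix Polynomial
open Cfsg.Lie.ChevalleyDatum

variable (D : ChevalleyDatum)

/-- An additive integer-valued height on the roots, increasing with the index. -/
structure OrdOK (o : ℕ → ℤ) : Prop where
  mono : ∀ r < D.nroots, ∀ s < D.nroots, r < s → o r < o s
  add : ∀ r < D.nroots, ∀ s < D.nroots, ∀ k, D.chainRoot r s 1 = some k → o k = o r + o s
  neg : ∀ r < D.nroots, o (D.neg r) = -o r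
  ne_zero : ∀ r < D.nroots, o r ≠ 0
  pos_iff : ∀ r < D.nroots, D.IsPosRoot r ↔ 0 < o r
  neg_iff : ∀ r < D.nroots, D.IsNegRoot r ↔ o r < 0

/-- The table conditions from which the general theory is derived. -/
structure Good : Prop where
  neg_lt : ∀ r < D.nroots, D.neg r < D.nroots
  neg_ne : ∀ r < D.nroots, D.neg r ≠ r
  neg_neg : ∀ r < D.nroots, D.neg (D.neg r) = r
  keys : ∀ r < D.nroots, KeysNodup D r
  step : ∀ r < D.nroots, ∀ s < D.nroots, s ≠ r → s ≠ D.neg r → StepOK D r (D.chainEntry r s) 0 1 s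
  pairing_self : ∀ r < D.nroots, D.pairing r r = 2
  cartan_neg : ∀ r < D.nroots, ∀ i < D.rank, D.cartan i (D.neg r) = -D.cartan i r
  coroot_neg : ∀ r < D.nroots, ∀ i < D.rank,
    (D.coroot.getD (D.neg r) #[]).getD i 0 = -(D.coroot.getD r #[]).getD i 0
  cartan_add : ∀ r < D.nroots, ∀ s < D.nroots, ∀ k, D.chainRoot r s 1 = some k →
    k < D.nroots ∧ ∀ i < D.rank, D.cartan i k = D.cartan i r + D.cartan i s
  jac : ∀ r < D.nroots, ∀ s (hs : s < D.nroots),
    adE D ℤ r * adE D ℤ s - adE D ℤ s * adE D ℤ r = ad D ℤ (colA D ℤ r (Sum.inr ⟨s, hs⟩))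
  comm : ∀ r < D.nroots, ∀ s < D.nroots, s ≠ r → s ≠ D.neg r → CommOK D r s
  nword : ∀ r < D.nroots, ∀ s < D.nroots, s ≠ r → s ≠ D.neg r → NOK D r s
  simple_lt : ∀ i < D.rank, D.simple i < D.nroots
  simple_coroot : ∀ i < D.rank, ∀ j < D.rank,
    (D.coroot.getD (D.simple i) #[]).getD j 0 = if j = i then 1 else 0
  order : ∃ o : ℕ → ℤ, OrdOK D o
  coroot_prim : ∀ r < D.nroots, ∃ c : Fin D.rank → ℤ, ∑ i, c i * (D.coroot.getD r #[]).getD i.val 0 = 1

theorem dM_ad {R : Type*} [CommRing R] (w : D.Idx → R[X]) :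
    dM (ad D R[X] w) = ad D R[X] (dV w) := by
  ext a b : 1
  simp only [dM, Matrix.map_apply, ad_apply, Matrix.sum_apply, Matrix.smul_apply, smul_eq_mul, map_sum,
    derivative_mul]
  refine Finset.sum_congr rfl fun c _ => ?_
  rw [← adB_map D (C : R →+* R[X]) c]
  simp [dV]

theorem adB_comp_single {R S : Type*} [CommRing R] [CommRing S] (f : R →+* S) (a : D.Idx) :
    f ∘ Pi.single a 1 = Pi.single a (1 : S) := by
  ext b
  simp [Pi.single_apply, apply_ite f]

theorem comp_mulVec {R S : Type*} [CommRing R] [CommRing S] (f : R →+* S) (M : Matrix D.Idx D.Idx R)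
    (v : D.Idx → R) : f ∘ (M *ᵥ v) = M.map f *ᵥ (f ∘ v) := by
  ext b
  exact RingHom.map_mulVec f M v b

theorem conj_ad_of_basis {R : Type*} [CommRing R] (g h : Matrix D.Idx D.Idx R) (M : Matrix D.Idx D.Idx R)
    (H : ∀ a, g * adB D R a = ad D R (M *ᵥ Pi.single a 1) * h) (v : D.Idx → R) :
    g * ad D R v = ad D R (M *ᵥ v) * h := by
  conv_rhs => rw [show v = ∑ a, v a • Pi.single a (1 : R) from pi_eq_sum_univ' v]
  simp only [Matrix.mulVec_sum, Matrix.mulVec_smul, map_sum, map_smul, Finset.sum_mul, Matrix.smul_mul, ← H]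
  rw [ad_apply, Finset.mul_sum]
  simp

theorem conj_xR_of_conj_adE {r s : ℕ} (hr : r < D.nroots) (hs : s < D.nroots) (hg : Good D)
    (g : Matrix D.Idx D.Idx ℤ) (η : ℤ) (H : g * adE D ℤ r = η • (adE D ℤ s * g))
    {R : Type*} [CommRing R] (t : R) :
    g.map (Int.cast : ℤ → R) * xR D R r t = xR D R s ((η : R) * t) * g.map (Int.cast : ℤ → R) := by
  have key : g.map C * xR D ℤ[X] r X = xR D ℤ[X] s (C η * X) * g.map C := by
    refine ode_unique (η • adE D ℤ s) _ _ ?_ ?_ ?_
    · rw [dM_mul, dM_map_C, zero_mul, zero_add,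
        dM_xR D hr (hg.neg_lt r hr) (hg.neg_ne r hr) (hg.keys r hr) (hg.pairing_self r hr) (hg.step r hr) X,
        derivative_X, one_smul, ← adE_map D (C : ℤ →+* ℤ[X]) r, ← mul_assoc, ← Matrix.map_mul, H,
        Matrix.map_smul _ _ (fun x => map_zsmul C η x), Matrix.map_smul _ _ (fun x => map_zsmul C η x),
        Matrix.map_mul, Matrix.smul_mul, Matrix.smul_mul, mul_assoc]
    · rw [dM_mul, dM_map_C, mul_zero, add_zero,
        dM_xR D hs (hg.neg_lt s hs) (hg.neg_ne s hs) (hg.keys s hs) (hg.pairing_self s hs) (hg.step s hs) _,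
        derivative_C_mul, derivative_X, mul_one, Matrix.map_smul _ _ (fun x => map_zsmul C η x),
        adE_map D (C : ℤ →+* ℤ[X]) s, Matrix.smul_mul, Matrix.smul_mul, ← mul_assoc]
      simp [← Int.cast_smul_eq_zsmul ℤ[X]]
    · rw [← coe_evalRingHom, Matrix.map_mul, Matrix.map_mul, xR_map, xR_map]
      simp [xR_zero D (hg.keys r hr), xR_zero D (hg.keys s hs)]
  have := congrArg (fun M : Matrix D.Idx D.Idx ℤ[X] => M.map (eval₂RingHom (Int.castRingHom R) t)) key
  simp only [Matrix.map_mul, xR_map, Matrix.map_map, Function.comp_def] at this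
  have hi : ∀ n : ℤ, eval₂ (Int.castRingHom R) t (n : ℤ[X]) = n := fun n =>
    map_intCast (eval₂RingHom (Int.castRingHom R) t) n
  simpa [Matrix.map, eval₂_mul, hi] using this

theorem lt_of_wTerms : ∀ {L W : List Term}, wTerms D L = some W → ∀ g ∈ L, g.1 < D.nroots
  | [], _, _ => by simp
  | x :: L, W, h => by
    intro g hg
    simp only [wTerms] at h
    split_ifs at h with hx
    rcases List.mem_cons.1 hg with rfl | hg
    · exact hx
    · cases hW : wTerms D L with
      | none => simp [hW] at h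
      | some W' => exact lt_of_wTerms hW g hg

namespace Good

variable {D} (hD : Good D)
include hD

theorem dM_xR' {R : Type*} [CommRing R] {r : ℕ} (hr : r < D.nroots) (f : R[X]) :
    dM (xR D R[X] r f) = derivative f • (adE D R[X] r * xR D R[X] r f) :=
  dM_xR D hr (hD.neg_lt r hr) (hD.neg_ne r hr) (hD.keys r hr) (hD.pairing_self r hr) (hD.step r hr) f

theorem xR_zero' {R : Type*} [CommRing R] {r : ℕ} (hr : r < D.nroots) : xR D R r 0 = 1 :=
  xR_zero D (hD.keys r hr)

/-- ad e_r commutes with ad h_i up to the Cartan integer. -/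
theorem adE_adH {r : ℕ} (hr : r < D.nroots) (i : Fin D.rank) :
    adE D ℤ r * adB D ℤ (Sum.inl i) - adB D ℤ (Sum.inl i) * adE D ℤ r = ad D ℤ (colA D ℤ r (Sum.inl i)) := by
  have hrhs : ad D ℤ (colA D ℤ r (Sum.inl i)) = (-D.cartan i.val r) • adE D ℤ r := by
    simp only [colA, map_smul, ad_ev D hr, Int.cast_id]
  rw [hrhs]
  ext a b
  simp only [adB, Matrix.sub_apply, Matrix.mul_diagonal, Matrix.diagonal_mul, Matrix.smul_apply, smul_eq_mul,
    Int.cast_id]
  rcases b with j | ⟨q, hq⟩
  · rcases a with k | ⟨u, hu⟩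
    · simp [adE, colA, ev]
    · simp only [adE, colA, ev, Matrix.of_apply, Pi.smul_apply, Sum.elim_inr, Sum.elim_inl, smul_eq_mul]
      split_ifs with h
      · subst h; ring
      · ring
  · simp only [adE, colA, Matrix.of_apply, Sum.elim_inr]
    split_ifs with h₁ h₂
    · simp
    · subst h₂
      rcases a with k | ⟨u, hu⟩
      · simp only [Sum.elim_inl, hv, hD.cartan_neg r hr i.val i.isLt]; ring
      · simp [hv]
    · cases hk : D.chainRoot r q 1 with
      | none => simp
      | some k =>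
        rcases a with j | ⟨u, hu⟩
        · simp [ev]
        · simp only [Option.elim_some, Pi.smul_apply, ev, Sum.elim_inr, smul_eq_mul]
          split_ifs with h
          · subst h
            rw [(hD.cartan_add r hr q hq u hk).2 i.val i.isLt]; ring
          · ring

/-- ad e_r is a derivation. -/
theorem adE_ad {R : Type*} [CommRing R] {r : ℕ} (hr : r < D.nroots) (v : D.Idx → R) :
    adE D R r * ad D R v = ad D R v * adE D R r + ad D R (adE D R r *ᵥ v) := by
  have hb : ∀ a, adE D R r * adB D R a = adB D R a * adE D R r + ad D R (colA D R r a) := by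
    intro a
    have hz : adE D ℤ r * adB D ℤ a = adB D ℤ a * adE D ℤ r + ad D ℤ (colA D ℤ r a) := by
      rw [← sub_eq_iff_eq_add']
      rcases a with i | ⟨s, hs⟩
      · exact hD.adE_adH hr i
      · exact hD.jac r hr s hs
    have := congrArg (fun M : Matrix D.Idx D.Idx ℤ => M.map (Int.castRingHom R)) hz
    simpa only [Matrix.map_mul, Matrix.map_add _ (map_add (Int.castRingHom R)), adE_map, adB_map, ad_map,
      colA_map] using this
  rw [show v = ∑ a, v a • Pi.single a (1 : R) from pi_eq_sum_univ' v]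
  simp only [Matrix.mulVec_sum, Matrix.mulVec_smul, map_sum, map_smul, Finset.sum_mul, Finset.mul_sum,
    Matrix.smul_mul, Matrix.mul_smul, adE_col, ad_single, ← Finset.sum_add_distrib, ← smul_add, hb]

/-- x_r(t) ad v = ad (x_r(t) v) x_r(t). -/
theorem xR_conj {R : Type*} [CommRing R] {r : ℕ} (hr : r < D.nroots) (t : R) (v : D.Idx → R) :
    xR D R r t * ad D R v = ad D R (xR D R r t *ᵥ v) * xR D R r t := by
  refine conj_ad_of_basis D _ _ _ (fun a => ?_) v
  have key : xR D ℤ[X] r X * adB D ℤ[X] a =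
      ad D ℤ[X] (xR D ℤ[X] r X *ᵥ Pi.single a 1) * xR D ℤ[X] r X := by
    refine ode_unique (adE D ℤ r) _ _ ?_ ?_ ?_
    · rw [dM_mul, hD.dM_xR' hr, derivative_X, one_smul, ← adB_map D (C : ℤ →+* ℤ[X]) a, dM_map_C, mul_zero,
        add_zero, adE_map, mul_assoc]
    · have hd : dV (xR D ℤ[X] r X *ᵥ Pi.single a 1) = adE D ℤ[X] r *ᵥ (xR D ℤ[X] r X *ᵥ Pi.single a 1) := by
        rw [dM_mulVec, hD.dM_xR' hr, derivative_X, one_smul, Matrix.mulVec_mulVec]
        have : dV (Pi.single a (1 : ℤ[X])) = 0 := by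
          ext1 b
          simp [dV, Pi.single_apply, apply_ite derivative]
        rw [this, Matrix.mulVec_zero, add_zero]
      rw [dM_mul, dM_ad, hd, hD.dM_xR' hr, derivative_X, one_smul, adE_map, ← mul_assoc, ← mul_assoc,
        ← add_mul, hD.adE_ad hr, add_comm]
    · rw [← coe_evalRingHom, Matrix.map_mul, Matrix.map_mul, adB_map, ad_map, xR_map]
      simp only [comp_mulVec, adB_comp_single, xR_map,
        show evalRingHom (0 : ℤ) X = 0 by simp, hD.xR_zero' hr, Matrix.one_mulVec, ad_single, mul_one, one_mul]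
  have := congrArg (fun M : Matrix D.Idx D.Idx ℤ[X] => M.map (eval₂RingHom (Int.castRingHom R) t)) key
  simp only [Matrix.map_mul, xR_map, adB_map, ad_map] at this
  simp only [comp_mulVec, adB_comp_single, xR_map,
    show eval₂RingHom (Int.castRingHom R) t X = t by simp] at this
  exact this

theorem xR_add {R : Type*} [CommRing R] {r : ℕ} (hr : r < D.nroots) (t u : R) :
    xR D R r t * xR D R r u = xR D R r (t + u) := by
  have key : xR D ℤ[X][X] r X * xR D ℤ[X][X] r (C X) = xR D ℤ[X][X] r (X + C X) := by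
    refine ode_unique (adE D ℤ[X] r) _ _ ?_ ?_ ?_
    · rw [dM_mul, hD.dM_xR' hr, hD.dM_xR' hr, derivative_X, one_smul, derivative_C, zero_smul, mul_zero,
        add_zero, adE_map, mul_assoc]
    · rw [hD.dM_xR' hr, derivative_add, derivative_X, derivative_C, add_zero, one_smul, adE_map]
    · rw [← coe_evalRingHom, Matrix.map_mul, xR_map, xR_map, xR_map]
      simp [hD.xR_zero' hr]
  have := congrArg (fun M : Matrix D.Idx D.Idx ℤ[X][X] =>
    M.map (eval₂RingHom (eval₂RingHom (Int.castRingHom R) u) t)) key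
  simp only [Matrix.map_mul, xR_map] at this
  simpa using this

theorem xR_mul_neg {R : Type*} [CommRing R] {r : ℕ} (hr : r < D.nroots) (t : R) :
    xR D R r t * xR D R r (-t) = 1 := by
  rw [hD.xR_add hr, add_neg_cancel, hD.xR_zero' hr]

/-- The product of the matrices of a list of letters. -/
theorem dM_letters {R : Type*} [CommRing R] (a : R) : ∀ {L W : List Term}, wTerms D L = some W →
    dM ((L.map fun g => xR D R[X] g.1 (argL (C a) X g)).prod) =
      ad D R[X] (evalT D (C a) X W) * (L.map fun g => xR D R[X] g.1 (argL (C a) X g)).prod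
  | [], W, h => by
    simp only [wTerms, Option.some.injEq] at h
    rw [← h, evalT_nil, map_zero, zero_mul]
    ext p q
    simp [dM, Matrix.one_apply, apply_ite derivative]
  | g :: L, W, h => by
    simp only [wTerms] at h
    split_ifs at h with hg
    cases hW : wTerms D L with
    | none => simp [hW] at h
    | some W₀ =>
      cases hA : applyAll D g W₀ with
      | none => simp [hW, hA] at h
      | some A =>
        simp only [hW, hA, Option.some.injEq] at h
        rw [← h, List.map_cons, List.prod_cons, dM_mul, dM_letters a hW, hD.dM_xR' hg, evalT_cons, map_add,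
          map_smul, ad_ev D hg, applyAll_spec D (C a) X (hD.keys g.1 hg) hA, ← mul_assoc (xR D R[X] g.1 _),
          hD.xR_conj hg, mul_assoc (ad D R[X] _), add_mul]
        congr 1
        rw [Matrix.smul_mul, Matrix.smul_mul, mul_assoc]
        congr 1
        simp only [argL, Int.cast_mul, Int.cast_natCast, ← C_pow, derivative_mul, derivative_intCast, derivative_C,
          derivative_X_pow, zero_mul, mul_zero, zero_add, map_natCast]
        ring

theorem xR_commutator {R : Type*} [CommRing R] {r s : ℕ} (hr : r < D.nroots) (hs : s < D.nroots)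
    (h₁ : s ≠ r) (h₂ : s ≠ D.neg r) (a u : R) :
    xR D R s u * xR D R r (-a) = xR D R r (-a) * (xR D R s u *
      ((D.commTerms r s).map fun g => xR D R g.1 (argL a u g)).prod) := by
  have hc := hD.comm r hr s hs h₁ h₂
  unfold CommOK at hc
  cases hW : wTerms D ((s, 1, 0, 1) :: D.commTerms r s) with
  | none => simp [hW] at hc
  | some W =>
    cases hE : applyAll D (r, 1, 1, 0) [(s, 1, 0, 0)] with
    | none => simp [hW, hE] at hc
    | some E =>
      simp only [hW, hE] at hc
      set L := ((s, 1, 0, 1) :: D.commTerms r s : List Term) with hL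
      have key : xR D ℤ[X][X] s X * xR D ℤ[X][X] r (-C (X : ℤ[X])) =
          xR D ℤ[X][X] r (-C (X : ℤ[X])) * (L.map fun g => xR D ℤ[X][X] g.1 (argL (C X) X g)).prod := by
        refine ode_unique (adE D ℤ[X] s) _ _ ?_ ?_ ?_
        · rw [dM_mul, hD.dM_xR' hs, hD.dM_xR' hr, derivative_X, one_smul, derivative_neg, derivative_C,
            neg_zero, zero_smul, mul_zero, add_zero, adE_map, mul_assoc]
        · rw [dM_mul, hD.dM_xR' hr, derivative_neg, derivative_C, neg_zero, zero_smul, zero_mul, zero_add,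
            hD.dM_letters X hW, ← mul_assoc, hD.xR_conj hr, evalT_eq_of_zeroSum D _ _ hc,
            applyAll_spec D _ _ (hD.keys r hr) hE, Matrix.mulVec_mulVec]
          have h0 : argL (C (X : ℤ[X])) X ((r, 1, 1, 0) : Term) = C X := by simp [argL]
          simp only [h0, hD.xR_add hr, neg_add_cancel, hD.xR_zero' hr, Matrix.one_mulVec]
          rw [evalT_cons, evalT_nil, add_zero, show argL (C (X : ℤ[X])) X ((s, 1, 0, 0) : Term) = 1 by simp [argL],
            one_smul, ad_ev D hs, adE_map, mul_assoc]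
        · rw [← coe_evalRingHom, Matrix.map_mul, Matrix.map_mul, xR_map, xR_map]
          rw [show ((L.map fun g => xR D ℤ[X][X] g.1 (argL (C X) X g)).prod).map (evalRingHom (0 : ℤ[X])) =
              (L.map fun g => (xR D ℤ[X][X] g.1 (argL (C X) X g)).map (evalRingHom (0 : ℤ[X]))).prod from by
            rw [← RingHom.mapMatrix_apply, map_list_prod, List.map_map]; rfl]
          have hj : ∀ g ∈ L, (xR D ℤ[X][X] g.1 (argL (C X) X g)).map (evalRingHom (0 : ℤ[X])) = 1 := by
            intro g hg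
            rw [xR_map]
            have : g.1 < D.nroots ∧ g.2.2.2 ≠ 0 := by
              refine ⟨?_, ?_⟩
              · exact lt_of_wTerms D hW g hg
              · rcases List.mem_cons.1 hg with rfl | hg
                · simp
                · simp only [ChevalleyDatum.commTerms, List.mem_filterMap, List.mem_cons, List.not_mem_nil,
                    or_false] at hg
                  obtain ⟨c, hc', hg⟩ := hg
                  rcases hc' with rfl | rfl | rfl | rfl | rfl | rfl | rfl <;>
                    simp only [Option.map_eq_some_iff] at hg <;> obtain ⟨k, _, rfl⟩ := hg <;> simp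
            simp [argL, this.2, hD.xR_zero' this.1]
          rw [List.prod_eq_one fun x hx => by obtain ⟨g, hg, rfl⟩ := List.mem_map.1 hx; exact hj g hg, mul_one]
          simp [hD.xR_zero' hs]
      have := congrArg (fun M : Matrix D.Idx D.Idx ℤ[X][X] =>
        M.map (eval₂RingHom (eval₂RingHom (Int.castRingHom R) a) u)) key
      simp only [Matrix.map_mul, xR_map] at this
      rw [← RingHom.mapMatrix_apply _ ((L.map _).prod), map_list_prod, List.map_map] at this
      simp only [Function.comp_def, RingHom.mapMatrix_apply, xR_map] at this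
      have hi : ∀ n : ℤ, eval₂ (eval₂RingHom (Int.castRingHom R) a) u (n : ℤ[X][X]) = n := fun n =>
        map_intCast (eval₂RingHom (eval₂RingHom (Int.castRingHom R) a) u) n
      simpa [hL, argL, hi, eval₂_pow, eval₂_C] using this

section Field

variable {F : Type*} [Field F]

theorem x_add {r : ℕ} (hr : r < D.nroots) (t u : F) : D.x F r t * D.x F r u = D.x F r (t + u) := by
  simp only [x_eq_xR D hr, hD.xR_add hr]

theorem x_zero (r : ℕ) : D.x F r 0 = 1 := by
  by_cases hr : r < D.nroots
  · rw [x_eq_xR D hr, hD.xR_zero' hr]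
  · exact x_of_le D (Nat.not_lt.1 hr) 0

theorem x_mul_neg (r : ℕ) (t : F) : D.x F r t * D.x F r (-t) = 1 := by
  by_cases hr : r < D.nroots
  · rw [hD.x_add hr, add_neg_cancel, hD.x_zero]
  · simp [x_of_le D (Nat.not_lt.1 hr)]

/-- Chevalley's commutator formula. -/
theorem commutator {r s : ℕ} (hr : r < D.nroots) (hs : s < D.nroots) (h₁ : s ≠ r) (h₂ : s ≠ D.neg r)
    (t u : F) :
    D.x F s u * D.x F r t = D.x F r t * D.x F s u * D.wordMat F (D.commWord F r s t u) := by
  have hlt : ∀ g ∈ D.commTerms r s, g.1 < D.nroots := by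
    intro g hg
    have hc := hD.comm r hr s hs h₁ h₂
    unfold CommOK at hc
    cases hW : wTerms D ((s, 1, 0, 1) :: D.commTerms r s) with
    | none => simp [hW] at hc
    | some W => exact lt_of_wTerms D hW g (List.mem_cons_of_mem _ hg)
  have := hD.xR_commutator hr hs h₁ h₂ (-t) u
  rw [_root_.neg_neg] at this
  rw [x_eq_xR D hs, x_eq_xR D hr, this, mul_assoc]
  congr 2
  simp only [ChevalleyDatum.wordMat, ChevalleyDatum.commWord, List.map_map]
  congr 1
  exact List.map_congr_left fun g hg => by simp [x_eq_xR D (hlt g hg), argL]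

end Field

/-! ### The elements n_r(t) -/

theorem pairing_neg_left {r : ℕ} (hr : r < D.nroots) (s : ℕ) :
    D.pairing (D.neg r) s = -D.pairing r s := by
  rw [pairing_eq_sum, pairing_eq_sum, ← Finset.sum_neg_distrib]
  exact Finset.sum_congr rfl fun i _ => by rw [hD.coroot_neg r hr i.val i.isLt, neg_mul]

theorem pairing_neg_right (r : ℕ) {s : ℕ} (hs : s < D.nroots) :
    D.pairing r (D.neg s) = -D.pairing r s := by
  rw [pairing_eq_sum, pairing_eq_sum, ← Finset.sum_neg_distrib]
  exact Finset.sum_congr rfl fun i _ => by rw [hD.cartan_neg s hs i.val i.isLt, mul_neg]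

theorem hv_neg (R : Type*) [CommRing R] {r : ℕ} (hr : r < D.nroots) :
    hv D R (D.neg r) = -hv D R r := by
  ext a
  rcases a with i | u
  · simp only [hv, Sum.elim_inl, Pi.neg_apply, hD.coroot_neg r hr i.val i.isLt, Int.cast_neg]
  · simp [hv]

variable {F : Type*} [Field F]

theorem nMat_eq {r : ℕ} (hr : r < D.nroots) (t : F) :
    D.nMat F r t = xR D F r t * xR D F (D.neg r) (-t⁻¹) * xR D F r t := by
  simp [ChevalleyDatum.nMat, ChevalleyDatum.wordMat, ChevalleyDatum.nWord, x_eq_xR D hr,
    x_eq_xR D (hD.neg_lt r hr), mul_assoc]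

/-- n_r(t) h_i = h_i - A_{i,r} h_r. -/
theorem n_inl {r : ℕ} (hr : r < D.nroots) {t : F} (ht : t ≠ 0) (i : Fin D.rank) :
    D.nMat F r t *ᵥ Pi.single (Sum.inl i) 1 =
      Pi.single (Sum.inl i) 1 - ((D.cartan i.val r : ℤ) : F) • hv D F r := by
  have hn := hD.neg_lt r hr
  have hne := hD.neg_ne r hr
  have hnn : D.neg (D.neg r) = r := hD.neg_neg r hr
  rw [hD.nMat_eq hr, ← Matrix.mulVec_mulVec, ← Matrix.mulVec_mulVec, xR_inl]
  have hx := xR_neg D (R := F) (D.neg r) (-t⁻¹) (hnn.symm ▸ hr) (hnn.symm ▸ hne.symm)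
  rw [hnn] at hx
  simp only [Matrix.mulVec_add, Matrix.mulVec_sub, Matrix.mulVec_smul, xR_inl, hx, hD.hv_neg F hr,
    Matrix.mulVec_neg, xR_self D r t hr, xR_neg D r t hn hne, xR_hv, hD.cartan_neg r hr i.val i.isLt,
    hD.pairing_self r hr]
  push_cast
  ext a
  simp only [Pi.add_apply, Pi.sub_apply, Pi.neg_apply, Pi.smul_apply, smul_eq_mul]
  field_simp
  ring

/-- n_r(t) e_s = η tᵈ e_{w_r s} with d = -⟨r, s⟩. -/
theorem n_root {r s : ℕ} (hr : r < D.nroots) (hs : s < D.nroots) {t : F} (ht : t ≠ 0) :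
    D.nMat F r t *ᵥ ev D F s =
      ((nSign D r s : F) * t ^ (-D.pairing r s)) • ev D F (refl D r s) := by
  have hn := hD.neg_lt r hr
  have hne := hD.neg_ne r hr
  have hnn : D.neg (D.neg r) = r := hD.neg_neg r hr
  rw [hD.nMat_eq hr, ← Matrix.mulVec_mulVec, ← Matrix.mulVec_mulVec]
  have hx := xR_neg D (R := F) (D.neg r) (-t⁻¹) (hnn.symm ▸ hr) (hnn.symm ▸ hne.symm)
  rw [hnn] at hx
  by_cases h₁ : s = r
  · subst h₁
    rw [xR_self D s t hr, hx]
    simp only [Matrix.mulVec_add, Matrix.mulVec_sub, Matrix.mulVec_smul, hD.hv_neg F hr, Matrix.mulVec_neg,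
      xR_self D s t hr, xR_neg D s t hn hne, xR_hv, hD.pairing_self s hr, refl, nSign, if_true, true_or]
    ext a
    simp only [Pi.add_apply, Pi.sub_apply, Pi.neg_apply, Pi.smul_apply, smul_eq_mul,
      show (-(2 : ℤ)) = -((2 : ℕ) : ℤ) from rfl, _root_.zpow_neg, zpow_natCast]
    push_cast
    field_simp
    ring
  by_cases h₂ : s = D.neg r
  · subst h₂
    rw [xR_neg D r t hn hne]
    have hhy : xR D F (D.neg r) (-t⁻¹) *ᵥ hv D F r = hv D F r + (-(2 * t⁻¹)) • ev D F (D.neg r) := by
      rw [xR_hv, hD.pairing_neg_right r hr, hD.pairing_self r hr]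
      push_cast
      ring_nf
    simp only [Matrix.mulVec_add, Matrix.mulVec_sub, Matrix.mulVec_smul, xR_self D (D.neg r) (-t⁻¹) hn, hx,
      hhy, hD.hv_neg F hr, Matrix.mulVec_neg, xR_self D r t hr, xR_neg D r t hn hne, xR_hv,
      hD.pairing_self r hr, hD.pairing_neg_right r hr, _root_.neg_neg, refl, nSign, hne, if_false, if_true, or_true]
    ext a
    simp only [Pi.add_apply, Pi.sub_apply, Pi.neg_apply, Pi.smul_apply, smul_eq_mul,
      show ((2 : ℤ)) = ((2 : ℕ) : ℤ) from rfl, zpow_natCast]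
    push_cast
    field_simp
    ring
  have h := (hD.nword r hr s hs h₁ h₂).1
  cases hC : nTerms D r s with
  | none => simp [hC] at h
  | some C =>
    simp only [hC] at h
    have hC' := hC
    simp only [nTerms, Option.bind_eq_some_iff] at hC'
    obtain ⟨B, ⟨A, hA, hB⟩, hC'⟩ := hC'
    have eA := applyAll_spec D t t⁻¹ (hD.keys r hr) hA
    have eB := applyAll_spec D t t⁻¹ (g := (D.neg r, -1, 0, 1)) (hD.keys _ hn) hB
    have eC := applyAll_spec D t t⁻¹ (hD.keys r hr) hC'
    rw [eB, eA] at eC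
    simp only [evalT_cons, evalT_nil, argL, Int.cast_one, Int.cast_neg, pow_zero, pow_one, mul_one, one_mul,
      neg_one_mul, add_zero, one_smul] at eC
    rw [← eC]
    have h' := sum_eq_zero_of_zeroSum (fun k : ℕ × ℤ => (t ^ k.2) • ev D F k.1) _ h
    rw [List.map_append, List.sum_append, List.map_map] at h'
    simp only [List.map_cons, List.map_nil, List.sum_cons, List.sum_nil, add_zero, neg_smul] at h'
    rw [← sub_eq_add_neg, sub_eq_zero, ← Int.cast_smul_eq_zsmul F, smul_smul] at h'
    rw [← h', evalT]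
    congr 1
    refine List.map_congr_left fun τ _ => ?_
    simp only [Function.comp_apply, keyD, ← Int.cast_smul_eq_zsmul F, smul_smul, zpow_sub₀ ht, zpow_natCast,
      inv_pow]
    ring_nf

end Good

end Cfsg.Agent.Chev
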