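/-
Chevalley groups: finite checks for the fields of `Good`, used for the small tables (B₂, G₂, F₄).

* `JacGen`, `DecOK`, `jac_of_gen` : the Jacobi identity for all pairs of roots follows from the generators ±p_i.
* `good_of_checks` : `Good D` from decidable conditions.
-/
import Cfsg.Agent.Lib.Chev.Good

set_option autoImplicit false

namespace Cfsg.Agent.Chev

open Cfsg.Lie Matrix
open Cfsg.Lie.ChevalleyDatum

variable (D : ChevalleyDatum)

/-- The basis vector with bcode `c`: the roots come first, then the fundamental coroots. -/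
def eC (c : ℕ) : D.Idx → ℤ :=
  Sum.elim (fun i => if D.nroots + i.val = c then 1 else 0) (fun u => if u.val = c then 1 else 0)

/-- The bcode of a basis element. -/
def bcode : D.Idx → ℕ := Sum.elim (fun i => D.nroots + i.val) (fun u => u.val)

/-- Value of a sparse vector. -/
def evalC (L : List (ℕ × ℤ)) : D.Idx → ℤ := (L.map fun x => x.2 • eC D x.1).sum

/-- The image under ad e_r of the basis vector with bcode `c`. -/
def colL (r c : ℕ) : List (ℕ × ℤ) :=
  if c < D.nroots then
    if c = r then []
    else if c = D.neg r then (List.range D.rank).map fun i => (D.nroots + i, (D.coroot.getD r #[]).getD i 0)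
    else match D.chainRoot r c 1 with
      | some k => [(k, D.chainM r c 1)]
      | none => []
  else [(r, -D.cartan (c - D.nroots) r)]

/-- The image under the ad of the basis vector `m` of the basis vector `c`. -/
def adL (m c : ℕ) : List (ℕ × ℤ) :=
  if m < D.nroots then colL D m c
  else if c < D.nroots then [(c, D.cartan (m - D.nroots) c)] else []

/-- The image under the ad of the basis vector `m` of a sparse vector. -/
def mulLst (m : ℕ) : List (ℕ × ℤ) → List (ℕ × ℤ)
  | [] => []
  | x :: L => (adL D m x.1).map (fun y => (y.1, x.2 * y.2)) ++ mulLst m L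

/-- [ad e_p, ad b] = ad [e_p, b] on the column `q`, for the basis vector `b` of bcode `s`. -/
def JacCol (p s q : ℕ) : Prop :=
  ZeroSum (mulLst D p (adL D s q) ++ (mulLst D s (colL D p q)).map (fun y => (y.1, -y.2)) ++
    ((colL D p s).flatMap fun x => (adL D x.1 q).map fun y => (y.1, -(x.2 * y.2))))

instance (p s q : ℕ) : Decidable (JacCol D p s q) := inferInstanceAs (Decidable (ZeroSum _))

/-- All entries of the first generation table. -/
def JacGen (p : ℕ) : Prop :=
  ∀ s < D.nroots + D.rank, ∀ q < D.nroots + D.rank, JacCol D p s q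

instance (p : ℕ) : Decidable (JacGen D p) := inferInstanceAs (Decidable (∀ s < _, ∀ q < _, _))

/-- The generators ±p_i. -/
def gens : List ℕ :=
  (List.range D.rank).map (fun i => D.simple i) ++ (List.range D.rank).map (fun i => D.neg (D.simple i))

/-- A list of triples (p, s, r) with p a generator, s known and r = p + s, reaching new roots r. -/
def DecOK : List ℕ → List (ℕ × ℕ × ℕ) → Prop
  | known, [] => ∀ r < D.nroots, r ∈ known
  | known, (p, s, r) :: L => p ∈ gens D ∧ s ∈ known ∧ s ≠ p ∧ s ≠ D.neg p ∧ D.chainRoot p s 1 = some r ∧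
      D.chainM p s 1 ≠ 0 ∧ DecOK (r :: known) L

instance decOKDecidable : ∀ (known : List ℕ) (L : List (ℕ × ℕ × ℕ)), Decidable (DecOK D known L)
  | known, [] => by unfold DecOK; infer_instance
  | known, (p, s, r) :: L => by
    unfold DecOK
    haveI := decOKDecidable (r :: known) L
    infer_instance

theorem eC_bcode (a : D.Idx) : eC D (bcode D a) = Pi.single a 1 := by
  ext b
  rcases a with i | u <;> rcases b with j | v <;>
    simp only [eC, bcode, Sum.elim_inl, Sum.elim_inr, Pi.single_apply, Sum.inl.injEq, Sum.inr.injEq,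
      reduceCtorEq, if_false, Fin.ext_iff]
  · split_ifs <;> first | rfl | omega
  · have := v.isLt; split_ifs <;> first | rfl | omega
  · have := u.isLt; split_ifs <;> first | rfl | omega
  · split_ifs <;> first | rfl | omega

theorem bcode_inl (i : Fin D.rank) : bcode D (Sum.inl i) = D.nroots + i.val := rfl

theorem bcode_inr {q : ℕ} (hq : q < D.nroots) : bcode D (Sum.inr ⟨q, hq⟩) = q := rfl

theorem bcode_lt (a : D.Idx) : bcode D a < D.nroots + D.rank := by
  rcases a with i | u
  · simp [bcode]
  · simp only [bcode, Sum.elim_inr]; have := u.isLt; omega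

theorem exists_bcode {c : ℕ} (hc : c < D.nroots + D.rank) : ∃ a, bcode D a = c := by
  by_cases h : c < D.nroots
  · exact ⟨Sum.inr ⟨c, h⟩, rfl⟩
  · exact ⟨Sum.inl ⟨c - D.nroots, by omega⟩, by simp [bcode]; omega⟩

theorem eC_eq_ev {q : ℕ} (hq : q < D.nroots) : eC D q = ev D ℤ q := by
  ext a
  rcases a with i | u
  · simp [eC, ev]; omega
  · simp [eC, ev]

section

variable {D}
variable (hroot : ∀ r < D.nroots, ∀ s < D.nroots, ∀ k, D.chainRoot r s 1 = some k → k < D.nroots)
include hroot

theorem evalC_colL {r : ℕ} (hr : r < D.nroots) (a : D.Idx) :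
    evalC D (colL D r (bcode D a)) = adE D ℤ r *ᵥ Pi.single a 1 := by
  rw [adE_col]
  rcases a with i | ⟨q, hq⟩
  · have : ¬ D.nroots + i.val < D.nroots := by omega
    simp [colL, bcode_inl, this, evalC, eC_eq_ev D hr, colA]
  · rw [bcode_inr]
    simp only [colL, if_pos hq, colA]
    split_ifs with h₁ h₂
    · simp [evalC]
    · ext b
      simp only [evalC, List.map_map]
      rw [Pi.list_sum_apply]
      rcases b with j | u
      · simp only [List.map_map, Function.comp_def, Pi.smul_apply, eC, Sum.elim_inl, smul_eq_mul, mul_ite,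
          mul_one, mul_zero, add_right_inj, hv, Int.cast_id]
        rw [← List.sum_toFinset _ List.nodup_range]
        simp [eq_comm, j.isLt]
      · simp [Function.comp_def, eC, hv, Nat.ne_of_lt (lt_of_lt_of_le u.isLt (Nat.le_add_right _ _))]
    · cases hk : D.chainRoot r q 1 with
      | none => simp [evalC]
      | some k => simp [evalC, eC_eq_ev D (hroot r hr q hq k hk)]

theorem evalC_adL (m a : D.Idx) :
    evalC D (adL D (bcode D m) (bcode D a)) = adB D ℤ m *ᵥ Pi.single a 1 := by
  rcases m with i | ⟨r, hr⟩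
  · have h : ¬ D.nroots + i.val < D.nroots := by omega
    simp only [adL, bcode_inl, if_neg h, adB, Nat.add_sub_cancel_left]
    rw [Matrix.diagonal_mulVec_single]
    rcases a with j | ⟨q, hq⟩
    · simp [bcode_inl, evalC]
    · rw [bcode_inr]
      simp only [if_pos hq, Sum.elim_inr, evalC, List.map_cons, List.map_nil, List.sum_cons, List.sum_nil,
        add_zero, mul_one, Int.cast_id]
      rw [show eC D q = Pi.single (Sum.inr ⟨q, hq⟩) 1 from eC_bcode D (Sum.inr ⟨q, hq⟩), ← Pi.single_smul]
      simp
  · simp only [adL, adB]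
    rw [show bcode D (Sum.inr ⟨r, hr⟩ : D.Idx) = r from rfl, if_pos hr]
    exact evalC_colL hroot hr a

theorem colL_lt {r c : ℕ} (hr : r < D.nroots) (hc : c < D.nroots + D.rank) :
    ∀ x ∈ colL D r c, x.1 < D.nroots + D.rank := by
  intro x hx
  simp only [colL] at hx
  split_ifs at hx with h₁ h₂ h₃
  · simp at hx
  · obtain ⟨i, hi, rfl⟩ := List.mem_map.1 hx
    rw [List.mem_range] at hi
    simp only
    omega
  · cases hk : D.chainRoot r c 1 with
    | none => simp [hk] at hx
    | some k =>
      have := hroot r hr c h₁ k hk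
      simp [hk] at hx
      subst hx
      simp only
      omega
  · simp at hx
    subst hx
    simp only
    omega

theorem adL_lt {m c : ℕ} (hm : m < D.nroots + D.rank) (hc : c < D.nroots + D.rank) :
    ∀ x ∈ adL D m c, x.1 < D.nroots + D.rank := by
  intro x hx
  simp only [adL] at hx
  split_ifs at hx with h₁ h₂
  · exact colL_lt hroot h₁ hc x hx
  · simp at hx
    subst hx
    simp only
    omega
  · simp at hx

theorem evalC_mulLst (m : D.Idx) : ∀ (L : List (ℕ × ℤ)), (∀ x ∈ L, x.1 < D.nroots + D.rank) →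
    evalC D (mulLst D (bcode D m) L) = adB D ℤ m *ᵥ evalC D L
  | [], _ => by simp [mulLst, evalC]
  | x :: L, h => by
    obtain ⟨a, ha⟩ := exists_bcode D (h x List.mem_cons_self)
    have ih := evalC_mulLst m L fun y hy => h y (List.mem_cons_of_mem x hy)
    simp only [evalC] at ih ⊢
    simp only [mulLst, List.map_append, List.sum_append, List.map_map, List.map_cons, List.sum_cons,
      Matrix.mulVec_add, ih, ← ha, eC_bcode, Matrix.mulVec_smul, ← evalC_adL hroot m a]
    congr 1
    rw [evalC, List.smul_sum, List.map_map]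
    simp only [Function.comp_def, mul_smul]

theorem jac_of_jacGen {p : ℕ} (hp : p < D.nroots) (h : JacGen D p) (v : D.Idx → ℤ) :
    adE D ℤ p * ad D ℤ v = ad D ℤ v * adE D ℤ p + ad D ℤ (adE D ℤ p *ᵥ v) := by
  have hb : ∀ b, adE D ℤ p * adB D ℤ b = adB D ℤ b * adE D ℤ p + ad D ℤ (colA D ℤ p b) := by
    intro b
    rw [← sub_eq_iff_eq_add']
    refine Matrix.ext_of_mulVec_single fun a => ?_
    have hz := sum_eq_zero_of_zeroSum (eC D) _ (h (bcode D b) (bcode_lt D b) (bcode D a) (bcode_lt D a))
    rw [List.map_append, List.map_append, List.sum_append, List.sum_append] at hz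
    have e₁ : evalC D (mulLst D p (adL D (bcode D b) (bcode D a))) =
        adE D ℤ p *ᵥ (adB D ℤ b *ᵥ Pi.single a 1) := by
      rw [← evalC_adL hroot b a]
      exact evalC_mulLst hroot (Sum.inr ⟨p, hp⟩) _ (adL_lt hroot (bcode_lt D b) (bcode_lt D a))
    have e₂ : evalC D (mulLst D (bcode D b) (colL D p (bcode D a))) =
        adB D ℤ b *ᵥ (adE D ℤ p *ᵥ Pi.single a 1) := by
      rw [← evalC_colL hroot hp a]
      exact evalC_mulLst hroot b _ (colL_lt hroot hp (bcode_lt D a))
    have e₃ : (((colL D p (bcode D b)).flatMap fun x => (adL D x.1 (bcode D a)).map fun y =>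
          (y.1, -(x.2 * y.2))).map (fun x => x.2 • eC D x.1)).sum =
        -(ad D ℤ (evalC D (colL D p (bcode D b))) *ᵥ Pi.single a 1) := by
      have hlt := colL_lt hroot hp (bcode_lt D b)
      generalize colL D p (bcode D b) = L at hlt
      induction L with
      | nil => ext b; simp [evalC, Matrix.mulVec, dotProduct]
      | cons x L ih =>
        obtain ⟨m, hm⟩ := exists_bcode D (hlt x List.mem_cons_self)
        rw [List.flatMap_cons, List.map_append, List.sum_append,
          ih fun y hy => hlt y (List.mem_cons_of_mem x hy)]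
        simp only [evalC, List.map_cons, List.sum_cons, map_add, map_smul, ← hm, eC_bcode, ad_single,
          Matrix.add_mulVec, Matrix.smul_mulVec, neg_add]
        congr 1
        rw [← evalC_adL hroot m a, evalC, List.smul_sum, List.sum_neg]
        simp only [List.map_map, Function.comp_def, neg_smul, mul_smul]
    rw [e₃, evalC_colL hroot hp b, adE_col] at hz
    rw [Matrix.sub_mulVec, ← Matrix.mulVec_mulVec, ← Matrix.mulVec_mulVec, ← e₁, ← e₂, ← sub_eq_zero, ← hz]
    simp only [evalC, List.map_map, Function.comp_def, neg_smul]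
    have hneg : ∀ (M : List (ℕ × ℤ)) (f : ℕ × ℤ → D.Idx → ℤ),
        (M.map fun x => -f x).sum = -(M.map f).sum := fun M f => by
      induction M with
      | nil => simp
      | cons x M ih => rw [List.map_cons, List.map_cons, List.sum_cons, List.sum_cons, ih, neg_add]
    rw [hneg]
    abel
  rw [show v = ∑ a, v a • Pi.single a (1 : ℤ) from pi_eq_sum_univ' v]
  simp only [Matrix.mulVec_sum, Matrix.mulVec_smul, map_sum, map_smul, Finset.sum_mul, Finset.mul_sum,
    Matrix.smul_mul, Matrix.mul_smul, adE_col, ad_single, ← Finset.sum_add_distrib, ← smul_add, hb]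

theorem jac_of_gen (hneg : ∀ r < D.nroots, D.neg r < D.nroots) (hsimple : ∀ i < D.rank, D.simple i < D.nroots)
    (hg : ∀ p ∈ gens D, JacGen D p) (L : List (ℕ × ℕ × ℕ)) (hL : DecOK D (gens D) L) :
    ∀ r < D.nroots, ∀ s (hs : s < D.nroots),
      adE D ℤ r * adE D ℤ s - adE D ℤ s * adE D ℤ r = ad D ℤ (colA D ℤ r (Sum.inr ⟨s, hs⟩)) := by
  have hgl : ∀ p ∈ gens D, p < D.nroots := by
    intro p hp
    simp only [gens, List.mem_append, List.mem_map, List.mem_range] at hp
    obtain ⟨i, hi, rfl⟩ | ⟨i, hi, rfl⟩ := hp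
    · exact hsimple i hi
    · exact hneg _ (hsimple i hi)
  have main : ∀ (L : List (ℕ × ℕ × ℕ)) (known : List ℕ),
      (∀ p ∈ known, p < D.nroots ∧ ∀ v, adE D ℤ p * ad D ℤ v = ad D ℤ v * adE D ℤ p + ad D ℤ (adE D ℤ p *ᵥ v)) →
      DecOK D known L → ∀ r < D.nroots, ∀ v,
        adE D ℤ r * ad D ℤ v = ad D ℤ v * adE D ℤ r + ad D ℤ (adE D ℤ r *ᵥ v) := by
    intro L
    induction L with
    | nil => exact fun known hk hd r hr => (hk r (hd r hr)).2
    | cons x L ih =>
      obtain ⟨p, s, r⟩ := x
      intro known hk hd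
      obtain ⟨hp, hs, h₁, h₂, h₃, h₄, h₅⟩ := hd
      refine ih _ ?_ h₅
      intro k hk'
      rcases List.mem_cons.1 hk' with rfl | hk'
      swap; · exact hk k hk'
      have hpn := hgl p hp
      obtain ⟨hsn, Ks⟩ := hk s hs
      have hrn := hroot p hpn s hsn k h₃
      refine ⟨hrn, fun v => ?_⟩
      have Kp := jac_of_jacGen hroot hpn (hg p hp)
      have hc : adE D ℤ p * adE D ℤ s - adE D ℤ s * adE D ℤ p = D.chainM p s 1 • adE D ℤ k := by
        have := Kp (ev D ℤ s)
        rw [ad_ev D hsn, adE_gen D p hsn h₁ h₂, h₃, map_smul, Option.elim_some, ad_ev D hrn] at this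
        rw [this, Int.cast_id]
        abel
      refine smul_right_injective (Matrix D.Idx D.Idx ℤ) h₄ ?_
      simp only [smul_add]
      rw [← Matrix.smul_mul, ← Matrix.mul_smul, ← map_smul, ← Matrix.smul_mulVec, ← hc]
      simp only [sub_mul, mul_sub, Matrix.sub_mulVec, map_sub, ← Matrix.mulVec_mulVec, mul_assoc, Ks, mul_add,
        add_mul, Kp]
      simp only [← mul_assoc, Ks, Kp, add_mul]
      abel
  intro r hr s hs
  have := main L (gens D) (fun p hp => ⟨hgl p hp, jac_of_jacGen hroot (hgl p hp) (hg p hp)⟩) hL r hr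
    (ev D ℤ s)
  rw [ad_ev D hs, ev_of_lt D ℤ hs, adE_col] at this
  rw [this]
  abel

end

/-- `o` is read from a list. -/
def OrdCheck (o : List ℤ) : Prop :=
  (∀ r < D.nroots - 1, o.getD r 0 < o.getD (r + 1) 0) ∧
  (∀ r < D.nroots, o.getD (D.neg r) 0 = -o.getD r 0 ∧ o.getD r 0 ≠ 0 ∧
    (D.IsPosRoot r ↔ 0 < o.getD r 0) ∧ (D.IsNegRoot r ↔ o.getD r 0 < 0))

instance (o : List ℤ) : Decidable (OrdCheck D o) := inferInstanceAs (Decidable (_ ∧ _))

theorem ordOK_of_check {o : List ℤ} (h : OrdCheck D o)
    (hadd : ∀ r < D.nroots, ∀ s < D.nroots, ∀ k, D.chainRoot r s 1 = some k →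
      o.getD k 0 = o.getD r 0 + o.getD s 0) : OrdOK D fun r => o.getD r 0 := by
  refine ⟨?_, hadd, fun r hr => (h.2 r hr).1, fun r hr => (h.2 r hr).2.1, fun r hr => (h.2 r hr).2.2.1,
    fun r hr => (h.2 r hr).2.2.2⟩
  intro r hr s hs hrs
  induction s with
  | zero => omega
  | succ s ih =>
    have hstep := h.1 s (by omega)
    rcases Nat.lt_succ_iff_lt_or_eq.1 hrs with h' | h'
    · exact lt_trans (ih (by omega) h') hstep
    · subst h'; exact hstep

/-- The conditions on a single root. -/
def RootCheck (cs : List (List ℤ)) (r : ℕ) : Prop :=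
  D.neg r < D.nroots ∧ D.neg r ≠ r ∧ D.neg (D.neg r) = r ∧ KeysNodup D r ∧ D.pairing r r = 2 ∧
  (∀ i < D.rank, D.cartan i (D.neg r) = -D.cartan i r ∧
    (D.coroot.getD (D.neg r) #[]).getD i 0 = -(D.coroot.getD r #[]).getD i 0) ∧
  ((List.range D.rank).map fun i => (cs.getD r []).getD i 0 * (D.coroot.getD r #[]).getD i 0).sum = 1

instance (r : ℕ) : Decidable (KeysNodup D r) := inferInstanceAs (Decidable (List.Nodup _))

instance (cs : List (List ℤ)) (r : ℕ) : Decidable (RootCheck D cs r) :=
  inferInstanceAs (Decidable (_ ∧ _))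

/-- The conditions on a pair of roots. -/
def PairCheck (o : List ℤ) (r s : ℕ) : Prop :=
  (match D.chainRoot r s 1 with
    | none => True
    | some k => k < D.nroots ∧ (∀ i < D.rank, D.cartan i k = D.cartan i r + D.cartan i s) ∧
        o.getD k 0 = o.getD r 0 + o.getD s 0) ∧
  (s = r ∨ s = D.neg r ∨ (StepOK D r (D.chainEntry r s) 0 1 s ∧ CommOK D r s ∧ NOK D r s))

instance (o : List ℤ) (r s : ℕ) : Decidable (PairCheck D o r s) := by
  unfold PairCheck
  split <;> infer_instance

theorem good_of_checks (o : List ℤ) (cs : List (List ℤ)) (L : List (ℕ × ℕ × ℕ))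
    (hroot : ∀ r < D.nroots, RootCheck D cs r) (hpair : ∀ r < D.nroots, ∀ s < D.nroots, PairCheck D o r s)
    (hord : OrdCheck D o)
    (hsimple : ∀ i < D.rank, D.simple i < D.nroots ∧
      ∀ j < D.rank, (D.coroot.getD (D.simple i) #[]).getD j 0 = if j = i then 1 else 0)
    (hgen : ∀ p ∈ gens D, JacGen D p) (hdec : DecOK D (gens D) L) : Good D where
  neg_lt r hr := (hroot r hr).1
  neg_ne r hr := (hroot r hr).2.1
  neg_neg r hr := (hroot r hr).2.2.1
  keys r hr := (hroot r hr).2.2.2.1
  pairing_self r hr := (hroot r hr).2.2.2.2.1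
  cartan_neg r hr i hi := ((hroot r hr).2.2.2.2.2.1 i hi).1
  coroot_neg r hr i hi := ((hroot r hr).2.2.2.2.2.1 i hi).2
  coroot_prim r hr := by
    refine ⟨fun i => (cs.getD r []).getD i.val 0, ?_⟩
    rw [Fin.sum_univ_eq_sum_range fun i => (cs.getD r []).getD i 0 * (D.coroot.getD r #[]).getD i 0]
    rw [← List.toFinset_range, List.sum_toFinset _ List.nodup_range]
    exact (hroot r hr).2.2.2.2.2.2
  step r hr s hs h₁ h₂ := by
    rcases (hpair r hr s hs).2 with h | h | h
    exacts [absurd h h₁, absurd h h₂, h.1]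
  comm r hr s hs h₁ h₂ := by
    rcases (hpair r hr s hs).2 with h | h | h
    exacts [absurd h h₁, absurd h h₂, h.2.1]
  nword r hr s hs h₁ h₂ := by
    rcases (hpair r hr s hs).2 with h | h | h
    exacts [absurd h h₁, absurd h h₂, h.2.2]
  cartan_add r hr s hs k hk := by
    have := (hpair r hr s hs).1
    simp only [hk] at this
    exact ⟨this.1, this.2.1⟩
  simple_lt i hi := (hsimple i hi).1
  simple_coroot i hi := (hsimple i hi).2
  jac := jac_of_gen (fun r hr s hs k hk => by
      have := (hpair r hr s hs).1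
      simp only [hk] at this
      exact this.1)
    (fun r hr => (hroot r hr).1) (fun i hi => (hsimple i hi).1) hgen L hdec
  order := ⟨_, ordOK_of_check D hord fun r hr s hs k hk => by
    have := (hpair r hr s hs).1
    simp only [hk] at this
    exact this.2.2⟩

end Cfsg.Agent.Chev
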