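/-
Chevalley groups: the checks of `Chev/Check.lean` evaluated on packed copies of the tables.

The kernel pays for every step of a walk along an array, so the small tables are read once into numerals
(`Packed`, `PackedOK`), and the checks are run on those.
-/
import Cfsg.Agent.Lib.Chev.TableCheck

set_option autoImplicit false

namespace Cfsg.Agent.Chev

open Cfsg.Lie
open Cfsg.Lie.ChevalleyDatum

/-- Packed tables. -/
structure Packed where
  n : ℕ
  l : ℕ
  /-- width of a field of `ch` -/
  w : ℕ
  /-- chain entries, field n r + s: two bits for the length, then twelve bits for a term -/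
  ch : ℕ
  /-- pairings plus 8, four bits, field n r + s -/
  pr : ℕ
  /-- Cartan integers plus 8, four bits, field n i + s -/
  ca : ℕ

/-- One term of a field. -/
def unTerm (x : ℕ) : ℕ × ℤ := (x % 256, Int.subNatNat ((x / 256) % 16) 8)

/-- The entries of a field. -/
def unField (x : ℕ) : List (ℕ × ℤ) :=
  if x % 4 = 0 then []
  else if x % 4 = 1 then [unTerm (x / 4)]
  else if x % 4 = 2 then [unTerm (x / 4), unTerm (x / 2 ^ 14)]
  else [unTerm (x / 4), unTerm (x / 2 ^ 14), unTerm (x / 2 ^ 26)]

namespace Packed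

variable (T : Packed)

/-- chainEntry -/
def ent (r s : ℕ) : List (ℕ × ℤ) :=
  if Nat.blt r T.n && Nat.blt s T.n then unField ((T.ch >>> (T.w * (T.n * r + s))) % 2 ^ T.w) else []

/-- neg -/
def neg (r : ℕ) : ℕ := if Nat.blt r T.n then T.n - 1 - r else 0

/-- pairing -/
def pair (r s : ℕ) : ℤ := Int.subNatNat ((T.pr >>> (4 * (T.n * r + s))) % 16) 8

/-- cartan -/
def cartan (i s : ℕ) : ℤ :=
  if Nat.blt i T.l && Nat.blt s T.n then Int.subNatNat ((T.ca >>> (4 * (T.n * i + s))) % 16) 8 else 0

end Packed

/-! ### The checks relative to given lookup functions -/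

section F

variable (n l : ℕ) (ng : ℕ → ℕ) (ent : ℕ → ℕ → List (ℕ × ℤ)) (pr : ℕ → ℕ → ℤ) (ca : ℕ → ℕ → ℤ)
  (co : ℕ → ℕ → ℤ)

/-- chainRoot -/
def rootF (r s i : ℕ) : Option ℕ := ((ent r s)[i - 1]?).map Prod.fst

/-- chainM -/
def coefF (r s i : ℕ) : ℤ := (((ent r s)[i - 1]?).map Prod.snd).getD 0

/-- StepOK -/
def StepOKF (r : ℕ) : List (ℕ × ℤ) → ℕ → ℤ → ℕ → Prop
  | [], _, _, q => q < n ∧ q ≠ r ∧ q ≠ ng r ∧ ent r q = []
  | (q', M') :: L, k, M, q => q < n ∧ q ≠ r ∧ q ≠ ng r ∧ rootF ent r q 1 = some q' ∧
      ((k + 1 : ℕ) : ℤ) * M' = M * coefF ent r q 1 ∧ StepOKF r L (k + 1) M' q'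

instance stepOKFDecidable (r : ℕ) :
    ∀ (L : List (ℕ × ℤ)) (k : ℕ) (M : ℤ) (q : ℕ), Decidable (StepOKF n ng ent r L k M q)
  | [], _, _, _ => by unfold StepOKF; infer_instance
  | (q', M') :: L, k, M, q => by
    unfold StepOKF
    haveI := stepOKFDecidable r L (k + 1) M' q'
    infer_instance

/-- applyOne -/
def applyOneF (g τ : Term) : Option (List Term) :=
  if τ.1 = ng g.1 ∨ n ≤ τ.1 then none
  else if τ.1 = g.1 then some [τ]
  else some (τ :: ((ent g.1 τ.1).zipIdx.map fun q =>
    (q.1.1, τ.2.1 * g.2.1 ^ (q.2 + 1) * q.1.2, τ.2.2.1 + (q.2 + 1) * g.2.2.1, τ.2.2.2 + (q.2 + 1) * g.2.2.2)))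

/-- applyAll -/
def applyAllF (g : Term) : List Term → Option (List Term)
  | [] => some []
  | τ :: L => match applyOneF n ng ent g τ, applyAllF g L with
    | some A, some B => some (A ++ B)
    | _, _ => none

/-- wTerms -/
def wTermsF : List Term → Option (List Term)
  | [] => some []
  | g :: L =>
    if g.1 < n then
      match wTermsF L with
      | some W => match applyAllF n ng ent g W with
        | some A => some ((g.1, g.2.1 * g.2.2.2, g.2.2.1, g.2.2.2 - 1) :: A)
        | none => none
      | none => none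
    else none

/-- commTerms -/
def commTermsF (r s : ℕ) : List (ℕ × ℤ × ℕ × ℕ) :=
  let rs := rootF ent r s 1
  let cands : List (Option ℕ × ℤ × ℕ × ℕ) :=
    [ (rootF ent r s 1, coefF ent r s 1, 1, 1),
      (rootF ent r s 2, coefF ent r s 2, 2, 1),
      (rootF ent s r 2, coefF ent s r 2, 1, 2),
      (rootF ent r s 3, coefF ent r s 3, 3, 1),
      (rootF ent s r 3, - coefF ent s r 3, 1, 3),
      ((rootF ent r s 3).bind fun k => rootF ent k s 1, (rs.map fun k => coefF ent k r 2 / 3).getD 0, 3, 2),
      ((rootF ent s r 3).bind fun k => rootF ent k r 1, (rs.map fun k => -2 * coefF ent k s 2 / 3).getD 0, 2, 3) ]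
  cands.filterMap fun c => c.1.map fun k => (k, c.2)

/-- CommOK -/
def CommOKF (r s : ℕ) : Prop :=
  match wTermsF n ng ent ((s, 1, 0, 1) :: commTermsF ent r s),
      applyAllF n ng ent (r, 1, 1, 0) [(s, 1, 0, 0)] with
  | some W, some E => ZeroSum (W.map keyIJ ++ E.map keyIJneg)
  | _, _ => False

instance (r s : ℕ) : Decidable (CommOKF n ng ent r s) := by
  unfold CommOKF
  split <;> infer_instance

/-- refl -/
def reflF (r s : ℕ) : ℕ :=
  if s = r then ng r
  else if s = ng r then r
  else if 0 < pr r s then (rootF ent (ng r) s (pr r s).toNat).getD s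
  else if pr r s < 0 then (rootF ent r s (-pr r s).toNat).getD s
  else s

/-- nTerms -/
def nTermsF (r s : ℕ) : Option (List Term) :=
  ((applyAllF n ng ent (r, 1, 1, 0) [(s, 1, 0, 0)]).bind (applyAllF n ng ent (ng r, -1, 0, 1))).bind
    (applyAllF n ng ent (r, 1, 1, 0))

/-- nSign -/
def nSignF (r s : ℕ) : ℤ :=
  if s = r ∨ s = ng r then -1
  else match nTermsF n ng ent r s with
    | some C => (C.map fun τ => τ.2.1).sum
    | none => 0

/-- NOK -/
def NOKF (r s : ℕ) : Prop :=
  (match nTermsF n ng ent r s with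
    | some C => ZeroSum (C.map keyD ++ [((reflF ng ent pr r s, -pr r s), -nSignF n ng ent r s)])
    | none => False) ∧
    reflF ng ent pr r s < n ∧ reflF ng ent pr r (reflF ng ent pr r s) = s ∧ reflF ng ent pr r s ≠ r ∧
    reflF ng ent pr r s ≠ ng r ∧
    pr r (reflF ng ent pr r s) = -pr r s ∧
    (nSignF n ng ent r s = 1 ∨ nSignF n ng ent r s = -1) ∧
    nSignF n ng ent r s * nSignF n ng ent r (reflF ng ent pr r s) = (-1) ^ (pr r s).natAbs ∧
    nSignF n ng ent r s * nSignF n ng ent r (ng s) = 1

instance (r s : ℕ) : Decidable (NOKF n ng ent pr r s) := by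
  unfold NOKF
  split <;> infer_instance

/-- colL -/
def colLF (r c : ℕ) : List (ℕ × ℤ) :=
  if c < n then
    if c = r then []
    else if c = ng r then (List.range l).map fun i => (n + i, co r i)
    else match rootF ent r c 1 with
      | some k => [(k, coefF ent r c 1)]
      | none => []
  else [(r, -ca (c - n) r)]

/-- adL -/
def adLF (m c : ℕ) : List (ℕ × ℤ) :=
  if m < n then colLF n l ng ent ca co m c
  else if c < n then [(c, ca (m - n) c)] else []

/-- mulLst -/
def mulLF (m : ℕ) : List (ℕ × ℤ) → List (ℕ × ℤ)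
  | [] => []
  | x :: L => (adLF n l ng ent ca co m x.1).map (fun y => (y.1, x.2 * y.2)) ++ mulLF m L

/-- JacCol -/
def JacColF (p s q : ℕ) : Prop :=
  ZeroSum (mulLF n l ng ent ca co p (adLF n l ng ent ca co s q) ++
    (mulLF n l ng ent ca co s (colLF n l ng ent ca co p q)).map (fun y => (y.1, -y.2)) ++
    ((colLF n l ng ent ca co p s).flatMap fun x =>
      (adLF n l ng ent ca co x.1 q).map fun y => (y.1, -(x.2 * y.2))))

instance (p s q : ℕ) : Decidable (JacColF n l ng ent ca co p s q) := inferInstanceAs (Decidable (ZeroSum _))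

/-- JacGen -/
def JacGenF (p : ℕ) : Prop := ∀ s < n + l, ∀ q < n + l, JacColF n l ng ent ca co p s q

instance (p : ℕ) : Decidable (JacGenF n l ng ent ca co p) := inferInstanceAs (Decidable (∀ s < _, ∀ q < _, _))

/-! The same conditions as Boolean programs with inexpensive comparisons. -/

/-- Equality of integers. -/
def intBeq : ℤ → ℤ → Bool
  | Int.ofNat a, Int.ofNat b => Nat.beq a b
  | Int.negSucc a, Int.negSucc b => Nat.beq a b
  | _, _ => false

theorem eq_of_intBeq : ∀ {a b : ℤ}, intBeq a b = true → a = b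
  | Int.ofNat _, Int.ofNat _, h => congrArg Int.ofNat (Nat.eq_of_beq_eq_true h)
  | Int.negSucc _, Int.negSucc _, h => congrArg Int.negSucc (Nat.eq_of_beq_eq_true h)
  | Int.ofNat _, Int.negSucc _, h => Bool.noConfusion h
  | Int.negSucc _, Int.ofNat _, h => Bool.noConfusion h

/-- The sum of the values with a given key. -/
def keySum {κ : Type} (eq : κ → κ → Bool) (k : κ) : List (κ × ℤ) → ℤ
  | [] => 0
  | x :: L => bif eq x.1 k then Int.add x.2 (keySum eq k L) else keySum eq k L

/-- `ZeroSum` as a Boolean. -/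
def zeroB {κ : Type} (eq : κ → κ → Bool) (L : List (κ × ℤ)) : Bool :=
  L.all fun a => intBeq (keySum eq a.1 L) (Int.ofNat 0)

theorem zeroSum_of_zeroB {κ : Type} [DecidableEq κ] {eq : κ → κ → Bool}
    (heq : ∀ a b, eq a b = true ↔ a = b) {L : List (κ × ℤ)} (h : zeroB eq L = true) : ZeroSum L := by
  intro a ha
  have hk : ∀ M : List (κ × ℤ), keySum eq a.1 M = ((M.filter fun x => decide (x.1 = a.1)).map Prod.snd).sum := by
    intro M
    induction M with
    | nil => rfl
    | cons x M ih =>
      cases hx : eq x.1 a.1 with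
      | true => simp [keySum, (heq _ _).1 hx, (heq a.1 a.1).2 rfl, ih]
      | false =>
        have : ¬ x.1 = a.1 := fun e => by rw [(heq _ _).2 e] at hx; exact Bool.noConfusion hx
        simp [keySum, hx, this, ih]
  rw [← hk]
  exact eq_of_intBeq (List.all_eq_true.1 h a ha)

/-- Comparison of the keys of the commutator check. -/
def beqIJ (a b : ℕ × ℕ × ℕ) : Bool := Nat.beq a.1 b.1 && (Nat.beq a.2.1 b.2.1 && Nat.beq a.2.2 b.2.2)

theorem beqIJ_iff (a b : ℕ × ℕ × ℕ) : beqIJ a b = true ↔ a = b := by
  simp [beqIJ, Prod.ext_iff]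

/-- Comparison of the keys of the check of n_r. -/
def beqD (a b : ℕ × ℤ) : Bool := Nat.beq a.1 b.1 && intBeq a.2 b.2

theorem intBeq_self : ∀ a : ℤ, intBeq a a = true
  | Int.ofNat a => Nat.beq_refl a
  | Int.negSucc a => Nat.beq_refl a

theorem beqD_iff (a b : ℕ × ℤ) : beqD a b = true ↔ a = b := by
  constructor
  · intro h
    simp only [beqD, Bool.and_eq_true] at h
    exact Prod.ext (Nat.eq_of_beq_eq_true h.1) (eq_of_intBeq h.2)
  · rintro rfl
    simp [beqD, intBeq_self]

/-- CommOK as a Boolean. -/
def commB (r s : ℕ) : Bool :=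
  match wTermsF n ng ent ((s, 1, 0, 1) :: commTermsF ent r s),
      applyAllF n ng ent (r, 1, 1, 0) [(s, 1, 0, 0)] with
  | some W, some E => zeroB beqIJ (W.map keyIJ ++ E.map keyIJneg)
  | _, _ => false

theorem commOKF_of_commB {r s : ℕ} (h : commB n ng ent r s = true) : CommOKF n ng ent r s := by
  unfold commB at h
  unfold CommOKF
  split at h
  next W E hW hE => exact zeroSum_of_zeroB beqIJ_iff h
  next => exact Bool.noConfusion h

/-- NOK as a Boolean. -/
def nB (r s : ℕ) : Bool :=
  match nTermsF n ng ent r s with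
  | some C =>
    let k := reflF ng ent pr r s
    let η := (C.map fun τ => τ.2.1).sum
    let d := pr r s
    zeroB beqD (C.map keyD ++ [((k, -d), -η)]) &&
      (Nat.blt k n && (Nat.beq (reflF ng ent pr r k) s && (!Nat.beq k r && (!Nat.beq k (ng r) &&
        (intBeq (pr r k) (-d) && ((intBeq η 1 || intBeq η (-1)) &&
          (intBeq (η * nSignF n ng ent r k) (bif Nat.beq (d.natAbs % 2) 0 then 1 else -1) &&
            intBeq (η * nSignF n ng ent r (ng s)) 1)))))))
  | none => false

theorem nOKF_of_nB {r s : ℕ} (h₁ : s ≠ r) (h₂ : s ≠ ng r) (h : nB n ng ent pr r s = true) :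
    NOKF n ng ent pr r s := by
  unfold nB at h
  unfold NOKF
  cases hC : nTermsF n ng ent r s with
  | none => simp [hC] at h
  | some C =>
    have hη : nSignF n ng ent r s = (C.map fun τ => τ.2.1).sum := by simp [nSignF, h₁, h₂, hC]
    simp only [hC, Bool.and_eq_true, Bool.or_eq_true, Bool.not_eq_true', beq_iff_eq] at h
    obtain ⟨a, b, c, d, e, f, g, i, j⟩ := h
    have b' : reflF ng ent pr r s < n := by simpa [Nat.blt] using b
    rw [hη]
    refine ⟨zeroSum_of_zeroB beqD_iff a, b', Nat.eq_of_beq_eq_true c, ?_, ?_, eq_of_intBeq f,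
      g.imp eq_of_intBeq eq_of_intBeq, ?_, eq_of_intBeq j⟩
    · intro e'; rw [e', Nat.beq_refl] at d; exact Bool.noConfusion d
    · intro e'; rw [e', Nat.beq_refl] at e; exact Bool.noConfusion e
    · rw [eq_of_intBeq i]
      rcases Nat.mod_two_eq_zero_or_one (pr r s).natAbs with m | m
      · rw [m, (Nat.even_iff.2 m).neg_one_pow]; rfl
      · rw [m, (Nat.odd_iff.2 m).neg_one_pow]; rfl

/-- JacCol as a Boolean, for all columns. -/
def jacB (p : ℕ) : Bool :=
  (List.range (n + l)).all fun s => (List.range (n + l)).all fun q =>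
    zeroB Nat.beq (mulLF n l ng ent ca co p (adLF n l ng ent ca co s q) ++
      ((mulLF n l ng ent ca co s (colLF n l ng ent ca co p q)).map (fun y => (y.1, -y.2)) ++
      ((colLF n l ng ent ca co p s).flatMap fun x =>
        (adLF n l ng ent ca co x.1 q).map fun y => (y.1, -(x.2 * y.2)))))

theorem jacGenF_of_jacB {p : ℕ} (h : jacB n l ng ent ca co p = true) : JacGenF n l ng ent ca co p := by
  intro s hs q hq
  have := List.all_eq_true.1 (List.all_eq_true.1 h s (List.mem_range.2 hs)) q (List.mem_range.2 hq)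
  rw [JacColF, List.append_assoc]
  exact zeroSum_of_zeroB (fun a b => ⟨Nat.eq_of_beq_eq_true, fun e => e ▸ Nat.beq_refl a⟩) this

end F

/-! ### Agreement with the tables -/

variable (D : ChevalleyDatum) (T : Packed)

/-- The packed tables agree with those of the datum. -/
structure PackedOK : Prop where
  n_eq : T.n = D.nroots
  l_eq : T.l = D.rank
  size : D.chain.toList.length = D.nroots
  negs : D.negIdx.toList = (List.range D.nroots).map fun r => D.nroots - 1 - r
  carts : (D.cartanSR.toList.map fun c => c.toList) =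
    (List.range D.rank).map fun i => (List.range D.nroots).map fun r => T.cartan i r
  keys : ∀ r < D.nroots, KeysNodup D r
  chains : ∀ r < D.nroots, ((D.chain.getD r #[]).toList.map fun e => (e.1, e.2.toList)) =
    ((List.range D.nroots).filterMap fun s => if T.ent r s = [] then none else some (s, T.ent r s))
  pairs : ∀ r < D.nroots, ∀ s < D.nroots, D.pairing r s = T.pair r s

namespace PackedOK

variable {D T} (h : PackedOK D T)
include h

theorem neg_eq (r : ℕ) : D.neg r = T.neg r := by
  have e : D.negIdx.getD r 0 = D.negIdx.toList.getD r 0 := by simp [Array.getD_eq_getD_getElem?, List.getD]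
  rw [ChevalleyDatum.neg, e, h.negs, Packed.neg, h.n_eq]
  by_cases hr : r < D.nroots
  · simp [List.getD, hr, Nat.blt]
  · simp [List.getD, Nat.not_lt.1 hr, Nat.blt]

theorem cartan_eq (i r : ℕ) : D.cartan i r = T.cartan i r := by
  have e : D.cartan i r = ((D.cartanSR.toList.map fun c => c.toList).getD i []).getD r 0 := by
    rw [ChevalleyDatum.cartan]
    cases hc : D.cartanSR[i]? with
    | none => simp [Array.getD_eq_getD_getElem?, hc, List.getD, List.getElem?_map, Array.getElem?_toList]
    | some c => simp [Array.getD_eq_getD_getElem?, hc, List.getD, List.getElem?_map, Array.getElem?_toList]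
  rw [e, h.carts, List.getD, List.getD, List.getElem?_map]
  by_cases hi : i < D.rank
  · rw [List.getElem?_range hi, Option.map_some, Option.getD_some, List.getElem?_map]
    by_cases hr : r < D.nroots
    · simp [List.getElem?_range hr]
    · rw [List.getElem?_eq_none (by simpa using Nat.not_lt.1 hr)]
      simp [Packed.cartan, h.n_eq, Nat.blt]
      omega
  · have e0 : (List.range D.rank)[i]? = none := List.getElem?_eq_none (by simpa using Nat.not_lt.1 hi)
    simp [e0, Packed.cartan, h.l_eq, Nat.blt]
    omega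

theorem ent_eq : D.chainEntry = T.ent := by
  funext r s
  unfold ChevalleyDatum.chainEntry
  by_cases hr : r < D.nroots
  · have hc := h.chains r hr
    have key : ((D.chain.getD r #[]).toList.map fun e => (e.1, e.2.toList)).find? (fun e => decide (e.1 = s)) =
        ((D.chain.getD r #[]).toList.find? fun e => decide (e.1 = s)).map fun e => (e.1, e.2.toList) := by
      rw [List.find?_map]; rfl
    rw [hc] at key
    have hR : ((List.range D.nroots).filterMap fun x => if T.ent r x = [] then none else some (x, T.ent r x)).find?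
        (fun e => decide (e.1 = s)) = if T.ent r s = [] then none else some (s, T.ent r s) := by
      by_cases he : T.ent r s = []
      · rw [if_pos he, List.find?_eq_none]
        intro e hm
        obtain ⟨x, -, hx⟩ := List.mem_filterMap.1 hm
        split_ifs at hx with hxe
        cases hx
        simp only [decide_eq_true_eq]
        exact fun hxs => hxe (hxs ▸ he)
      · rw [if_neg he]
        have hs : s < D.nroots := by
          by_contra hs
          apply he
          simp only [Packed.ent, h.n_eq, Nat.blt, Bool.and_eq_true, Nat.ble_eq]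
          rw [if_neg]
          omega
        generalize hg : List.find? _ _ = o
        cases o with
        | none =>
          rw [List.find?_eq_none] at hg
          have := hg (s, T.ent r s) (List.mem_filterMap.2 ⟨s, List.mem_range.2 hs, by rw [if_neg he]⟩)
          simp at this
        | some e =>
          obtain ⟨x, -, hx⟩ := List.mem_filterMap.1 (List.mem_of_find?_eq_some hg)
          have hxs := List.find?_some hg
          split_ifs at hx with hxe
          cases hx
          simp only [decide_eq_true_eq] at hxs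
          rw [hxs]
    rw [hR] at key
    cases hf : (D.chain.getD r #[]).toList.find? fun e => decide (e.1 = s) with
    | none =>
      rw [hf] at key
      split_ifs at key with he
      · exact he.symm
      · simp at key
    | some e =>
      rw [hf] at key
      split_ifs at key with he
      · simp at key
      · simp only [Option.map_some, Option.some.injEq, Prod.mk.injEq] at key
        exact key.2.symm
  · have : D.chain.getD r #[] = #[] := by
      have hs := h.size
      rw [Array.length_toList] at hs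
      simp [Array.getD_eq_getD_getElem?, Array.getElem?_eq_none (show D.chain.size ≤ r by omega)]
    simp only [this, Packed.ent, h.n_eq, Nat.blt, Bool.and_eq_true, Nat.ble_eq]
    rw [if_neg (by omega)]
    simp

theorem stepOK {r s : ℕ} (H : StepOKF T.n T.neg T.ent r (T.ent r s) 0 1 s) :
    StepOK D r (D.chainEntry r s) 0 1 s := by
  rw [h.ent_eq]
  generalize T.ent r s = L at H ⊢
  generalize (0 : ℕ) = k, (1 : ℤ) = M at H ⊢
  induction L generalizing k M s with
  | nil =>
    simp only [StepOKF, h.n_eq, ← h.neg_eq, ← h.ent_eq] at H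
    exact H
  | cons x L ih =>
    obtain ⟨q', M'⟩ := x
    simp only [StepOKF, h.n_eq, ← h.neg_eq, ← h.ent_eq] at H
    exact ⟨H.1, H.2.1, H.2.2.1, H.2.2.2.1, H.2.2.2.2.1, ih _ _ (by rw [h.n_eq]; simpa only [h.ent_eq, show D.neg = T.neg from funext h.neg_eq] using H.2.2.2.2.2)⟩

theorem neg_fun : T.neg = D.neg := (funext h.neg_eq).symm

theorem applyAll_eq (g : Term) : applyAllF T.n T.neg T.ent g = applyAll D g := by
  rw [h.n_eq, ← h.ent_eq, h.neg_fun]
  funext L
  induction L with
  | nil => rfl
  | cons τ L ih => simp only [applyAllF, applyAll, ih]; rfl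

theorem wTerms_eq (L : List Term) : wTermsF T.n T.neg T.ent L = wTerms D L := by
  induction L with
  | nil => rfl
  | cons g L ih => simp only [wTermsF, wTerms, ih, h.applyAll_eq]; rw [h.n_eq]; rfl

theorem commOK {r s : ℕ} (H : CommOKF T.n T.neg T.ent r s) : CommOK D r s := by
  unfold CommOKF at H
  rw [h.wTerms_eq, h.applyAll_eq, ← h.ent_eq] at H
  exact H

theorem nSign_eq (r s : ℕ) : nSignF T.n T.neg T.ent r s = nSign D r s := by
  simp only [nSignF, nTermsF, h.applyAll_eq]
  rw [h.neg_fun]
  rfl

theorem refl_eq {r s : ℕ} (hr : r < D.nroots) (hs : s < D.nroots) :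
    reflF T.neg T.ent T.pair r s = refl D r s := by
  simp only [reflF, refl, rootF, ChevalleyDatum.chainRoot, ← h.pairs r hr s hs, ← h.neg_eq, h.ent_eq]

theorem nOK {r s : ℕ} (hr : r < D.nroots) (hs : s < D.nroots) (H : NOKF T.n T.neg T.ent T.pair r s) :
    NOK D r s := by
  obtain ⟨h₁, h₂, h₃, h₄, h₅, h₆, h₇, h₈, h₉⟩ := H
  rw [h.n_eq, h.refl_eq hr hs] at h₂
  rw [h.refl_eq hr hs] at h₁ h₃ h₄ h₅ h₆ h₈
  rw [h.refl_eq hr h₂] at h₃
  rw [← h.pairs r hr _ h₂, ← h.pairs r hr s hs] at h₆
  rw [h.nSign_eq, h.nSign_eq, ← h.pairs r hr s hs] at h₈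
  rw [← h.neg_eq, h.nSign_eq, h.nSign_eq] at h₉
  rw [← h.neg_eq] at h₅
  rw [h.nSign_eq] at h₇
  simp only [← h.pairs r hr s hs, h.nSign_eq, nTermsF, ← h.neg_eq, h.applyAll_eq] at h₁
  exact ⟨h₁, h₂, h₃, h₄, h₅, h₆, h₇, h₈, h₉⟩

theorem jacGen {p : ℕ}
    (H : JacGenF T.n T.l T.neg T.ent T.cartan (fun r i => (D.coroot.getD r #[]).getD i 0) p) : JacGen D p := by
  have hc : ∀ r c, colLF T.n T.l T.neg T.ent T.cartan (fun r i => (D.coroot.getD r #[]).getD i 0) r c =
      colL D r c := by
    intro r c
    rw [h.n_eq, h.l_eq, ← h.ent_eq, h.neg_fun,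
      show T.cartan = D.cartan from funext fun i => funext fun r => (h.cartan_eq i r).symm]
    rfl
  have ha : ∀ m c, adLF T.n T.l T.neg T.ent T.cartan (fun r i => (D.coroot.getD r #[]).getD i 0) m c =
      adL D m c := by
    intro m c
    simp only [adLF, adL, hc]
    simp only [h.n_eq, ← h.cartan_eq]
  have hm : ∀ m L, mulLF T.n T.l T.neg T.ent T.cartan (fun r i => (D.coroot.getD r #[]).getD i 0) m L =
      mulLst D m L := by
    intro m L
    induction L with
    | nil => rfl
    | cons x L ih => simp only [mulLF, mulLst, ha, ih]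
  intro s hs q hq
  have := H s (by rw [h.n_eq, h.l_eq]; exact hs) q (by rw [h.n_eq, h.l_eq]; exact hq)
  simp only [JacColF, hm, ha, hc] at this
  exact this

end PackedOK

/-- The conditions on a pair of roots, on packed tables. -/
def PairCheckF (o : List ℤ) (r s : ℕ) : Prop :=
  (match rootF T.ent r s 1 with
    | none => True
    | some k => k < T.n ∧ (∀ i < T.l, T.cartan i k = T.cartan i r + T.cartan i s) ∧
        o.getD k 0 = o.getD r 0 + o.getD s 0) ∧
  (s = r ∨ s = T.neg r ∨
    (StepOKF T.n T.neg T.ent r (T.ent r s) 0 1 s ∧ CommOKF T.n T.neg T.ent r s ∧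
      NOKF T.n T.neg T.ent T.pair r s))

instance (o : List ℤ) (r s : ℕ) : Decidable (PairCheckF T o r s) := by
  unfold PairCheckF
  split <;> infer_instance

theorem PackedOK.pairCheck {D : ChevalleyDatum} {T : Packed} (h : PackedOK D T) {o : List ℤ} {r s : ℕ}
    (hr : r < D.nroots) (hs : s < D.nroots) (H : PairCheckF T o r s) : PairCheck D o r s := by
  obtain ⟨H₁, H₂⟩ := H
  refine ⟨?_, ?_⟩
  · simp only [rootF, ← h.ent_eq, h.n_eq, h.l_eq, ← h.cartan_eq] at H₁
    exact H₁
  · rw [← h.neg_eq] at H₂
    exact H₂.imp id (Or.imp id fun ⟨a, b, c⟩ => ⟨h.stepOK a, h.commOK b, h.nOK hr hs c⟩)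

/-- The conditions on a pair of roots as a Boolean. -/
def pairB (o : List ℤ) (r s : ℕ) : Bool :=
  (match rootF T.ent r s 1 with
    | none => true
    | some k => Nat.blt k T.n && ((List.range T.l).all (fun i => intBeq (T.cartan i k) (T.cartan i r + T.cartan i s))
        && intBeq (o.getD k 0) (o.getD r 0 + o.getD s 0))) &&
  (Nat.beq s r || (Nat.beq s (T.neg r) ||
    (decide (StepOKF T.n T.neg T.ent r (T.ent r s) 0 1 s) &&
      (commB T.n T.neg T.ent r s && nB T.n T.neg T.ent T.pair r s))))

theorem pairCheckF_of_pairB {o : List ℤ} {r s : ℕ} (h : pairB T o r s = true) : PairCheckF T o r s := by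
  unfold pairB at h
  rw [Bool.and_eq_true] at h
  refine ⟨?_, ?_⟩
  · cases hk : rootF T.ent r s 1 with
    | none => trivial
    | some k =>
      have := h.1
      simp only [hk, Bool.and_eq_true, List.all_eq_true, List.mem_range] at this
      exact ⟨by simpa [Nat.blt] using this.1, fun i hi => eq_of_intBeq (this.2.1 i hi), eq_of_intBeq this.2.2⟩
  · have := h.2
    simp only [Bool.or_eq_true, Bool.and_eq_true, decide_eq_true_eq] at this
    by_cases h₁ : s = r
    · exact Or.inl h₁
    by_cases h₂ : s = T.neg r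
    · exact Or.inr (Or.inl h₂)
    rcases this with e | e | ⟨a, b, c⟩
    · exact absurd (Nat.eq_of_beq_eq_true e) h₁
    · exact absurd (Nat.eq_of_beq_eq_true e) h₂
    · exact Or.inr (Or.inr ⟨a, commOKF_of_commB _ _ _ b, nOKF_of_nB _ _ _ _ h₁ h₂ c⟩)

end Cfsg.Agent.Chev
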