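/-
Chevalley groups: the table conditions for type B2.
-/
import Cfsg.Agent.Lib.Chev.Fast

set_option autoImplicit false
set_option maxRecDepth 8000
set_option Elab.async false

namespace Cfsg.Agent.Chev.DataB2

open Cfsg.Lie

def packed : Packed where
  n := 8
  l := 2
  w := 26
  ch := 0x1c190009054000000000000000000000060740000009077058002811000000241240a000000000281d0000001c1dc1a0000000000000000a035c0dc060000000000000000906400000000000000000000007024000000000000000241500000000000000000000001c05000000000000070490680018110000000000000700901800000000060040000009037058000000000603640240a000000000280100000000000000000000001c09000901400000000000000000000000000000000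
  pr := 0xa9988776aa8a6866a8a6a686897a69788796a798686a6a8a6686a8aa6778899a
  ca := 0x897a6978a8a6a686

def heights : List ℤ := [-33, -17, -16, -1, 1, 16, 17, 33]

def bezout : List (List ℤ) := [[0, -1], [1, -1], [-1, 0], [0, -1], [0, 1], [1, 0], [1, 0], [0, 1]]

def decomp : List (ℕ × ℕ × ℕ) := [(2, 3, 1), (5, 4, 6), (5, 6, 7), (2, 1, 0)]

def coroots (r i : ℕ) : ℤ := (chevB2.coroot.getD r #[]).getD i 0

theorem packedOK : PackedOK chevB2 packed where
  n_eq := rfl
  l_eq := rfl
  size := by decide +kernel
  negs := by decide +kernel
  carts := by decide +kernel
  keys := by decide +kernel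
  chains := by decide +kernel
  pairs := by decide +kernel

theorem root_check : ∀ r < chevB2.nroots, RootCheck chevB2 bezout r := by decide +kernel

theorem pairs_bool : ((List.range 8).all fun r => (List.range 8).all (pairB packed heights r)) = true := by
  decide +kernel

theorem pair_check_fast (r : ℕ) (hr : r < 8) (s : ℕ) (hs : s < 8) : PairCheckF packed heights r s :=
  pairCheckF_of_pairB _ (List.all_eq_true.1 (List.all_eq_true.1 pairs_bool r (List.mem_range.2 hr)) s
    (List.mem_range.2 hs))

theorem ord_check : OrdCheck chevB2 heights := by decide +kernel

theorem simple_check : ∀ i < chevB2.rank, chevB2.simple i < chevB2.nroots ∧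
    ∀ j < chevB2.rank, ((chevB2.coroot).getD (chevB2.simple i) #[]).getD j 0 = if j = i then 1 else 0 := by
  decide +kernel

theorem gens_bool :
    (gens chevB2).all (jacB packed.n packed.l packed.neg packed.ent packed.cartan coroots) = true := by
  decide +kernel

theorem gen_check_fast (p : ℕ) (hp : p ∈ gens chevB2) :
    JacGenF packed.n packed.l packed.neg packed.ent packed.cartan coroots p :=
  jacGenF_of_jacB _ _ _ _ _ _ (List.all_eq_true.1 gens_bool p hp)

theorem dec_check : DecOK chevB2 (gens chevB2) decomp := by decide +kernel

theorem good : Good chevB2 :=
  good_of_checks chevB2 heights bezout decomp root_check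
    (fun r hr s hs => packedOK.pairCheck hr hs (pair_check_fast r hr s hs)) ord_check simple_check
    (fun p hp => packedOK.jacGen (gen_check_fast p hp)) dec_check

end Cfsg.Agent.Chev.DataB2
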