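/-
Chevalley groups: the simply-laced data (D₄, E₆, E₇, E₈).

`SLData D v γ` says that the chain table of D is N(r,s) = (-1)^(γ r + γ s + γ (r+s) + B(r,s)) for the bilinear
form B with B + Bᵀ = Cartan matrix (the Frenkel-Kac sign cocycle). `SLData.good : Good D`.
-/
import Cfsg.Agent.Lib.Chev.TableCheck

set_option autoImplicit false

namespace Cfsg.Agent.Chev

open Cfsg.Lie Matrix
open Cfsg.Lie.ChevalleyDatum

variable (D : ChevalleyDatum)

/-- (-1)^e. -/
def sgn (e : ℤ) : ℤ := if e % 2 = 0 then 1 else -1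

theorem sgn_mul (a b : ℤ) : sgn a * sgn b = sgn (a + b) := by
  unfold sgn
  split_ifs <;> first | rfl | omega | norm_num

theorem sgn_eq {a b : ℤ} (h : (a - b) % 2 = 0) : sgn a = sgn b := by
  unfold sgn
  split_ifs <;> first | rfl | omega

theorem sgn_ne {a b : ℤ} (h : (a - b) % 2 = 1) : sgn a = -sgn b := by
  unfold sgn
  split_ifs <;> first | rfl | omega | norm_num

theorem sgn_cases (a : ℤ) : sgn a = 1 ∨ sgn a = -1 := by
  unfold sgn
  split_ifs <;> simp

/-- The Cartan matrix of the datum. -/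
def cartanMat (i j : Fin D.rank) : ℤ := D.cartan i.val (D.simple j.val)

/-- The upper triangular form B with B + Bᵀ = Cartan matrix. -/
def upperMat (i j : Fin D.rank) : ℤ :=
  if i.val = j.val then 1 else if i.val < j.val then cartanMat D i j else 0

/-- The value B(r, s). -/
def bil (v : ℕ → Fin D.rank → ℤ) (r s : ℕ) : ℤ :=
  ∑ i, v r i * ∑ j, upperMat D i j * v s j

/-- The exponent of the structure constant N(r, s), k being r + s. -/
def nExp (v : ℕ → Fin D.rank → ℤ) (γ : ℕ → ℤ) (r s k : ℕ) : ℤ := γ r + γ s + γ k + bil D v r s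

/-- The tables of a simply-laced datum. -/
structure SLData (v : ℕ → Fin D.rank → ℤ) (γ : ℕ → ℤ) : Prop where
  neg_lt : ∀ r < D.nroots, D.neg r < D.nroots
  neg_neg : ∀ r < D.nroots, D.neg (D.neg r) = r
  keys : ∀ r < D.nroots, KeysNodup D r
  cartan_eq : ∀ r < D.nroots, ∀ i : Fin D.rank, D.cartan i.val r = ∑ j, cartanMat D i j * v r j
  coroot_eq : ∀ r < D.nroots, ∀ i : Fin D.rank, (D.coroot.getD r #[]).getD i.val 0 = v r i
  symm : ∀ i j, cartanMat D i j = cartanMat D j i
  diag : ∀ i, cartanMat D i i = 2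
  v_neg : ∀ r < D.nroots, ∀ i, v (D.neg r) i = -v r i
  entry_self : ∀ r < D.nroots, D.chainEntry r r = [] ∧ D.chainEntry r (D.neg r) = []
  γ_neg : ∀ r < D.nroots, (γ (D.neg r) + γ r) % 2 = 1
  pairing_self : ∀ r < D.nroots, D.pairing r r = 2
  classify : ∀ r < D.nroots, ∀ s < D.nroots,
    (D.pairing r s = 2 ∧ s = r) ∨ (D.pairing r s = -2 ∧ s = D.neg r) ∨
    (D.pairing r s = -1 ∧ ∃ k < D.nroots, (∀ i, v k i = v r i + v s i) ∧
      D.chainEntry r s = [(k, sgn (nExp D v γ r s k))]) ∨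
    ((D.pairing r s = 0 ∨ D.pairing r s = 1) ∧ D.chainEntry r s = [])

namespace SLData

variable {D} {v : ℕ → Fin D.rank → ℤ} {γ : ℕ → ℤ} (h : SLData D v γ)
include h

theorem pairing_eq {r : ℕ} (hr : r < D.nroots) {s : ℕ} (hs : s < D.nroots) :
    D.pairing r s = ∑ i, ∑ j, v r i * cartanMat D i j * v s j := by
  rw [pairing_eq_sum]
  refine Finset.sum_congr rfl fun i _ => ?_
  rw [h.coroot_eq r hr i, h.cartan_eq s hs i, Finset.mul_sum]
  exact Finset.sum_congr rfl fun j _ => by ring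

theorem pairing_comm {r : ℕ} (hr : r < D.nroots) {s : ℕ} (hs : s < D.nroots) :
    D.pairing r s = D.pairing s r := by
  rw [h.pairing_eq hr hs, h.pairing_eq hs hr, Finset.sum_comm]
  exact Finset.sum_congr rfl fun i _ => Finset.sum_congr rfl fun j _ => by rw [h.symm j i]; ring

theorem cartan_add {r s k : ℕ} (hr : r < D.nroots) (hs : s < D.nroots) (hk : k < D.nroots)
    (hv : ∀ i, v k i = v r i + v s i) (i : Fin D.rank) :
    D.cartan i.val k = D.cartan i.val r + D.cartan i.val s := by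
  simp only [h.cartan_eq k hk i, h.cartan_eq r hr i, h.cartan_eq s hs i, hv, mul_add, Finset.sum_add_distrib]

theorem pairing_add {r s k x : ℕ} (hr : r < D.nroots) (hs : s < D.nroots) (hk : k < D.nroots)
    (hv : ∀ i, v k i = v r i + v s i) : D.pairing x k = D.pairing x r + D.pairing x s := by
  simp only [pairing_eq_sum, h.cartan_add hr hs hk hv, mul_add, Finset.sum_add_distrib]

theorem pairing_neg {x r : ℕ} (hr : r < D.nroots) : D.pairing x (D.neg r) = -D.pairing x r := by
  simp only [pairing_eq_sum, h.cartan_eq r hr, h.cartan_eq _ (h.neg_lt r hr), h.v_neg r hr, mul_neg,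
    Finset.sum_neg_distrib]

theorem pairing_neg' {x r : ℕ} (hr : r < D.nroots) (hx : x < D.nroots) :
    D.pairing (D.neg r) x = -D.pairing r x := by
  rw [h.pairing_comm (h.neg_lt r hr) hx, h.pairing_neg hr, h.pairing_comm hx hr]

theorem pairing_congr {x r s : ℕ} (hr : r < D.nroots) (hs : s < D.nroots) (hv : ∀ i, v r i = v s i) :
    D.pairing x r = D.pairing x s := by
  simp only [pairing_eq_sum, h.cartan_eq r hr, h.cartan_eq s hs, hv]

theorem neg_ne {r : ℕ} (hr : r < D.nroots) : D.neg r ≠ r := by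
  intro e
  have := h.pairing_neg (x := r) hr
  rw [e, h.pairing_self r hr] at this
  omega

theorem eq_of_pairing {r s : ℕ} (hr : r < D.nroots) (hs : s < D.nroots) :
    (D.pairing r s = 2 → s = r) ∧ (D.pairing r s = -2 → s = D.neg r) := by
  constructor <;> intro e <;> rcases h.classify r hr s hs with c | c | c | c <;>
    first | exact c.2 | (exfalso; have := c.1; omega)

theorem v_inj {r s : ℕ} (hr : r < D.nroots) (hs : s < D.nroots) (hv : ∀ i, v r i = v s i) : r = s := by
  refine ((h.eq_of_pairing hr hs).1 ?_).symm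
  rw [← h.pairing_congr hr hs hv, h.pairing_self r hr]

theorem pairing_of_sum {r s k : ℕ} (hr : r < D.nroots) (hs : s < D.nroots) (hk : k < D.nroots)
    (hv : ∀ i, v k i = v r i + v s i) : D.pairing r s = -1 := by
  have h₁ := h.pairing_add (x := k) hr hs hk hv
  rw [h.pairing_self k hk, h.pairing_comm hk hr, h.pairing_comm hk hs, h.pairing_add (x := r) hr hs hk hv,
    h.pairing_add (x := s) hr hs hk hv, h.pairing_self r hr, h.pairing_self s hs, h.pairing_comm hs hr] at h₁
  omega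

theorem bil_add_right {r s k x : ℕ} (hv : ∀ i, v k i = v r i + v s i) :
    bil D v x k = bil D v x r + bil D v x s := by
  simp only [bil, hv, mul_add, Finset.sum_add_distrib]

theorem bil_add_left {r s k x : ℕ} (hv : ∀ i, v k i = v r i + v s i) :
    bil D v k x = bil D v r x + bil D v s x := by
  simp only [bil, hv, add_mul, Finset.sum_add_distrib]

theorem bil_neg_left {r x : ℕ} (hr : r < D.nroots) : bil D v (D.neg r) x = -bil D v r x := by
  simp only [bil, h.v_neg r hr, neg_mul, Finset.sum_neg_distrib]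

theorem bil_neg_right {r x : ℕ} (hr : r < D.nroots) : bil D v x (D.neg r) = -bil D v x r := by
  simp only [bil, h.v_neg r hr, mul_neg, Finset.sum_neg_distrib]

theorem bil_symm {r s : ℕ} (hr : r < D.nroots) (hs : s < D.nroots) :
    bil D v r s + bil D v s r = D.pairing r s := by
  have hU : ∀ i j, upperMat D i j + upperMat D j i = cartanMat D i j := by
    intro i j
    unfold upperMat
    rcases lt_trichotomy i.val j.val with e | e | e
    · simp [e, e.ne, e.ne', e.not_gt]
    · obtain rfl : i = j := Fin.ext e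
      simp [h.diag i]
    · simp [e, e.ne, e.ne', e.not_gt, h.symm i j]
  simp only [h.pairing_eq hr hs, bil, Finset.mul_sum]
  rw [Finset.sum_comm (f := fun i j => v s i * (upperMat D i j * v r j)), ← Finset.sum_add_distrib]
  refine Finset.sum_congr rfl fun i _ => ?_
  rw [← Finset.sum_add_distrib]
  refine Finset.sum_congr rfl fun j _ => ?_
  rw [← hU i j]
  ring

theorem bil_self {r : ℕ} (hr : r < D.nroots) : bil D v r r = 1 := by
  have := h.bil_symm hr hr
  rw [h.pairing_self r hr] at this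
  omega

theorem sum_root {r s : ℕ} (hr : r < D.nroots) (hs : s < D.nroots) (e : D.pairing r s = -1) :
    ∃ k < D.nroots, (∀ i, v k i = v r i + v s i) ∧
      D.chainEntry r s = [(k, sgn (nExp D v γ r s k))] := by
  rcases h.classify r hr s hs with c | c | c | c
  · omega
  · omega
  · exact c.2
  · rcases c.1 with c₁ | c₁ <;> omega

theorem entry_nil {r s : ℕ} (hr : r < D.nroots) (hs : s < D.nroots)
    (e : D.pairing r s = 0 ∨ D.pairing r s = 1) : D.chainEntry r s = [] := by
  rcases h.classify r hr s hs with c | c | c | c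
  · rcases e with e | e <;> omega
  · rcases e with e | e <;> omega
  · rcases e with e | e <;> omega
  · exact c.2

theorem pairing_range {r s : ℕ} (hr : r < D.nroots) (hs : s < D.nroots) (h₁ : s ≠ r) (h₂ : s ≠ D.neg r) :
    D.pairing r s = -1 ∨ D.pairing r s = 0 ∨ D.pairing r s = 1 := by
  rcases h.classify r hr s hs with c | c | c | c
  · exact absurd c.2 h₁
  · exact absurd c.2 h₂
  · exact Or.inl c.1
  · exact Or.inr c.1

theorem ne_of_pairing {r s : ℕ} (hr : r < D.nroots) (e : D.pairing r s ≠ 2) (e' : D.pairing r s ≠ -2) :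
    s ≠ r ∧ s ≠ D.neg r := by
  refine ⟨fun hh => e (hh ▸ h.pairing_self r hr), fun hh => e' ?_⟩
  rw [hh, h.pairing_neg hr, h.pairing_self r hr]

theorem sum_unique {r s k k' : ℕ} (hk : k < D.nroots) (hk' : k' < D.nroots)
    (hv : ∀ i, v k i = v r i + v s i) (hv' : ∀ i, v k' i = v r i + v s i) : k = k' :=
  h.v_inj hk hk' fun i => by rw [hv i, hv' i]

/-- The entry for a sum given with its index. -/
theorem entry_sum {r s k : ℕ} (hr : r < D.nroots) (hs : s < D.nroots) (hk : k < D.nroots)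
    (hv : ∀ i, v k i = v r i + v s i) : D.chainEntry r s = [(k, sgn (nExp D v γ r s k))] := by
  obtain ⟨k', hk', hv', he⟩ := h.sum_root hr hs (h.pairing_of_sum hr hs hk hv)
  rwa [h.sum_unique hk hk' hv hv']

/-- N(r, s) N(-r, r+s) = 1. -/
theorem n_back {r s k : ℕ} (hr : r < D.nroots) (hs : s < D.nroots) (hv : ∀ i, v k i = v r i + v s i) :
    sgn (nExp D v γ r s k) * sgn (nExp D v γ (D.neg r) k s) = 1 := by
  rw [sgn_mul, nExp, nExp, h.bil_neg_left hr, h.bil_add_right hv, h.bil_self hr]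
  have := h.γ_neg r hr
  unfold sgn
  split_ifs <;> first | rfl | omega

/-- N(s, r) = -N(r, s). -/
theorem n_swap {r s k : ℕ} (hr : r < D.nroots) (hs : s < D.nroots) (hk : k < D.nroots)
    (hv : ∀ i, v k i = v r i + v s i) : sgn (nExp D v γ s r k) = -sgn (nExp D v γ r s k) := by
  refine sgn_ne ?_
  have := h.bil_symm hr hs
  rw [h.pairing_of_sum hr hs hk hv] at this
  simp only [nExp]
  omega

/-- N(-r, -s) = -N(r, s). -/
theorem n_neg {r s k : ℕ} (hr : r < D.nroots) (hs : s < D.nroots) (hk : k < D.nroots) :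
    sgn (nExp D v γ (D.neg r) (D.neg s) (D.neg k)) = -sgn (nExp D v γ r s k) := by
  refine sgn_ne ?_
  have := h.γ_neg r hr
  have := h.γ_neg s hs
  have := h.γ_neg k hk
  simp only [nExp, h.bil_neg_left hr, h.bil_neg_right hs]
  omega

theorem v_sum_back {r s k : ℕ} (hr : r < D.nroots) (hv : ∀ i, v k i = v r i + v s i) :
    ∀ i, v s i = v (D.neg r) i + v k i := fun i => by
  rw [h.v_neg r hr, hv i]; ring

/-! ### ad e_r on root vectors -/

theorem A_nil {r s : ℕ} (hr : r < D.nroots) (hs : s < D.nroots)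
    (e : D.pairing r s = 0 ∨ D.pairing r s = 1 ∨ D.pairing r s = 2) :
    adE D ℤ r *ᵥ ev D ℤ s = 0 := by
  by_cases h₁ : s = r
  · subst h₁; exact adE_self D s hs
  have h₂ : s ≠ D.neg r := by
    intro hh
    rw [hh, h.pairing_neg hr, h.pairing_self r hr] at e
    omega
  have e' : D.pairing r s ≠ 2 := fun ee => h₁ ((h.eq_of_pairing hr hs).1 ee)
  have hr' : D.chainRoot r s 1 = none := by
    simp [ChevalleyDatum.chainRoot, h.entry_nil hr hs (by omega)]
  simp [adE_gen D r hs h₁ h₂, hr']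

theorem A_sum {r s k : ℕ} (hr : r < D.nroots) (hs : s < D.nroots) (hk : k < D.nroots)
    (hv : ∀ i, v k i = v r i + v s i) :
    adE D ℤ r *ᵥ ev D ℤ s = sgn (nExp D v γ r s k) • ev D ℤ k := by
  have e := h.pairing_of_sum hr hs hk hv
  obtain ⟨h₁, h₂⟩ := h.ne_of_pairing (s := s) hr (by omega) (by omega)
  have he := h.entry_sum hr hs hk hv
  simp [adE_gen D r hs h₁ h₂, ChevalleyDatum.chainRoot, ChevalleyDatum.chainM, he]

theorem A_opp {r : ℕ} (hr : r < D.nroots) : adE D ℤ r *ᵥ ev D ℤ (D.neg r) = hv D ℤ r :=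
  adE_neg D r (h.neg_lt r hr) (h.neg_ne hr)

theorem A_hv {r s : ℕ} : adE D ℤ r *ᵥ hv D ℤ s = (-D.pairing s r) • ev D ℤ r := by
  rw [adE_hv]; simp

theorem hv_sum {r s k : ℕ} (hr : r < D.nroots) (hs : s < D.nroots) (hk : k < D.nroots)
    (hvk : ∀ i, v k i = v r i + v s i) : hv D ℤ k = hv D ℤ r + hv D ℤ s := by
  ext a
  rcases a with i | u
  · simp only [hv, Sum.elim_inl, Pi.add_apply, h.coroot_eq _ hr, h.coroot_eq _ hs, h.coroot_eq _ hk, hvk i,
      Int.cast_id]
  · simp [hv]

theorem hv_negv {r : ℕ} (hr : r < D.nroots) : hv D ℤ (D.neg r) = -hv D ℤ r := by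
  ext a
  rcases a with i | u
  · simp only [hv, Sum.elim_inl, Pi.neg_apply, h.coroot_eq _ hr, h.coroot_eq _ (h.neg_lt r hr), h.v_neg r hr i,
      Int.cast_id]
  · simp [hv]

/-- The commutator of ad e_r and ad e_s applied to e_q. -/
theorem jac_root {r s q : ℕ} (hr : r < D.nroots) (hs : s < D.nroots) (hq : q < D.nroots)
    (h₁ : s ≠ r) (h₂ : s ≠ D.neg r) :
    (D.pairing r s ≠ -1 → adE D ℤ r *ᵥ (adE D ℤ s *ᵥ ev D ℤ q) = adE D ℤ s *ᵥ (adE D ℤ r *ᵥ ev D ℤ q)) ∧
    (∀ k < D.nroots, (∀ i, v k i = v r i + v s i) →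
      adE D ℤ r *ᵥ (adE D ℤ s *ᵥ ev D ℤ q) - adE D ℤ s *ᵥ (adE D ℤ r *ᵥ ev D ℤ q) =
        sgn (nExp D v γ r s k) • (adE D ℤ k *ᵥ ev D ℤ q)) := by
  -- the case q = -x for x one of r, s
  have opp : ∀ {x y : ℕ}, x < D.nroots → y < D.nroots → y ≠ x → y ≠ D.neg x →
      (D.pairing x y ≠ -1 → adE D ℤ x *ᵥ (adE D ℤ y *ᵥ ev D ℤ (D.neg x)) =
          adE D ℤ y *ᵥ (adE D ℤ x *ᵥ ev D ℤ (D.neg x))) ∧
      (∀ k < D.nroots, (∀ i, v k i = v x i + v y i) →
        adE D ℤ x *ᵥ (adE D ℤ y *ᵥ ev D ℤ (D.neg x)) - adE D ℤ y *ᵥ (adE D ℤ x *ᵥ ev D ℤ (D.neg x)) =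
          sgn (nExp D v γ x y k) • (adE D ℤ k *ᵥ ev D ℤ (D.neg x))) := by
    intro x y hx hy e₁ e₂
    have hnx := h.neg_lt x hx
    refine ⟨fun hne => ?_, fun k hk hvk => ?_⟩
    · rw [h.A_opp hx, h.A_hv]
      rcases h.pairing_range hx hy e₁ e₂ with e | e | e
      · exact absurd e hne
      · rw [e, h.A_nil hy hnx (by rw [h.pairing_neg hx, h.pairing_comm hy hx]; omega)]
        simp
      · have e' : D.pairing y (D.neg x) = -1 := by rw [h.pairing_neg hx, h.pairing_comm hy hx, e]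
        obtain ⟨m, hm, hvm, -⟩ := h.sum_root hy hnx e'
        have hvy : ∀ i, v y i = v x i + v m i := fun i => by rw [hvm i, h.v_neg x hx]; ring
        have hvm' : ∀ i, v m i = v (D.neg x) i + v y i := fun i => by rw [hvm i]; ring
        rw [h.A_sum hy hnx hm hvm, Matrix.mulVec_smul, h.A_sum hx hm hy hvy, smul_smul, e]
        have := h.n_back hx hm hvy
        rw [h.n_swap hnx hy hm hvm', neg_mul, mul_comm, this]
    · have e := h.pairing_of_sum hx hy hk hvk
      rw [h.A_opp hx, h.A_hv, e, h.A_nil hy hnx (by rw [h.pairing_neg hx, h.pairing_comm hy hx]; omega)]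
      have hvy : ∀ i, v y i = v k i + v (D.neg x) i := fun i => by rw [hvk i, h.v_neg x hx]; ring
      rw [h.A_sum hk hnx hy hvy, smul_smul, h.n_swap hnx hk hy (fun i => by rw [hvy i]; ring), mul_neg,
        h.n_back hx hy hvk]
      simp
  by_cases q₁ : q = D.neg r
  · subst q₁; exact opp hr hs h₁ h₂
  by_cases q₂ : q = D.neg s
  · subst q₂
    have h₂' : r ≠ D.neg s := fun e => h₂ (by rw [e, h.neg_neg s hs])
    obtain ⟨o₁, o₂⟩ := opp hs hr h₁.symm h₂'
    refine ⟨fun hne => (o₁ (by rwa [h.pairing_comm hs hr])).symm, fun k hk hvk => ?_⟩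
    have := o₂ k hk fun i => by rw [hvk i]; ring
    rw [h.n_swap hr hs hk hvk, neg_smul, ← neg_sub, neg_inj] at this
    exact this
  -- terms of the form A_x A_y e_q
  have two : ∀ {x y : ℕ}, x < D.nroots → y < D.nroots → q ≠ D.neg y →
      (D.pairing y q ≠ -1 → adE D ℤ x *ᵥ (adE D ℤ y *ᵥ ev D ℤ q) = 0) ∧
      (D.pairing y q = -1 → 0 ≤ D.pairing x y + D.pairing x q →
        adE D ℤ x *ᵥ (adE D ℤ y *ᵥ ev D ℤ q) = 0) := by
    intro x y hx hy hqy
    refine ⟨fun hne => ?_, fun e hge => ?_⟩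
    · rw [h.A_nil hy hq, Matrix.mulVec_zero]
      by_cases hqq : q = y
      · rw [hqq, h.pairing_self y hy]; simp
      · rcases h.pairing_range hy hq hqq hqy with e | e | e <;> simp_all
    · obtain ⟨m, hm, hvm, -⟩ := h.sum_root hy hq e
      rw [h.A_sum hy hq hm hvm, Matrix.mulVec_smul, h.A_nil hx hm, smul_zero]
      have := h.pairing_add (x := x) hy hq hm hvm
      rcases h.classify x hx m hm with c | c | c | c <;> omega
  have pr : ∀ {x : ℕ}, x < D.nroots → q ≠ D.neg x → -1 ≤ D.pairing x q ∧ D.pairing x q ≤ 2 := by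
    intro x hx hqx
    rcases h.classify x hx q hq with c | c | c | c
    · omega
    · exact absurd c.2 hqx
    · omega
    · omega
  have hb := pr hr q₁
  have hc := pr hs q₂
  have ha := h.pairing_range hr hs h₁ h₂
  have hsr := h.pairing_comm hs hr
  have hqr := h.pairing_comm hq hr
  have hqs := h.pairing_comm hq hs
  obtain ⟨zr, zr'⟩ := two (x := r) (y := s) hr hs q₂
  obtain ⟨zs, zs'⟩ := two (x := s) (y := r) hs hr q₁
  refine ⟨fun hne => ?_, fun k hk hvk => ?_⟩
  · by_cases c : D.pairing s q = -1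
    · by_cases b : D.pairing r q = -1
      · rcases ha with a | a | a
        · exact absurd a hne
        · obtain ⟨m, hm, hvm, -⟩ := h.sum_root hs hq c
          obtain ⟨m', hm', hvm', -⟩ := h.sum_root hr hq b
          have e : D.pairing r m = -1 := by rw [h.pairing_add hs hq hm hvm]; omega
          obtain ⟨w, hw, hvw, -⟩ := h.sum_root hr hm e
          have hvw' : ∀ i, v w i = v s i + v m' i := fun i => by rw [hvw i, hvm i, hvm' i]; ring
          rw [h.A_sum hs hq hm hvm, Matrix.mulVec_smul, h.A_sum hr hm hw hvw, h.A_sum hr hq hm' hvm',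
            Matrix.mulVec_smul, h.A_sum hs hm' hw hvw', smul_smul, smul_smul]
          congr 1
          rw [sgn_mul, sgn_mul]
          refine sgn_eq ?_
          have := h.bil_symm hr hs
          simp only [nExp, h.bil_add_right hvm, h.bil_add_right hvm']
          omega
        · rw [zr' c (by omega), zs' b (by omega)]
      · rw [zr' c (by omega), zs b]
    · by_cases b : D.pairing r q = -1
      · rw [zr c, zs' b (by omega)]
      · rw [zr c, zs b]
  · have a := h.pairing_of_sum hr hs hk hvk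
    have hkq : D.pairing k q = D.pairing r q + D.pairing s q := by
      rw [h.pairing_comm hk hq, h.pairing_add hr hs hk hvk, hqr, hqs]
    by_cases hw0 : q = D.neg k
    · -- r + s + q = 0
      subst hw0
      have hvq : ∀ i, v (D.neg k) i = -(v r i + v s i) := fun i => by rw [h.v_neg k hk, hvk i]
      have c : D.pairing s (D.neg k) = -1 := by
        rw [h.pairing_neg hk, h.pairing_add hr hs hk hvk, h.pairing_self s hs, hsr, a]; rfl
      have b : D.pairing r (D.neg k) = -1 := by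
        rw [h.pairing_neg hk, h.pairing_add hr hs hk hvk, h.pairing_self r hr, a]; rfl
      have hnr := h.neg_lt r hr
      have hns := h.neg_lt s hs
      have v₁ : ∀ i, v (D.neg r) i = v s i + v (D.neg k) i := fun i => by rw [h.v_neg r hr, hvq i]; ring
      have v₂ : ∀ i, v (D.neg s) i = v r i + v (D.neg k) i := fun i => by rw [h.v_neg s hs, hvq i]; ring
      have vk' : ∀ i, v k i = -v (D.neg k) i := fun i => by rw [hvq i, hvk i]; ring
      rw [h.A_sum hs hq hnr v₁, Matrix.mulVec_smul, h.A_opp hr, h.A_sum hr hq hns v₂, Matrix.mulVec_smul,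
        h.A_opp hs, h.A_opp hk, h.hv_sum hr hs hk hvk, smul_add]
      have := h.γ_neg r hr
      have := h.γ_neg s hs
      have := h.γ_neg k hk
      have := h.bil_symm hr hs
      have hbq₁ : bil D v s (D.neg k) = -(bil D v s r + bil D v s s) := by
        rw [h.bil_neg_right hk, h.bil_add_right hvk]
      have hbq₂ : bil D v r (D.neg k) = -(bil D v r r + bil D v r s) := by
        rw [h.bil_neg_right hk, h.bil_add_right hvk]
      have := h.bil_self hr
      have := h.bil_self hs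
      have e₁ : sgn (nExp D v γ s (D.neg k) (D.neg r)) = sgn (nExp D v γ r s k) := by
        refine sgn_eq ?_; simp only [nExp]; omega
      have e₂ : sgn (nExp D v γ r (D.neg k) (D.neg s)) = -sgn (nExp D v γ r s k) := by
        refine sgn_ne ?_; simp only [nExp]; omega
      rw [e₁, e₂, neg_smul, sub_neg_eq_add]
    have hkq' := pr hk hw0
    by_cases d : D.pairing k q = -1
    · obtain ⟨w, hw, hvw, -⟩ := h.sum_root hk hq d
      by_cases c : D.pairing s q = -1
      · obtain ⟨m, hm, hvm, -⟩ := h.sum_root hs hq c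
        have hvw' : ∀ i, v w i = v r i + v m i := fun i => by rw [hvw i, hvk i, hvm i]; ring
        rw [zs (by omega), sub_zero, h.A_sum hs hq hm hvm, Matrix.mulVec_smul, h.A_sum hr hm hw hvw',
          h.A_sum hk hq hw hvw, smul_smul, smul_smul]
        congr 1
        rw [sgn_mul, sgn_mul]
        refine sgn_eq ?_
        simp only [nExp, h.bil_add_right hvm, h.bil_add_left hvk]
        omega
      · have b : D.pairing r q = -1 := by omega
        obtain ⟨m, hm, hvm, -⟩ := h.sum_root hr hq b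
        have hvw' : ∀ i, v w i = v s i + v m i := fun i => by rw [hvw i, hvk i, hvm i]; ring
        rw [zr c, zero_sub, h.A_sum hr hq hm hvm, Matrix.mulVec_smul, h.A_sum hs hm hw hvw',
          h.A_sum hk hq hw hvw, smul_smul, smul_smul, ← neg_smul]
        congr 1
        rw [sgn_mul, sgn_mul]
        refine (sgn_ne ?_).symm
        have := h.bil_symm hr hs
        simp only [nExp, h.bil_add_right hvm, h.bil_add_left hvk]
        omega
    · rw [h.A_nil hk hq (by omega), smul_zero]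
      have z₁ : adE D ℤ r *ᵥ (adE D ℤ s *ᵥ ev D ℤ q) = 0 := by
        by_cases c : D.pairing s q = -1
        · exact zr' c (by omega)
        · exact zr c
      have z₂ : adE D ℤ s *ᵥ (adE D ℤ r *ᵥ ev D ℤ q) = 0 := by
        by_cases b : D.pairing r q = -1
        · exact zs' b (by omega)
        · exact zs b
      rw [z₁, z₂, sub_zero]

theorem adH_hv_apply {r q : ℕ} (hq : q < D.nroots) :
    ad D ℤ (hv D ℤ r) *ᵥ ev D ℤ q = D.pairing r q • ev D ℤ q := by
  simp only [ev_of_lt D ℤ hq, hv_eq, map_sum, map_smul, ad_single, Matrix.sum_mulVec, Matrix.smul_mulVec, adB,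
    Matrix.diagonal_mulVec_single, Sum.elim_inr, Int.cast_id, mul_one]
  rw [pairing_eq_sum, Finset.sum_smul]
  refine Finset.sum_congr rfl fun i _ => ?_
  rw [← Pi.single_smul, ← Pi.single_smul]
  simp

theorem jac {r s : ℕ} (hr : r < D.nroots) (hs : s < D.nroots) :
    adE D ℤ r * adE D ℤ s - adE D ℤ s * adE D ℤ r = ad D ℤ (colA D ℤ r (Sum.inr ⟨s, hs⟩)) := by
  have hcol : colA D ℤ r (Sum.inr ⟨s, hs⟩) = adE D ℤ r *ᵥ ev D ℤ s := by
    rw [ev_of_lt D ℤ hs, adE_col]
  rw [hcol]
  refine Matrix.ext_of_mulVec_single fun b => ?_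
  rw [Matrix.sub_mulVec, ← Matrix.mulVec_mulVec, ← Matrix.mulVec_mulVec]
  by_cases h₁ : s = r
  · subst h₁; rw [sub_self, adE_self D s hr, map_zero, Matrix.zero_mulVec]
  by_cases h₂ : s = D.neg r
  · subst h₂
    rw [h.A_opp hr]
    have hnn := h.neg_neg r hr
    rcases b with i | ⟨q, hq⟩
    · have hc : D.cartan i.val (D.neg r) = -D.cartan i.val r := by
        simp only [h.cartan_eq r hr, h.cartan_eq _ hs, h.v_neg r hr, mul_neg, Finset.sum_neg_distrib]
      have e := h.A_opp (h.neg_lt r hr)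
      rw [hnn] at e
      simp only [adE_inl, Matrix.mulVec_smul, Matrix.mulVec_neg, h.A_opp hr, e, h.hv_negv hr, hc, Int.cast_id, hv_eq, map_sum,
        map_smul, Matrix.sum_mulVec, Matrix.smul_mulVec, ad_single, adB, Matrix.diagonal_mulVec_single,
        Sum.elim_inl, zero_mul, Pi.single_zero, smul_zero, Finset.sum_const_zero, _root_.neg_neg, smul_neg, neg_smul,
        sub_self, add_neg_cancel, sub_neg_eq_add, neg_add_cancel]
    · rw [← ev_of_lt D ℤ hq, h.adH_hv_apply hq]
      by_cases q₁ : q = r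
      · subst q₁
        have e := h.A_opp (h.neg_lt q hr)
        rw [hnn] at e
        rw [adE_self D q hr, Matrix.mulVec_zero, sub_zero, e, h.hv_negv hr, Matrix.mulVec_neg, h.A_hv,
          h.pairing_self q hr, ← neg_smul]
        rfl
      by_cases q₂ : q = D.neg r
      · subst q₂
        rw [adE_self D _ hs, Matrix.mulVec_zero, zero_sub, h.A_opp hr, h.A_hv, h.pairing_neg hr,
          h.pairing_self r hr, ← neg_smul]
        rfl
      rcases h.pairing_range hr hq q₁ q₂ with e | e | e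
      · obtain ⟨k, hk, hvk, -⟩ := h.sum_root hr hq e
        rw [h.A_nil hs hq (by rw [h.pairing_neg' hr hq]; omega), Matrix.mulVec_zero, zero_sub,
          h.A_sum hr hq hk hvk, Matrix.mulVec_smul, h.A_sum hs hk hq (h.v_sum_back hr hvk), smul_smul,
          h.n_back hr hq hvk, e, neg_one_smul, one_smul]
      · rw [h.A_nil hs hq (by rw [h.pairing_neg' hr hq]; omega), h.A_nil hr hq (by omega), e]
        simp
      · obtain ⟨k, hk, hvk, -⟩ := h.sum_root hs hq (by rw [h.pairing_neg' hr hq, e])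
        have hb := h.v_sum_back hs hvk
        rw [hnn] at hb
        have hn := h.n_back hs hq hvk
        rw [hnn] at hn
        rw [h.A_nil hr hq (by omega), Matrix.mulVec_zero, sub_zero, h.A_sum hs hq hk hvk, Matrix.mulVec_smul,
          h.A_sum hr hk hq hb, smul_smul, hn, e]
  · rcases b with i | ⟨q, hq⟩
    · simp only [adE_inl, Matrix.mulVec_smul, Int.cast_id]
      rcases h.pairing_range hr hs h₁ h₂ with e | e | e
      · obtain ⟨k, hk, hvk, -⟩ := h.sum_root hr hs e
        rw [h.A_sum hr hs hk hvk, h.A_sum hs hr hk (fun i => by rw [hvk i]; ring), h.n_swap hr hs hk hvk,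
          map_smul, ad_ev D hk, Matrix.smul_mulVec, adE_inl, h.cartan_add hr hs hk hvk i, Int.cast_id, neg_smul,
          smul_smul, smul_smul, smul_smul]
        simp only [← neg_smul, ← sub_smul]
        congr 1
        ring
      all_goals
        have e' := h.pairing_comm hs hr
        rw [h.A_nil hr hs (by omega), h.A_nil hs hr (by omega), map_zero, Matrix.zero_mulVec]
        simp
    · rw [← ev_of_lt D ℤ hq]
      obtain ⟨j₁, j₂⟩ := h.jac_root hr hs hq h₁ h₂
      rcases h.pairing_range hr hs h₁ h₂ with e | e | e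
      · obtain ⟨k, hk, hvk, -⟩ := h.sum_root hr hs e
        rw [j₂ k hk hvk, h.A_sum hr hs hk hvk, map_smul, ad_ev D hk, Matrix.smul_mulVec]
      all_goals
        rw [j₁ (by omega), h.A_nil hr hs (by omega), map_zero, Matrix.zero_mulVec, sub_self]

/-! ### The checks -/

theorem stepOK {r s : ℕ} (hr : r < D.nroots) (hs : s < D.nroots) (h₁ : s ≠ r) (h₂ : s ≠ D.neg r) :
    StepOK D r (D.chainEntry r s) 0 1 s := by
  rcases h.classify r hr s hs with c | c | ⟨e, k, hk, hvk, he⟩ | ⟨-, he⟩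
  · exact absurd c.2 h₁
  · exact absurd c.2 h₂
  · rw [he]
    have ek : D.pairing r k = 1 := by rw [h.pairing_add hr hs hk hvk, h.pairing_self r hr, e]; rfl
    obtain ⟨k₁, k₂⟩ := h.ne_of_pairing (s := k) hr (by omega) (by omega)
    simp [StepOK, ChevalleyDatum.chainRoot, ChevalleyDatum.chainM, he, hs, h₁, h₂, hk, k₁, k₂,
      h.entry_nil hr hk (Or.inr ek)]
  · rw [he]
    exact ⟨hs, h₁, h₂, he⟩

theorem applyOne_nil {g τ : Term} (hg : g.1 < D.nroots) (hτ : τ.1 < D.nroots)
    (e : D.pairing g.1 τ.1 = 0 ∨ D.pairing g.1 τ.1 = 1) : applyOne D g τ = some [τ] := by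
  obtain ⟨h₁, h₂⟩ := h.ne_of_pairing (s := τ.1) hg (by omega) (by omega)
  simp [applyOne, h₂, Nat.not_le.2 hτ, h₁, h.entry_nil hg hτ e]

theorem applyOne_sum {g τ : Term} {k : ℕ} (hg : g.1 < D.nroots) (hτ : τ.1 < D.nroots) (hk : k < D.nroots)
    (hv : ∀ i, v k i = v g.1 i + v τ.1 i) :
    applyOne D g τ = some [τ, (k, τ.2.1 * g.2.1 * sgn (nExp D v γ g.1 τ.1 k), τ.2.2.1 + g.2.2.1,
      τ.2.2.2 + g.2.2.2)] := by
  have e := h.pairing_of_sum hg hτ hk hv
  obtain ⟨h₁, h₂⟩ := h.ne_of_pairing (s := τ.1) hg (by omega) (by omega)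
  simp [applyOne, h₂, Nat.not_le.2 hτ, h₁, h.entry_sum hg hτ hk hv, List.zipIdx]

theorem commOK {r s : ℕ} (hr : r < D.nroots) (hs : s < D.nroots) (h₁ : s ≠ r) (h₂ : s ≠ D.neg r) :
    CommOK D r s := by
  rcases h.classify r hr s hs with c | c | ⟨e, k, hk, hvk, he⟩ | ⟨e, he⟩
  · exact absurd c.2 h₁
  · exact absurd c.2 h₂
  · have hvk' : ∀ i, v k i = v s i + v r i := fun i => by rw [hvk i]; ring
    have hes := h.entry_sum hs hr hk hvk'
    have hsk : D.pairing s k = 1 := by
      rw [h.pairing_add hr hs hk hvk, h.pairing_self s hs, h.pairing_comm hs hr, e]; rfl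
    have hct : D.commTerms r s = [(k, sgn (nExp D v γ r s k), 1, 1)] := by
      simp [ChevalleyDatum.commTerms, ChevalleyDatum.chainRoot, ChevalleyDatum.chainM, he, hes]
    have hks : k ≠ s := (h.ne_of_pairing (s := k) hs (by omega) (by omega)).1
    have a₀ : applyOne D (s, 1, 0, 1) (k, sgn (nExp D v γ r s k), 1, 0) =
        some [(k, sgn (nExp D v γ r s k), 1, 0)] := h.applyOne_nil hs hk (Or.inr hsk)
    have a₁ : applyOne D (r, 1, 1, 0) (s, 1, 0, 0) =
        some [(s, 1, 0, 0), (k, sgn (nExp D v γ r s k), 1, 0)] := by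
      simpa using h.applyOne_sum (g := (r, 1, 1, 0)) (τ := (s, 1, 0, 0)) hr hs hk hvk
    unfold CommOK
    simp [hct, wTerms, applyAll, hs, hk, a₀, a₁, ZeroSum, keyIJ, keyIJneg, hks, hks.symm]
  · have he' : D.chainEntry s r = [] :=
      h.entry_nil hs hr (by rw [h.pairing_comm hs hr]; exact e)
    have hct : D.commTerms r s = [] := by
      simp [ChevalleyDatum.commTerms, ChevalleyDatum.chainRoot, he, he']
    have a₁ : applyOne D (r, 1, 1, 0) (s, 1, 0, 0) = some [(s, 1, 0, 0)] := h.applyOne_nil hr hs e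
    unfold CommOK
    simp [hct, wTerms, applyAll, hs, a₁, ZeroSum, keyIJ, keyIJneg]

/-- n_r e_s in the three cases: the value of the sign and of the reflected root. -/
theorem nTerms_cases {r s : ℕ} (hr : r < D.nroots) (hs : s < D.nroots) (h₁ : s ≠ r) (h₂ : s ≠ D.neg r) :
    ∃ k < D.nroots, ∃ C, nTerms D r s = some C ∧ ((C.map fun τ => τ.2.1).sum = 1 ∨
        (C.map fun τ => τ.2.1).sum = -1) ∧
      ZeroSum (C.map keyD ++ [((k, -D.pairing r s), -(C.map fun τ => τ.2.1).sum)]) ∧ refl D r s = k ∧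
      ((D.pairing r s = 0 ∧ k = s ∧ (C.map fun τ => τ.2.1).sum = 1) ∨
       (D.pairing r s = -1 ∧ (∀ i, v k i = v r i + v s i) ∧
          (C.map fun τ => τ.2.1).sum = sgn (nExp D v γ r s k)) ∨
       (D.pairing r s = 1 ∧ (∀ i, v k i = v (D.neg r) i + v s i) ∧
          (C.map fun τ => τ.2.1).sum = -sgn (nExp D v γ (D.neg r) s k))) := by
  have hn := h.neg_lt r hr
  have hnn := h.neg_neg r hr
  have hrefl : refl D r s =
      if 0 < D.pairing r s then (D.chainRoot (D.neg r) s (D.pairing r s).toNat).getD s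
      else if D.pairing r s < 0 then (D.chainRoot r s (-D.pairing r s).toNat).getD s else s := by
    simp [refl, h₁, h₂]
  rcases h.pairing_range hr hs h₁ h₂ with e | e | e
  · obtain ⟨k, hk, hvk, he⟩ := h.sum_root hr hs e
    have hnk : D.pairing (D.neg r) s = 1 := by rw [h.pairing_neg' hr hs, e]; rfl
    have hvb := h.v_sum_back hr hvk
    have hrk : D.pairing r k = 1 := by rw [h.pairing_add hr hs hk hvk, h.pairing_self r hr, e]; rfl
    have hsk : s ≠ k := fun hh => by rw [← hh, e] at hrk; omega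
    have hM := h.n_back hr hs hvk
    set M := sgn (nExp D v γ r s k) with hMdef
    set M' := sgn (nExp D v γ (D.neg r) k s) with hM'def
    have A1 : applyOne D (r, 1, 1, 0) (s, 1, 0, 0) = some [(s, 1, 0, 0), (k, M, 1, 0)] := by
      simpa [hMdef] using h.applyOne_sum (g := (r, 1, 1, 0)) (τ := (s, 1, 0, 0)) hr hs hk hvk
    have B1 : applyOne D (D.neg r, -1, 0, 1) (s, 1, 0, 0) = some [(s, 1, 0, 0)] :=
      h.applyOne_nil hn hs (Or.inr hnk)
    have B2 : applyOne D (D.neg r, -1, 0, 1) (k, M, 1, 0) = some [(k, M, 1, 0), (s, -(M * M'), 1, 1)] := by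
      simpa [hM'def] using h.applyOne_sum (g := (D.neg r, -1, 0, 1)) (τ := (k, M, 1, 0)) hn hk hs hvb
    have C2 : applyOne D (r, 1, 1, 0) (k, M, 1, 0) = some [(k, M, 1, 0)] := h.applyOne_nil hr hk (Or.inr hrk)
    have C3 : applyOne D (r, 1, 1, 0) (s, -(M * M'), 1, 1) =
        some [(s, -(M * M'), 1, 1), (k, -(M * M') * M, 2, 1)] := by
      simpa [hMdef] using h.applyOne_sum (g := (r, 1, 1, 0)) (τ := (s, -(M * M'), 1, 1)) hr hs hk hvk
    have hC : nTerms D r s = some [(s, 1, 0, 0), (k, M, 1, 0), (k, M, 1, 0), (s, -(M * M'), 1, 1),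
        (k, -(M * M') * M, 2, 1)] := by
      simp [nTerms, applyAll, A1, B1, B2, C2, C3]
    have hsum : 1 + (M + (M + (-(M * M') + (-(M * M') * M + 0)))) = M := by rw [hM]; ring
    refine ⟨k, hk, _, hC, ?_, ?_, ?_, Or.inr (Or.inl ⟨e, hvk, ?_⟩)⟩
    · simp only [List.map_cons, List.map_nil, List.sum_cons, List.sum_nil, hsum]
      exact sgn_cases _
    · simp only [List.map_cons, List.map_nil, List.sum_cons, List.sum_nil, hsum, ZeroSum, keyD, e]
      simp [hsk, Ne.symm hsk, hM]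
    · rw [hrefl, e]
      simp [ChevalleyDatum.chainRoot, he]
    · simp only [List.map_cons, List.map_nil, List.sum_cons, List.sum_nil, hsum]
      exact hMdef
  · have hnk : D.pairing (D.neg r) s = 0 := by rw [h.pairing_neg' hr hs, e]; rfl
    have A1 : applyOne D (r, 1, 1, 0) (s, 1, 0, 0) = some [(s, 1, 0, 0)] := h.applyOne_nil hr hs (Or.inl e)
    have B1 : applyOne D (D.neg r, -1, 0, 1) (s, 1, 0, 0) = some [(s, 1, 0, 0)] :=
      h.applyOne_nil hn hs (Or.inl hnk)
    refine ⟨s, hs, [(s, 1, 0, 0)], by simp [nTerms, applyAll, A1, B1], by simp, ?_, ?_,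
      Or.inl ⟨e, rfl, by simp⟩⟩
    · simp [ZeroSum, keyD, e]
    · rw [hrefl, e]; simp
  · have hnk : D.pairing (D.neg r) s = -1 := by rw [h.pairing_neg' hr hs, e]
    obtain ⟨k, hk, hvk, he⟩ := h.sum_root hn hs hnk
    have hvb := h.v_sum_back hn hvk
    rw [hnn] at hvb
    have hM := h.n_back hn hs hvk
    rw [hnn] at hM
    have hrk : D.pairing r k = -1 := h.pairing_of_sum hr hk hs hvb
    have hsk : s ≠ k := fun hh => by rw [← hh, e] at hrk; omega
    set M' := sgn (nExp D v γ (D.neg r) s k) with hM'def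
    set M := sgn (nExp D v γ r k s) with hMdef
    have A1 : applyOne D (r, 1, 1, 0) (s, 1, 0, 0) = some [(s, 1, 0, 0)] := h.applyOne_nil hr hs (Or.inr e)
    have B1 : applyOne D (D.neg r, -1, 0, 1) (s, 1, 0, 0) = some [(s, 1, 0, 0), (k, -M', 0, 1)] := by
      simpa [hM'def] using h.applyOne_sum (g := (D.neg r, -1, 0, 1)) (τ := (s, 1, 0, 0)) hn hs hk hvk
    have C2 : applyOne D (r, 1, 1, 0) (k, -M', 0, 1) = some [(k, -M', 0, 1), (s, -M' * M, 1, 1)] := by
      simpa [hMdef] using h.applyOne_sum (g := (r, 1, 1, 0)) (τ := (k, -M', 0, 1)) hr hk hs hvb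
    have hC : nTerms D r s = some [(s, 1, 0, 0), (k, -M', 0, 1), (s, -M' * M, 1, 1)] := by
      simp [nTerms, applyAll, A1, B1, C2]
    have hsum : 1 + (-M' + (-M' * M + 0)) = -M' := by rw [neg_mul, hM]; ring
    refine ⟨k, hk, _, hC, ?_, ?_, ?_, Or.inr (Or.inr ⟨e, hvk, ?_⟩)⟩
    · simp only [List.map_cons, List.map_nil, List.sum_cons, List.sum_nil, hsum]
      rcases sgn_cases (nExp D v γ (D.neg r) s k) with hh | hh <;> simp [hM'def, hh]
    · simp only [List.map_cons, List.map_nil, List.sum_cons, List.sum_nil, hsum, ZeroSum, keyD, e]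
      simp [hsk, Ne.symm hsk, hM]
    · rw [hrefl, e]
      simp [ChevalleyDatum.chainRoot, he]
    · simp only [List.map_cons, List.map_nil, List.sum_cons, List.sum_nil, hsum]
      rw [hM'def]

theorem nOK {r s : ℕ} (hr : r < D.nroots) (hs : s < D.nroots) (h₁ : s ≠ r) (h₂ : s ≠ D.neg r) :
    NOK D r s := by
  obtain ⟨k, hk, C, hC, hpm, hz, hrefl, hcase⟩ := h.nTerms_cases hr hs h₁ h₂
  have hn := h.neg_lt r hr
  have hnn := h.neg_neg r hr
  have hη : ∀ {x C'}, x ≠ r → x ≠ D.neg r → nTerms D r x = some C' →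
      nSign D r x = (C'.map fun τ => τ.2.1).sum := by
    intro x C' e₁ e₂ eC
    simp [nSign, e₁, e₂, eC]
  have hpk : D.pairing r k = -D.pairing r s := by
    rcases hcase with ⟨e, ek, -⟩ | ⟨e, hvk, -⟩ | ⟨e, hvk, -⟩
    · rw [ek, e]; rfl
    · rw [h.pairing_add hr hs hk hvk, h.pairing_self r hr, e]; rfl
    · rw [h.pairing_add hn hs hk hvk, h.pairing_neg hr, h.pairing_self r hr, e]; rfl
  have hk₁ : k ≠ r ∧ k ≠ D.neg r := by
    rcases h.pairing_range hr hs h₁ h₂ with e | e | e <;>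
      exact h.ne_of_pairing hr (by omega) (by omega)
  have hns₁ : D.neg s ≠ r := fun e => h₂ (by rw [← e, h.neg_neg s hs])
  have hns₂ : D.neg s ≠ D.neg r := fun e => h₁ (by rw [← h.neg_neg s hs, e, hnn])
  obtain ⟨k₂, hk₂, C₂, hC₂, -, -, hrefl₂, hcase₂⟩ := h.nTerms_cases hr hk hk₁.1 hk₁.2
  obtain ⟨k₃, hk₃, C₃, hC₃, -, -, hrefl₃, hcase₃⟩ := h.nTerms_cases hr (h.neg_lt s hs) hns₁ hns₂
  have hns : D.pairing r (D.neg s) = -D.pairing r s := h.pairing_neg hs
  unfold NOK
  rw [hrefl, hC, hη h₁ h₂ hC, hη hk₁.1 hk₁.2 hC₂, hη hns₁ hns₂ hC₃, hrefl₂]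
  refine ⟨hz, hk, ?_, hk₁.1, hk₁.2, hpk, hpm, ?_, ?_⟩
  · rcases hcase with ⟨e, ek, -⟩ | ⟨e, hvk, -⟩ | ⟨e, hvk, -⟩ <;>
      rcases hcase₂ with ⟨e', ek', -⟩ | ⟨e', hvk', -⟩ | ⟨e', hvk', -⟩ <;>
      first
        | omega
        | exact h.v_inj hk₂ hs fun i => by rw [hvk' i, hvk i, h.v_neg r hr]; ring
  · rcases hcase with ⟨e, ek, eη⟩ | ⟨e, hvk, eη⟩ | ⟨e, hvk, eη⟩ <;>
      rcases hcase₂ with ⟨e', ek', eη'⟩ | ⟨e', hvk', eη'⟩ | ⟨e', hvk', eη'⟩ <;>
      first | omega | skip
    · rw [eη, eη', e]; rfl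
    · obtain rfl : k₂ = s := h.v_inj hk₂ hs fun i => by rw [hvk' i, hvk i, h.v_neg r hr]; ring
      rw [eη, eη', mul_neg, h.n_back hr hs hvk, e]; rfl
    · obtain rfl : k₂ = s := h.v_inj hk₂ hs fun i => by rw [hvk' i, hvk i, h.v_neg r hr]; ring
      have := h.n_back hn hs hvk
      rw [hnn] at this
      rw [eη, eη', neg_mul, this, e]; rfl
  · rcases hcase with ⟨e, ek, eη⟩ | ⟨e, hvk, eη⟩ | ⟨e, hvk, eη⟩ <;>
      rcases hcase₃ with ⟨e', ek', eη'⟩ | ⟨e', hvk', eη'⟩ | ⟨e', hvk', eη'⟩ <;>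
      first | omega | skip
    · rw [eη, eη']; rfl
    · obtain rfl : k₃ = D.neg k := h.v_inj hk₃ (h.neg_lt k hk) fun i => by
        rw [hvk' i, h.v_neg k hk, hvk i, h.v_neg r hr, h.v_neg s hs]; ring
      rw [eη, eη', h.n_neg hr hs hk, _root_.neg_neg]
      rcases sgn_cases (nExp D v γ r s k) with e | e <;> rw [e] <;> rfl
    · obtain rfl : k₃ = D.neg k := h.v_inj hk₃ (h.neg_lt k hk) fun i => by
        rw [hvk' i, h.v_neg k hk, hvk i, h.v_neg r hr, h.v_neg s hs]; ring
      have := h.n_neg hn hs hk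
      rw [hnn] at this
      rw [eη, eη', this]
      rcases sgn_cases (nExp D v γ (D.neg r) s k) with e | e <;> rw [e] <;> rfl

theorem good (hsimple : ∀ i < D.rank, D.simple i < D.nroots ∧
      ∀ j < D.rank, (D.coroot.getD (D.simple i) #[]).getD j 0 = if j = i then 1 else 0)
    (w : Fin D.rank → ℤ)
    (hmono : ∀ r < D.nroots, ∀ s < D.nroots, r < s → ∑ i, v r i * w i < ∑ i, v s i * w i)
    (hsign : ∀ r < D.nroots, ∑ i, v r i * w i ≠ 0 ∧ (D.IsPosRoot r ↔ 0 < ∑ i, v r i * w i) ∧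
      (D.IsNegRoot r ↔ ∑ i, v r i * w i < 0))
    (hprim : ∀ r < D.nroots, ∃ c : Fin D.rank → ℤ,
      ∑ i, c i * (D.coroot.getD r #[]).getD i.val 0 = 1) : Good D where
  neg_lt := h.neg_lt
  neg_ne r hr := h.neg_ne hr
  neg_neg := h.neg_neg
  keys := h.keys
  step r hr s hs := h.stepOK hr hs
  pairing_self := h.pairing_self
  cartan_neg r hr i hi := by
    have e₁ := h.cartan_eq _ (h.neg_lt r hr) ⟨i, hi⟩
    have e₂ := h.cartan_eq r hr ⟨i, hi⟩
    simp only at e₁ e₂
    rw [e₁, e₂, ← Finset.sum_neg_distrib]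
    exact Finset.sum_congr rfl fun j _ => by rw [h.v_neg r hr, mul_neg]
  coroot_neg r hr i hi := by
    rw [h.coroot_eq _ (h.neg_lt r hr) ⟨i, hi⟩, h.coroot_eq r hr ⟨i, hi⟩, h.v_neg r hr]
  cartan_add r hr s hs k hk := by
    rcases h.classify r hr s hs with ⟨e, es⟩ | ⟨e, es⟩ | ⟨e, k', hk', hv, he⟩ | ⟨e, he⟩
    · simp [ChevalleyDatum.chainRoot, es, (h.entry_self r hr).1] at hk
    · simp [ChevalleyDatum.chainRoot, es, (h.entry_self r hr).2] at hk
    · simp [ChevalleyDatum.chainRoot, he] at hk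
      subst hk
      exact ⟨hk', fun i hi => h.cartan_add hr hs hk' hv ⟨i, hi⟩⟩
    · simp [ChevalleyDatum.chainRoot, he] at hk
  jac r hr s hs := h.jac hr hs
  comm r hr s hs := h.commOK hr hs
  nword r hr s hs := h.nOK hr hs
  simple_lt i hi := (hsimple i hi).1
  simple_coroot i hi := (hsimple i hi).2
  order := by
    refine ⟨fun r => ∑ i, v r i * w i, hmono, ?_, ?_, fun r hr => (hsign r hr).1, fun r hr => (hsign r hr).2.1,
      fun r hr => (hsign r hr).2.2⟩
    · intro r hr s hs k hk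
      rcases h.classify r hr s hs with ⟨e, es⟩ | ⟨e, es⟩ | ⟨e, k', hk', hv, he⟩ | ⟨e, he⟩
      · simp [ChevalleyDatum.chainRoot, es, (h.entry_self r hr).1] at hk
      · simp [ChevalleyDatum.chainRoot, es, (h.entry_self r hr).2] at hk
      · simp [ChevalleyDatum.chainRoot, he] at hk
        subst hk
        simp only [hv, add_mul, Finset.sum_add_distrib]
      · simp [ChevalleyDatum.chainRoot, he] at hk
    · intro r hr
      simp only [h.v_neg r hr, neg_mul, Finset.sum_neg_distrib]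
  coroot_prim := hprim

end SLData

end Cfsg.Agent.Chev
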