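/-
Chevalley groups: a fast check of `SLData` for the large simply-laced tables.

Roots are packed in six-bit digits of one numeral, pairings and cocycle values of a whole row in sixteen-bit
digits of one numeral; `scan` walks a row of the chain table along all roots.
-/
import Cfsg.Agent.Lib.Chev.SimplyLaced

set_option autoImplicit false

namespace Cfsg.Agent.Chev

open Cfsg.Lie
open Cfsg.Lie.ChevalleyDatum

/-- Σ f s 65536^s over s < n. -/
def packF : (ℕ → ℤ) → ℕ → ℤ
  | _, 0 => 0
  | f, n + 1 => f 0 + 65536 * packF (fun s => f (s + 1)) n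

theorem packF_add (f g : ℕ → ℤ) (n : ℕ) : packF (fun s => f s + g s) n = packF f n + packF g n := by
  induction n generalizing f g with
  | zero => rfl
  | succ n ih => simp only [packF, ih]; ring

theorem packF_smul (c : ℤ) (f : ℕ → ℤ) (n : ℕ) : packF (fun s => c * f s) n = c * packF f n := by
  induction n generalizing f with
  | zero => simp [packF]
  | succ n ih => simp only [packF, ih]; ring

theorem packF_sum {ι : Type*} (t : Finset ι) (f : ι → ℕ → ℤ) (n : ℕ) :
    packF (fun s => ∑ i ∈ t, f i s) n = ∑ i ∈ t, packF (f i) n := by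
  classical
  induction t using Finset.induction_on with
  | empty =>
    have := packF_smul 0 (fun _ => 0) n
    simpa using this
  | insert a t ha ih => simp [Finset.sum_insert ha, packF_add, ih]

theorem packF_congr {f g : ℕ → ℤ} {n : ℕ} (h : ∀ s < n, f s = g s) : packF f n = packF g n := by
  induction n generalizing f g with
  | zero => rfl
  | succ n ih =>
    simp only [packF]
    rw [h 0 (by omega), ih fun s hs => h (s + 1) (by omega)]

theorem packF_nonneg {f : ℕ → ℤ} {n : ℕ} (h : ∀ s < n, 0 ≤ f s) : 0 ≤ packF f n := by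
  induction n generalizing f with
  | zero => simp [packF]
  | succ n ih =>
    have h₁ := h 0 (by omega)
    have h₂ := ih (f := fun s => f (s + 1)) fun s hs => h (s + 1) (by omega)
    simp only [packF]
    omega

theorem packF_digit {f : ℕ → ℤ} {n : ℕ} (h : ∀ s < n, 0 ≤ f s ∧ f s < 65536) :
    ∀ {s : ℕ}, s < n → ((((packF f n).toNat >>> (16 * s)) % 65536 : ℕ) : ℤ) = f s := by
  induction n generalizing f with
  | zero => intro s hs; omega
  | succ n ih =>
    intro s hs
    have h0 := h 0 (by omega)
    have hX : 0 ≤ packF (fun s => f (s + 1)) n := packF_nonneg fun s hs => (h (s + 1) (by omega)).1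
    rcases s with _ | s
    · simp only [packF, Nat.mul_zero, Nat.shiftRight_zero]
      omega
    · have e : (packF f (n + 1)).toNat >>> (16 * (s + 1)) =
          (packF (fun s => f (s + 1)) n).toNat >>> (16 * s) := by
        rw [show 16 * (s + 1) = 16 + 16 * s by ring, Nat.shiftRight_add]
        congr 1
        rw [Nat.shiftRight_eq_div_pow]
        simp only [packF]
        omega
      rw [e]
      exact ih (fun s hs => h (s + 1) (by omega)) (by omega)

theorem div_add_of_digits {b c : ℕ} :
    ∀ {i : ℕ}, (∀ j < i, b / 64 ^ j % 64 + c / 64 ^ j % 64 < 64) → (b + c) / 64 ^ i = b / 64 ^ i + c / 64 ^ i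
  | 0, _ => by simp
  | i + 1, h => by
    have ih := div_add_of_digits (b := b) (c := c) (i := i) fun j hj => h j (by omega)
    have := h i (by omega)
    simp only [pow_succ, ← Nat.div_div_eq_div_mul, ih]
    omega

/-- The certificate of a simply-laced datum. -/
structure SLCert where
  /-- all roots, forty-eight bits each, six bits to a coordinate with offset 16 -/
  vc : ℕ
  /-- the gauge, one bit to a root -/
  g : ℕ
  /-- packed rows of the Cartan table -/
  P : List ℤ
  /-- packed rows of the cocycle -/
  Q : List ℤ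
  /-- the Cartan matrix -/
  C : List (List ℤ)
  /-- Bezout coefficients for the coroots -/
  cs : List (List ℤ)

variable (D : ChevalleyDatum) (K : SLCert)

/-- The packed root. -/
def SLCert.code (r : ℕ) : ℕ := (K.vc >>> (48 * r)) % 2 ^ 48

/-- A coordinate of a root. -/
def SLCert.v (r i : ℕ) : ℤ := ((K.code r / 64 ^ i % 64 : ℕ) : ℤ) - 16

/-- The gauge bit. -/
def SLCert.γ (r : ℕ) : ℕ := (K.g >>> r) % 2

/-- An entry of the Cartan matrix. -/
def SLCert.c (i j : ℕ) : ℤ := (K.C.getD i []).getD j 0

/-- Σ_j c i j v r j. -/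
def SLCert.dotC (i r : ℕ) : ℤ := ((List.range D.rank).map fun j => K.c i j * K.v r j).sum

/-- Σ_j B i j v r j. -/
def SLCert.dotU (i r : ℕ) : ℤ :=
  ((List.range D.rank).map fun j => (if i = j then 1 else if i < j then K.c i j else 0) * K.v r j).sum

/-- The packed row of a bilinear form, from the packed rows of the basis. -/
def SLCert.rowI (L : List ℤ) (ones : ℤ) (r : ℕ) : ℕ :=
  (((List.range D.rank).map fun i => K.v r i * L.getD i 0).sum + 32768 * ones).toNat

/-- The number with all sixteen-bit digits 1. -/
def onesN (n : ℕ) : ℤ := packF (fun _ => 1) n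

/-- The check of a root that is absent from the row. -/
def missOK (r nr s ip : ℕ) : Bool :=
  ip == 32768 || ip == 32769 || (s == r && ip == 32770) || (s == nr && ip == 32766)

/-- The check of an entry of the row. -/
def hitOK (n r s ip js : ℕ) (ch : List (ℕ × ℤ)) : Bool :=
  match ch with
  | [(k, M)] => ip == 32767 && Nat.ble (k + 1) n && (K.code k + 71485708370960 == K.code r + K.code s) &&
      decide (M = if (K.γ r + K.γ s + K.γ k + js) % 2 = 0 then 1 else -1)
  | _ => false

/-- The walk along a row. -/
def scan (n r nr I J : ℕ) : ℕ → ℕ → List (ℕ × Array (ℕ × ℤ)) → Bool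
  | 0, _, row => row.isEmpty
  | f + 1, s, [] => missOK r nr s ((I >>> (16 * s)) % 65536) && scan n r nr I J f (s + 1) []
  | f + 1, s, e :: rest =>
    if e.1 == s then
      hitOK K n r s ((I >>> (16 * s)) % 65536) ((J >>> (16 * s)) % 65536) e.2.toList &&
        scan n r nr I J f (s + 1) rest
    else missOK r nr s ((I >>> (16 * s)) % 65536) && scan n r nr I J f (s + 1) (e :: rest)

/-- The outcome of the walk at a root. -/
def RowOK (n r nr I J x : ℕ) (row : List (ℕ × Array (ℕ × ℤ))) : Prop :=
  match row.find? fun e => decide (e.1 = x) with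
  | none => missOK r nr x ((I >>> (16 * x)) % 65536) = true
  | some e => hitOK K n r x ((I >>> (16 * x)) % 65536) ((J >>> (16 * x)) % 65536) e.2.toList = true

theorem scan_sound (n r nr I J : ℕ) :
    ∀ (f s : ℕ) (row : List (ℕ × Array (ℕ × ℤ))), scan K n r nr I J f s row = true →
      (∀ e ∈ row, s ≤ e.1) ∧ (row.map Prod.fst).Nodup ∧
        ∀ x, s ≤ x → x < s + f → RowOK K n r nr I J x row
  | 0, s, row, h => by
    simp only [scan, List.isEmpty_iff] at h
    subst h
    exact ⟨by simp, by simp, fun x h₁ h₂ => absurd h₂ (by omega)⟩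
  | f + 1, s, [], h => by
    simp only [scan, Bool.and_eq_true] at h
    obtain ⟨-, -, ih⟩ := scan_sound n r nr I J f (s + 1) [] h.2
    refine ⟨by simp, by simp, fun x h₁ h₂ => ?_⟩
    rcases Nat.eq_or_lt_of_le h₁ with rfl | h'
    · simpa [RowOK] using h.1
    · exact ih x h' (by omega)
  | f + 1, s, e :: rest, h => by
    simp only [scan] at h
    split_ifs at h with he
    · simp only [Bool.and_eq_true] at h
      obtain ⟨hle, hnd, ih⟩ := scan_sound n r nr I J f (s + 1) rest h.2
      rw [beq_iff_eq] at he
      refine ⟨?_, ?_, ?_⟩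
      · intro a ha
        rcases List.mem_cons.1 ha with rfl | ha
        · omega
        · have := hle a ha; omega
      · rw [List.map_cons, List.nodup_cons]
        refine ⟨?_, hnd⟩
        intro hm
        obtain ⟨a, ha, e'⟩ := List.mem_map.1 hm
        have := hle a ha
        omega
      · intro x h₁ h₂
        rcases Nat.eq_or_lt_of_le h₁ with rfl | h'
        · simp [RowOK, he, h.1]
        · have := ih x h' (by omega)
          have hne : ¬ e.1 = x := by omega
          simpa [RowOK, List.find?_cons, hne] using this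
    · simp only [Bool.and_eq_true] at h
      obtain ⟨hle, hnd, ih⟩ := scan_sound n r nr I J f (s + 1) (e :: rest) h.2
      refine ⟨fun a ha => by have := hle a ha; omega, hnd, ?_⟩
      intro x h₁ h₂
      rcases Nat.eq_or_lt_of_le h₁ with rfl | h'
      · have hf : (e :: rest).find? (fun a => decide (a.1 = s)) = none := by
          rw [List.find?_eq_none]
          intro a ha
          have := hle a ha
          simp
          omega
        simp only [RowOK, hf]
        exact h.1
      · exact ih x h' (by omega)

/-- The walk of row `r`. -/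
def rowCheck (r : ℕ) : Bool :=
  scan K D.nroots r (D.nroots - 1 - r) (K.rowI D K.P (onesN D.nroots) r) (K.rowI D K.Q (onesN D.nroots) r)
    D.nroots 0 (D.chain.getD r #[]).toList

/-- The checks on a single root. -/
def vecCheck (r : ℕ) : Bool :=
  (List.range 8).all (fun i => decide (K.code r / 64 ^ i % 64 ≤ 31)) &&
  (List.range D.rank).all (fun i => decide ((K.v r i).natAbs ≤ 30 ∧ (K.dotC D i r).natAbs ≤ 3 ∧
    (K.dotU D i r).natAbs ≤ 1000 ∧ K.v (D.nroots - 1 - r) i = -K.v r i)) &&
  decide (((List.range D.rank).map fun i => (K.v r i).natAbs).sum ≤ 32 ∧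
    (K.γ (D.nroots - 1 - r) + K.γ r) % 2 = 1 ∧
    ((K.rowI D K.P (onesN D.nroots) r) >>> (16 * r)) % 65536 = 32770 ∧
    ((List.range D.rank).map fun i => (K.cs.getD r []).getD i 0 * K.v r i).sum = 1)

/-- The position of a root: its coordinates read in base 16, the first one leading. -/
def SLCert.pos (r : ℕ) : ℤ := ((List.range D.rank).map fun i => K.v r i * 16 ^ (D.rank - 1 - i)).sum

/-- The checks on the whole tables. -/
structure SLTables : Prop where
  neg : D.negIdx.toList = (List.range D.nroots).map fun r => D.nroots - 1 - r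
  coroot : (D.coroot.toList.map fun c => c.toList) =
    (List.range D.nroots).map fun r => (List.range D.rank).map fun i => K.v r i
  cartan : (D.cartanSR.toList.map fun c => c.toList) =
    (List.range D.rank).map fun i => (List.range D.nroots).map fun r => K.dotC D i r
  mat : ∀ i < D.rank, ∀ j < D.rank, D.cartan i (D.simple j) = K.c i j ∧ K.c i j = K.c j i ∧
    (i = j → K.c i j = 2)
  packP : ∀ i < D.rank, K.P.getD i 0 = packF (fun s => K.dotC D i s) D.nroots
  packQ : ∀ i < D.rank, K.Q.getD i 0 = packF (fun s => K.dotU D i s) D.nroots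
  simple : ∀ i < D.rank, D.simple i < D.nroots ∧
    ∀ j < D.rank, (D.coroot.getD (D.simple i) #[]).getD j 0 = if j = i then 1 else 0
  pos_mono : ∀ r < D.nroots - 1, K.pos D r < K.pos D (r + 1)
  pos_sign : ∀ r < D.nroots, K.pos D r ≠ 0 ∧ (D.IsPosRoot r ↔ 0 < K.pos D r) ∧
    (D.IsNegRoot r ↔ K.pos D r < 0)
  vecs : (List.range D.nroots).all (vecCheck D K) = true
  rows : (List.range D.nroots).all (rowCheck D K) = true

namespace SLTables

variable {D K} (T : SLTables D K)
include T

theorem neg_eq {r : ℕ} (hr : r < D.nroots) : D.neg r = D.nroots - 1 - r := by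
  have : D.negIdx.getD r 0 = D.negIdx.toList.getD r 0 := by simp [Array.getD_eq_getD_getElem?, List.getD]
  rw [ChevalleyDatum.neg, this, T.neg]
  simp [List.getD, hr]

theorem coroot_eq {r i : ℕ} (hr : r < D.nroots) (hi : i < D.rank) :
    (D.coroot.getD r #[]).getD i 0 = K.v r i := by
  have h := congrArg (fun L => (L.getD r []).getD i 0) T.coroot
  simp only [List.getD, List.getElem?_map, List.getElem?_range hr, Option.map_some, Option.getD_some,
    List.getElem?_range hi] at h
  rw [← h]
  cases hc : D.coroot[r]? with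
  | none => simp [Array.getD_eq_getD_getElem?, hc, Array.getElem?_toList]
  | some c => simp [Array.getD_eq_getD_getElem?, hc, Array.getElem?_toList]

theorem cartan_eq {r i : ℕ} (hr : r < D.nroots) (hi : i < D.rank) : D.cartan i r = K.dotC D i r := by
  have h := congrArg (fun L => (L.getD i []).getD r 0) T.cartan
  simp only [List.getD, List.getElem?_map, List.getElem?_range hi, Option.map_some, Option.getD_some,
    List.getElem?_range hr] at h
  rw [← h, ChevalleyDatum.cartan]
  cases hc : D.cartanSR[i]? with
  | none => simp [Array.getD_eq_getD_getElem?, hc, Array.getElem?_toList]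
  | some c => simp [Array.getD_eq_getD_getElem?, hc, Array.getElem?_toList]

theorem vec {r : ℕ} (hr : r < D.nroots) :
    (∀ i < 8, K.code r / 64 ^ i % 64 ≤ 31) ∧
    (∀ i < D.rank, (K.v r i).natAbs ≤ 30 ∧ (K.dotC D i r).natAbs ≤ 3 ∧
      (K.dotU D i r).natAbs ≤ 1000 ∧ K.v (D.nroots - 1 - r) i = -K.v r i) ∧
    ((List.range D.rank).map fun i => (K.v r i).natAbs).sum ≤ 32 ∧
    (K.γ (D.nroots - 1 - r) + K.γ r) % 2 = 1 ∧
    ((K.rowI D K.P (onesN D.nroots) r) >>> (16 * r)) % 65536 = 32770 ∧
    ((List.range D.rank).map fun i => (K.cs.getD r []).getD i 0 * K.v r i).sum = 1 := by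
  have := List.all_eq_true.1 T.vecs r (List.mem_range.2 hr)
  simp only [vecCheck, Bool.and_eq_true, List.all_eq_true, List.mem_range, decide_eq_true_eq] at this
  exact ⟨this.1.1, this.1.2, this.2⟩

theorem digit {L : List ℤ} {f : ℕ → ℕ → ℤ} (hL : ∀ i < D.rank, L.getD i 0 = packF (f i) D.nroots)
    (hb : ∀ i < D.rank, ∀ s < D.nroots, (f i s).natAbs ≤ 1000) {r s : ℕ} (hr : r < D.nroots)
    (hs : s < D.nroots) :
    ((((K.rowI D L (onesN D.nroots) r) >>> (16 * s)) % 65536 : ℕ) : ℤ) =
      (∑ i : Fin D.rank, K.v r i * f i s) + 32768 := by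
  have e : ((List.range D.rank).map fun i => K.v r i * L.getD i 0).sum + 32768 * onesN D.nroots =
      packF (fun s => (∑ i : Fin D.rank, K.v r i * f i s) + 32768) D.nroots := by
    rw [packF_add (fun s => ∑ i : Fin D.rank, K.v r i * f i s) (fun _ => 32768), packF_sum]
    congr 1
    · rw [← List.sum_toFinset _ List.nodup_range, List.toFinset_range, ← Fin.sum_univ_eq_sum_range]
      exact Finset.sum_congr rfl fun i _ => by rw [hL i i.isLt, packF_smul]
    · rw [onesN, ← packF_smul]; simp
  rw [SLCert.rowI, e]
  refine packF_digit (fun x hx => ?_) hs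
  have hsum : ((List.range D.rank).map fun i => (K.v r i).natAbs).sum ≤ 32 := (T.vec hr).2.2.1
  have : |∑ i : Fin D.rank, K.v r i * f i x| ≤ 32000 := by
    refine le_trans (Finset.abs_sum_le_sum_abs _ _) ?_
    calc ∑ i : Fin D.rank, |K.v r i * f i x| ≤ ∑ i : Fin D.rank, |K.v r i| * 1000 := by
          refine Finset.sum_le_sum fun i _ => ?_
          rw [abs_mul]
          refine mul_le_mul_of_nonneg_left ?_ (abs_nonneg _)
          have := hb i i.isLt x hx
          rw [Int.abs_eq_natAbs]
          omega
      _ ≤ 32000 := by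
          rw [← Finset.sum_mul]
          have : ∑ i : Fin D.rank, |K.v r i| = (((List.range D.rank).map fun i => (K.v r i).natAbs).sum : ℕ) := by
            rw [← List.sum_toFinset _ List.nodup_range, List.toFinset_range, Nat.cast_sum,
              ← Fin.sum_univ_eq_sum_range]
            exact Finset.sum_congr rfl fun i _ => Int.abs_eq_natAbs _
          rw [this]
          omega
  rw [abs_le] at this
  omega

theorem dotC_sum (i r : ℕ) : K.dotC D i r = ∑ j : Fin D.rank, K.c i j * K.v r j := by
  rw [SLCert.dotC, ← List.sum_toFinset _ List.nodup_range, List.toFinset_range, ← Fin.sum_univ_eq_sum_range]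

theorem digit_pairing {r s : ℕ} (hr : r < D.nroots) (hs : s < D.nroots) :
    ((((K.rowI D K.P (onesN D.nroots) r) >>> (16 * s)) % 65536 : ℕ) : ℤ) = D.pairing r s + 32768 := by
  rw [T.digit T.packP (fun i hi x hx => le_trans ((T.vec hx).2.1 i hi).2.1 (by omega)) hr hs, pairing_eq_sum]
  congr 1
  exact Finset.sum_congr rfl fun i _ => by rw [T.coroot_eq hr i.isLt, T.cartan_eq hs i.isLt]

theorem code_add {r s k : ℕ} (hr : r < D.nroots) (hs : s < D.nroots) (hk : k < D.nroots) (hl : D.rank ≤ 8)
    (h : K.code k + 71485708370960 = K.code r + K.code s) (i : ℕ) (hi : i < D.rank) :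
    K.v k i = K.v r i + K.v s i := by
  have h16 : ∀ j < 8, 71485708370960 / 64 ^ j % 64 = 16 := by decide
  have b : ∀ {x : ℕ}, x < D.nroots → ∀ j < 8, K.code x / 64 ^ j % 64 ≤ 31 := fun hx => (T.vec hx).1
  have e₁ := div_add_of_digits (b := K.code k) (c := 71485708370960) (i := i) fun j hj => by
    have := b hk j (by omega); have := h16 j (by omega); omega
  have e₂ := div_add_of_digits (b := K.code r) (c := K.code s) (i := i) fun j hj => by
    have := b hr j (by omega); have := b hs j (by omega); omega
  have := b hk i (by omega)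
  have := b hr i (by omega)
  have := b hs i (by omega)
  have := h16 i (by omega)
  rw [h] at e₁
  simp only [SLCert.v]
  omega

theorem slData (hl : D.rank ≤ 8) : SLData D (fun r i => K.v r i.val) (fun r => (K.γ r : ℤ)) := by
  have hcm : ∀ i j : Fin D.rank, cartanMat D i j = K.c i j := fun i j => (T.mat i i.isLt j j.isLt).1
  have hU : ∀ (i : Fin D.rank) r, ∑ j, upperMat D i j * K.v r j = K.dotU D i r := by
    intro i r
    rw [SLCert.dotU, ← List.sum_toFinset _ List.nodup_range, List.toFinset_range, ← Fin.sum_univ_eq_sum_range]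
    exact Finset.sum_congr rfl fun j _ => by simp only [upperMat, hcm]
  have hself : ∀ r < D.nroots, D.pairing r r = 2 := fun r hr => by
    have := T.digit_pairing hr hr
    rw [(T.vec hr).2.2.2.2.1] at this
    omega
  have hv_neg : ∀ r < D.nroots, ∀ i : Fin D.rank, K.v (D.neg r) i = -K.v r i := fun r hr i => by
    rw [T.neg_eq hr]; exact ((T.vec hr).2.1 i i.isLt).2.2.2
  have hneg_lt : ∀ r < D.nroots, D.neg r < D.nroots := fun r hr => by rw [T.neg_eq hr]; omega
  have hpn : ∀ r < D.nroots, D.pairing r (D.neg r) = -2 := fun r hr => by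
    rw [← hself r hr, pairing_eq_sum, pairing_eq_sum, ← Finset.sum_neg_distrib]
    refine Finset.sum_congr rfl fun i _ => ?_
    rw [T.cartan_eq (hneg_lt r hr) i.isLt, T.cartan_eq hr i.isLt, T.dotC_sum, T.dotC_sum, ← mul_neg,
      ← Finset.sum_neg_distrib]
    congr 1
    exact Finset.sum_congr rfl fun j _ => by rw [hv_neg r hr j, mul_neg]
  have hrow : ∀ r < D.nroots, KeysNodup D r ∧ ∀ s < D.nroots,
      (D.pairing r s = 2 ∧ s = r ∧ D.chainEntry r s = []) ∨
      (D.pairing r s = -2 ∧ s = D.neg r ∧ D.chainEntry r s = []) ∨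
      (D.pairing r s = -1 ∧ ∃ k < D.nroots, (∀ i : Fin D.rank, K.v k i = K.v r i + K.v s i) ∧
        D.chainEntry r s = [(k, sgn (nExp D (fun r i => K.v r i.val) (fun r => (K.γ r : ℤ)) r s k))]) ∨
      ((D.pairing r s = 0 ∨ D.pairing r s = 1) ∧ D.chainEntry r s = []) := by
    intro r hr
    have := List.all_eq_true.1 T.rows r (List.mem_range.2 hr)
    obtain ⟨-, hnd, hx⟩ := scan_sound K _ _ _ _ _ _ _ _ this
    refine ⟨hnd, fun s hs => ?_⟩
    have hI := T.digit_pairing hr hs
    have hJ := T.digit T.packQ (fun i hi x hx => ((T.vec hx).2.1 i hi).2.2.1) hr hs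
    have hbil : bil D (fun r i => K.v r i.val) r s = ∑ i : Fin D.rank, K.v r i * K.dotU D i s :=
      Finset.sum_congr rfl fun i _ => by rw [hU]
    rw [← hbil] at hJ
    have hxs := hx s (Nat.zero_le s) (by omega)
    simp only [RowOK] at hxs
    cases hf : (D.chain.getD r #[]).toList.find? fun e => decide (e.1 = s) with
    | none =>
      have he : D.chainEntry r s = [] := by simp only [ChevalleyDatum.chainEntry, hf]
      simp only [hf, missOK, Bool.or_eq_true, Bool.and_eq_true, beq_iff_eq] at hxs
      rcases hxs with ((h | h) | ⟨e, h⟩) | ⟨e, h⟩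
      · exact Or.inr (Or.inr (Or.inr ⟨Or.inl (by omega), he⟩))
      · exact Or.inr (Or.inr (Or.inr ⟨Or.inr (by omega), he⟩))
      · exact Or.inl ⟨by omega, e, he⟩
      · exact Or.inr (Or.inl ⟨by omega, by rw [T.neg_eq hr]; exact e, he⟩)
    | some e =>
      have he : D.chainEntry r s = e.2.toList := by simp only [ChevalleyDatum.chainEntry, hf]
      simp only [hf, hitOK] at hxs
      split at hxs
      next k M heq =>
        simp only [Bool.and_eq_true, beq_iff_eq, Nat.ble_eq, decide_eq_true_eq] at hxs
        obtain ⟨⟨⟨hip, hk⟩, hcode⟩, hM⟩ := hxs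
        have hkn : k < D.nroots := hk
        refine Or.inr (Or.inr (Or.inl ⟨by omega, k, hkn,
          fun i => T.code_add hr hs hkn hl hcode i i.isLt, ?_⟩))
        rw [he, heq, hM]
        simp only [sgn, nExp]
        have hif : ∀ {a b : Prop} [Decidable a] [Decidable b], (a ↔ b) →
            (if a then (1 : ℤ) else -1) = if b then 1 else -1 := fun h => by simp [h]
        refine congrArg (fun M : ℤ => [(k, M)]) (hif ?_)
        omega
      next => simp at hxs
  refine
    { neg_lt := hneg_lt
      neg_neg := fun r hr => by rw [T.neg_eq (hneg_lt r hr), T.neg_eq hr]; omega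
      keys := fun r hr => (hrow r hr).1
      cartan_eq := fun r hr i => ?_
      coroot_eq := fun r hr i => T.coroot_eq hr i.isLt
      symm := fun i j => by rw [hcm, hcm]; exact (T.mat i i.isLt j j.isLt).2.1
      diag := fun i => by rw [hcm]; exact (T.mat i i.isLt i i.isLt).2.2 rfl
      v_neg := hv_neg
      entry_self := fun r hr => ⟨?_, ?_⟩
      γ_neg := fun r hr => ?_
      pairing_self := hself
      classify := fun r hr s hs => ?_ }
  · rw [T.cartan_eq hr i.isLt, T.dotC_sum]
    exact Finset.sum_congr rfl fun j _ => by rw [hcm]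
  · have := hself r hr
    rcases (hrow r hr).2 r hr with c | c | c | c
    · exact c.2.2
    · exact c.2.2
    · omega
    · exact c.2
  · have := hpn r hr
    rcases (hrow r hr).2 _ (hneg_lt r hr) with c | c | c | c
    · exact c.2.2
    · exact c.2.2
    · omega
    · exact c.2
  · have := (T.vec hr).2.2.2.1
    rw [T.neg_eq hr]
    omega
  · rcases (hrow r hr).2 s hs with c | c | c | c
    · exact Or.inl ⟨c.1, c.2.1⟩
    · exact Or.inr (Or.inl ⟨c.1, c.2.1⟩)
    · exact Or.inr (Or.inr (Or.inl c))
    · exact Or.inr (Or.inr (Or.inr c))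

theorem good (hl : D.rank ≤ 8) : Good D := by
  have e : ∀ r, K.pos D r = ∑ i : Fin D.rank, K.v r i * 16 ^ (D.rank - 1 - i.val) := fun r => by
    rw [SLCert.pos, ← List.sum_toFinset _ List.nodup_range, List.toFinset_range, ← Fin.sum_univ_eq_sum_range]
  refine (T.slData hl).good T.simple (fun i => 16 ^ (D.rank - 1 - i.val)) ?_ ?_ ?_
  · intro r hr s hs hrs
    rw [← e, ← e]
    induction s with
    | zero => omega
    | succ s ih =>
      have := T.pos_mono s (by omega)
      rcases Nat.lt_succ_iff_lt_or_eq.1 hrs with h' | h'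
      · exact lt_trans (ih (by omega) h') this
      · subst h'; exact this
  · intro r hr
    rw [← e]
    exact T.pos_sign r hr
  · intro r hr
    refine ⟨fun i => (K.cs.getD r []).getD i.val 0, ?_⟩
    rw [Finset.sum_congr rfl fun i _ => by rw [T.coroot_eq hr i.isLt],
      Fin.sum_univ_eq_sum_range fun i => (K.cs.getD r []).getD i 0 * K.v r i, ← List.toFinset_range,
      List.sum_toFinset _ List.nodup_range]
    exact (T.vec hr).2.2.2.2.2

end SLTables

end Cfsg.Agent.Chev
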