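/-
Chevalley groups: the table conditions for type D4.
-/
import Cfsg.Agent.Lib.Chev.SLCheck

set_option autoImplicit false
set_option maxRecDepth 8000

namespace Cfsg.Agent.Chev.DataD4

open Cfsg.Lie

def cert : SLCert where
  vc := 0x4104104514914104104514514104104114514104104504514104104104514104104104114104104514504104104114504104104504504104104104504104104114104104104504104104103d041041041040f4104104104103d04104103d03d041041040f3d04104103cf3d041041041040f4104104103cf4104103d03cf41041040f3cf4104103cf3cf4104103cf38f
  g := 0x800ffe
  P := [0x10001000100010001fffefffefffeffff00000000000000000001000100010000fffdfffefffefffeffff0000, 0xffff000000000000ffff0000000100010001fffeffff00010000fffdfffeffff00000000ffff000000000000ffff, 0x10000fffeffff000000010000fffeffff0001fffffffffffe00010000fffeffff000000010000fffeffff0000, 0xffff0000ffff00000000ffff0000ffff00000001fffe00000000ffff0000ffff00000000ffff0000ffff0000]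
  Q := [-0xffffffffffffffffffff0001000100010000fffffffffffffffffffefffefffeffff0000ffffffffffffffffffff, -0xffffffffffff00000000ffffffffffff00010000fffeffff0000ffffffffffff00000000ffffffffffff0000, 0x10001000100000000000000010001000000000000fffffffffffefffffffffffefffefffffffffffffffefffeffff, 0x100010000000100000000000100000001000000000000fffefffffffffffefffffffefffffffffffefffffffeffff]
  C := [[2, -1, 0, 0], [-1, 2, -1, -1], [0, -1, 2, 0], [0, -1, 0, 2]]
  cs := [[0, 0, 0, -1], [0, 0, 0, -1], [0, 0, -1, 0], [0, 0, 0, -1], [0, -1, 0, 0], [-1, 0, 0, 0], [0, 0, 0, -1], [0, 0, -1, 0], [0, 0, 0, -1], [0, -1, 0, 0], [0, 0, -1, 0], [0, 0, 0, -1], [0, 0, 0, 1], [0, 0, 1, 0], [0, 1, 0, 0], [0, 0, 0, 1], [0, 0, 1, 0], [0, 0, 0, 1], [1, 0, 0, 0], [0, 1, 0, 0], [0, 0, 0, 1], [0, 0, 1, 0], [0, 0, 0, 1], [0, 0, 0, 1]]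

theorem vecs_check : ((List.range chevD4.nroots).all (vecCheck chevD4 cert)) = true := by decide +kernel

theorem rows_check : ((List.range chevD4.nroots).all (rowCheck chevD4 cert)) = true := by decide +kernel

theorem tables : SLTables chevD4 cert where
  neg := by decide +kernel
  coroot := by decide +kernel
  cartan := by decide +kernel
  mat := by decide +kernel
  packP := by decide +kernel
  packQ := by decide +kernel
  simple := by decide +kernel
  pos_mono := by decide +kernel
  pos_sign := by decide +kernel
  vecs := vecs_check
  rows := rows_check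

theorem good : Good chevD4 := tables.good (by decide)

end Cfsg.Agent.Chev.DataD4
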