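/-
Chevalley groups: the Jacobi checks for type F4.
-/
import Cfsg.Agent.Lib.Chev.DataF4Base

set_option autoImplicit false
set_option maxRecDepth 8000
set_option Elab.async false

namespace Cfsg.Agent.Chev.DataF4

open Cfsg.Lie

theorem gens_bool :
    (gens chevF4).all (jacB packed.n packed.l packed.neg packed.ent packed.cartan coroots) = true := by
  decide +kernel

theorem gen_check_fast (p : ℕ) (hp : p ∈ gens chevF4) :
    JacGenF packed.n packed.l packed.neg packed.ent packed.cartan coroots p :=
  jacGenF_of_jacB _ _ _ _ _ _ (List.all_eq_true.1 gens_bool p hp)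

end Cfsg.Agent.Chev.DataF4
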