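/-
Chevalley groups: the checks on pairs of roots for type F4.
-/
import Cfsg.Agent.Lib.Chev.DataF4Base

set_option autoImplicit false
set_option maxRecDepth 8000
set_option Elab.async false

namespace Cfsg.Agent.Chev.DataF4

open Cfsg.Lie

theorem pairs_bool : ((List.range 48).all fun r => (List.range 48).all (pairB packed heights r)) = true := by
  decide +kernel

theorem pair_check_fast (r : ℕ) (hr : r < 48) (s : ℕ) (hs : s < 48) : PairCheckF packed heights r s :=
  pairCheckF_of_pairB _ (List.all_eq_true.1 (List.all_eq_true.1 pairs_bool r (List.mem_range.2 hr)) s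
    (List.mem_range.2 hs))

end Cfsg.Agent.Chev.DataF4
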