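/-
Chevalley groups: the table conditions for type F4.
-/
import Cfsg.Agent.Lib.Chev.DataF4Pairs
import Cfsg.Agent.Lib.Chev.DataF4Gens

set_option autoImplicit false
set_option maxRecDepth 8000
set_option Elab.async false

namespace Cfsg.Agent.Chev.DataF4

open Cfsg.Lie

theorem packedOK : PackedOK chevF4 packed where
  n_eq := rfl
  l_eq := rfl
  size := by decide +kernel
  negs := by decide +kernel
  carts := by decide +kernel
  keys := by decide +kernel
  chains := by decide +kernel
  pairs := by decide +kernel

theorem root_check : ∀ r < chevF4.nroots, RootCheck chevF4 bezout r := by decide +kernel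

theorem ord_check : OrdCheck chevF4 heights := by decide +kernel

theorem simple_check : ∀ i < chevF4.rank, chevF4.simple i < chevF4.nroots ∧
    ∀ j < chevF4.rank, ((chevF4.coroot).getD (chevF4.simple i) #[]).getD j 0 = if j = i then 1 else 0 := by
  decide +kernel

theorem dec_check : DecOK chevF4 (gens chevF4) decomp := by decide +kernel

theorem good : Good chevF4 :=
  good_of_checks chevF4 heights bezout decomp root_check
    (fun r hr s hs => packedOK.pairCheck hr hs (pair_check_fast r hr s hs)) ord_check simple_check
    (fun p hp => packedOK.jacGen (gen_check_fast p hp)) dec_check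

end Cfsg.Agent.Chev.DataF4
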