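/-
Chevalley groups: the table conditions for type G2.
-/
import Cfsg.Agent.Lib.Chev.Fast

set_option autoImplicit false
set_option maxRecDepth 8000
set_option Elab.async false

namespace Cfsg.Agent.Chev.DataG2

open Cfsg.Lie

def packed : Packed where
  n := 12
  l := 2
  w := 38
  ch := 0x70a400000000000000070940000024210000009064000000000000000000000000000000000000000000000000000000000000001c2d0000000000000001c25000000000000000241d00000000000000024150000000000000000000000000000000000142d00000050a4000000000000000000000142e822000b0a607800000000070b908904e429c1e40f0000000000000000000000000b0b4000000000000b0ba09800000000070b709707c000002c190000000000001419812000000000241a411c0b0000000000000000000000000b0a4001429826000000000242a425c230000000000000000000000000b054002c1680e705703702c000000000000000000000000242d00000000000000000000000009084000000000000000000000000000000000070440000000000000000000000001c0500000090a4000000000000000000000000241d00000000000000000000000000000000001c0d000000000000000000000000070040000000000000000002419c22427000b0660880000014190000000000000000000701902903c000000000000501a0280000014050000000000000000000705907909c000000000000505a0780000000000000005056401c0a4130000000000002c0180a00000000000000014010000000000000000000701704708e40240dc1f0000000000002c0681200050060380000000000000000000000002c05000000b00400000000000000000000000000000000007064000000000000000704400000000000000090240000000000000009004000000000000000000000000000000000000000000000000000000000000001c1500000070340000024090000000000000002405000000000000000000000000000000000000000000000000000000000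
  pr := 0xa999897877769a9897978767bba998877655b89a7b5967858b97a5b6975897897a697897798796a7987985796b5a79b8587695b7a98b556778899abb7678797989a967778798999a
  ca := 0x97897a6978978b97a5b69758

def heights : List ℤ := [-50, -49, -33, -17, -16, -1, 1, 16, 17, 33, 49, 50]

def bezout : List (List ℤ) := [[1, -1], [0, -1], [1, -1], [-1, 0], [-1, 0], [0, -1], [0, 1], [1, 0], [1, 0], [-1, 1], [0, 1], [1, 0]]

def decomp : List (ℕ × ℕ × ℕ) := [(4, 5, 3), (7, 6, 8), (7, 8, 9), (7, 9, 10), (6, 10, 11), (4, 3, 2), (4, 2, 1), (5, 1, 0)]

def coroots (r i : ℕ) : ℤ := (chevG2.coroot.getD r #[]).getD i 0

theorem packedOK : PackedOK chevG2 packed where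
  n_eq := rfl
  l_eq := rfl
  size := by decide +kernel
  negs := by decide +kernel
  carts := by decide +kernel
  keys := by decide +kernel
  chains := by decide +kernel
  pairs := by decide +kernel

theorem root_check : ∀ r < chevG2.nroots, RootCheck chevG2 bezout r := by decide +kernel

theorem pairs_bool : ((List.range 12).all fun r => (List.range 12).all (pairB packed heights r)) = true := by
  decide +kernel

theorem pair_check_fast (r : ℕ) (hr : r < 12) (s : ℕ) (hs : s < 12) : PairCheckF packed heights r s :=
  pairCheckF_of_pairB _ (List.all_eq_true.1 (List.all_eq_true.1 pairs_bool r (List.mem_range.2 hr)) s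
    (List.mem_range.2 hs))

theorem ord_check : OrdCheck chevG2 heights := by decide +kernel

theorem simple_check : ∀ i < chevG2.rank, chevG2.simple i < chevG2.nroots ∧
    ∀ j < chevG2.rank, ((chevG2.coroot).getD (chevG2.simple i) #[]).getD j 0 = if j = i then 1 else 0 := by
  decide +kernel

theorem gens_bool :
    (gens chevG2).all (jacB packed.n packed.l packed.neg packed.ent packed.cartan coroots) = true := by
  decide +kernel

theorem gen_check_fast (p : ℕ) (hp : p ∈ gens chevG2) :
    JacGenF packed.n packed.l packed.neg packed.ent packed.cartan coroots p :=
  jacGenF_of_jacB _ _ _ _ _ _ (List.all_eq_true.1 gens_bool p hp)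

theorem dec_check : DecOK chevG2 (gens chevG2) decomp := by decide +kernel

theorem good : Good chevG2 :=
  good_of_checks chevG2 heights bezout decomp root_check
    (fun r hr s hs => packedOK.pairCheck hr hs (pair_check_fast r hr s hs)) ord_check simple_check
    (fun p hp => packedOK.jacGen (gen_check_fast p hp)) dec_check

end Cfsg.Agent.Chev.DataG2
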