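/-
Every element of U is uniquely an ordered product of positive root elements.

* `exists_prod`, `prod_inj`: for an upper segment of the positive roots, listed by increasing height.
-/
import Cfsg.Agent.Lib.ChevOrder.CardU

set_option autoImplicit false

namespace Cfsg.Agent.Chev.UProd

open Cfsg.Lie Cfsg.Lie.ChevalleyDatum Cfsg.Agent.Chev Cfsg.Agent.ChevSt Cfsg.Agent.ChevSt.Sys Cfsg.Agent.ChevOrder
  Cfsg.Agent.ChevBN Matrix

variable {D : ChevalleyDatum} (hD : Good D) {o : ℕ → ℤ} (ho : OrdOK D o) {F : Type*} [Field F]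

/-- An upper segment of the positive roots by increasing height. -/
def Seg (D : ChevalleyDatum) (o : ℕ → ℤ) (L : List ℕ) : Prop :=
  L.Pairwise (fun a b => o a < o b) ∧ (∀ q ∈ L, q < D.nroots ∧ 0 < o q) ∧
    ∀ k ∈ L, ∀ q < D.nroots, o k < o q → q ∈ L

theorem Seg.tail {k : ℕ} {L : List ℕ} (h : Seg D o (k :: L)) : Seg D o L := by
  obtain ⟨h1, h2, h3⟩ := h
  obtain ⟨ha, hb⟩ := List.pairwise_cons.1 h1
  refine ⟨hb, fun q hq => h2 q (List.mem_cons_of_mem _ hq), fun k' hk' q hq hlt => ?_⟩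
  rcases List.mem_cons.1 (h3 k' (List.mem_cons_of_mem _ hk') q hq hlt) with rfl | h
  · exact absurd (ha k' hk') (by omega)
  · exact h

include ho in
theorem seg_posRoots : Seg D o D.posRoots := by
  have hmem : ∀ q, q ∈ D.posRoots ↔ q < D.nroots ∧ 0 < o q := fun q => by
    simp only [posRoots, List.mem_filter, List.mem_range, decide_eq_true_eq]
    exact and_congr_right fun hq => ho.pos_iff q hq
  refine ⟨?_, fun q hq => (hmem q).1 hq, fun k hk q hq hlt => (hmem q).2 ⟨hq, ?_⟩⟩
  · have h1 : D.posRoots.Pairwise (· < ·) := List.Pairwise.filter _ List.pairwise_lt_range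
    exact h1.imp_of_mem fun {a b} ha hb hab => ho.mono a ((hmem a).1 ha).1 b ((hmem b).1 hb).1 hab
  · have := ((hmem k).1 hk).2
    omega

include hD ho in
theorem norm_tail {k : ℕ} {L : List ℕ} (h : Seg D o (k :: L)) (t : F) :
    (matSys D hD F).x k t ∈ Subgroup.normalizer ((matSys D hD F).genBy {q | q ∈ L} : Set (GL D.Idx F)) := by
  have hlin : IsLin D o := ⟨ho.add, ho.neg⟩
  obtain ⟨h1, h2, h3⟩ := h
  obtain ⟨ha, -⟩ := List.pairwise_cons.1 h1
  obtain ⟨hk, hkpos⟩ := h2 k (by simp)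
  have hne : ∀ s ∈ L, s ≠ k ∧ s ≠ D.neg k := by
    intro s hs
    refine ⟨fun e => ?_, fun e => ?_⟩
    · subst e; exact lt_irrefl _ (ha s hs)
    · have h4 := (h2 s (List.mem_cons_of_mem _ hs)).2
      rw [e, hlin.neg k hk] at h4
      omega
  refine (matSys D hD F).x_mem_normalizer_genBy hk (fun s hs => (h2 s (List.mem_cons_of_mem _ hs)).1) hne ?_ t
  intro s hs τ hτ
  obtain ⟨hs1, hs2⟩ := h2 s (List.mem_cons_of_mem _ hs)
  obtain ⟨hτlt, h4, h5, h6⟩ := hlin.commTerms hD hk hs1 (hne s hs).1 (hne s hs).2 hτ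
  have e1 : o k ≤ (τ.2.2.1 : ℤ) * o k := le_mul_of_one_le_left (by omega) (by exact_mod_cast h4)
  have e2 : o s ≤ (τ.2.2.2 : ℤ) * o s := le_mul_of_one_le_left (by omega) (by exact_mod_cast h5)
  rcases List.mem_cons.1 (h3 k (by simp) τ.1 hτlt (by omega)) with e | e
  · rw [e] at h6; omega
  · exact e

include hD ho in
theorem exists_prod : ∀ L : List ℕ, Seg D o L → ∀ g ∈ (matSys D hD F).genBy {q | q ∈ L},
    ∃ t : ℕ → F, (∀ r, r ∉ L → t r = 0) ∧ g = (L.map fun r => (matSys D hD F).x r (t r)).prod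
  | [], _, g, hg => ⟨fun _ => 0, fun _ _ => rfl, by simpa [Sys.genBy] using hg⟩
  | k :: L, h, g, hg => by
    set S := matSys D hD F
    suffices h' : ∃ u, ∃ g' ∈ S.genBy {q | q ∈ L}, g = S.x k u * g' by
      obtain ⟨u, g', hg', rfl⟩ := h'
      obtain ⟨t, ht0, rfl⟩ := exists_prod L h.tail g' hg'
      have hkL : k ∉ L := fun hm => lt_irrefl _ ((List.pairwise_cons.1 h.1).1 k hm)
      refine ⟨Function.update t k u, fun r hr => ?_, ?_⟩
      · rw [Function.update_of_ne (fun e => hr (by rw [e]; exact List.mem_cons_self)), ht0 r fun hm => hr (List.mem_cons_of_mem _ hm)]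
      · rw [List.map_cons, List.prod_cons, Function.update_self]
        congr 2
        refine List.map_congr_left fun r hr => ?_
        rw [Function.update_of_ne (show r ≠ k from fun e => hkL (by rw [← e]; exact hr))]
    have hN := norm_tail hD ho (F := F) h
    induction hg using Subgroup.closure_induction with
    | mem g hg =>
      obtain ⟨q, hq, u, rfl⟩ := hg
      rcases List.mem_cons.1 hq with rfl | hq
      · exact ⟨u, 1, one_mem _, by rw [mul_one]⟩
      · exact ⟨0, S.x q u, S.x_mem_genBy (T := {q | q ∈ L}) hq u, by rw [S.x_zero, one_mul]⟩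
    | one => exact ⟨0, 1, one_mem _, by rw [S.x_zero, one_mul]⟩
    | mul a b _ _ ha hb =>
      obtain ⟨t, a', ha', rfl⟩ := ha
      obtain ⟨u, b', hb', rfl⟩ := hb
      refine ⟨t + u, ((S.x k u)⁻¹ * a' * S.x k u) * b',
        mul_mem ((Subgroup.mem_normalizer_iff''.mp (hN u) a').mp ha') hb', ?_⟩
      rw [S.add]; group
    | inv a _ ha =>
      obtain ⟨t, a', ha', rfl⟩ := ha
      refine ⟨-t, S.x k t * a'⁻¹ * (S.x k t)⁻¹, (Subgroup.mem_normalizer_iff.mp (hN t) _).mp (inv_mem ha'), ?_⟩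
      rw [S.x_neg]; group

include hD ho in
theorem eq_zero_of_mul {k : ℕ} {L : List ℕ} (h : Seg D o (k :: L)) {g : GL D.Idx F}
    (hg : g ∈ (matSys D hD F).genBy {q | q ∈ L}) {t : F} (he : (matSys D hD F).x k t * g = 1) : t = 0 := by
  have hlin : IsLin D o := ⟨ho.add, ho.neg⟩
  obtain ⟨h1, h2, -⟩ := h
  obtain ⟨ha, -⟩ := List.pairwise_cons.1 h1
  obtain ⟨hkn, hkpos⟩ := h2 k (by simp)
  have hn := hD.neg_lt k hkn
  have gen : ∀ q ∈ L, ∀ u : F, (D.x F q u *ᵥ ev D F (D.neg k) - ev D F (D.neg k) ∈ above D F o (-o k)) ∧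
      ∀ v ∈ above D F o (-o k), D.x F q u *ᵥ v ∈ above D F o (-o k) := by
    intro q hq u
    obtain ⟨hqn, hqpos⟩ := h2 q (List.mem_cons_of_mem _ hq)
    have hqk := ha q hq
    refine ⟨?_, fun v hv => x_above hD hlin hqn hqpos (by omega) u hv⟩
    have hn1 : D.neg k ≠ q := by
      intro e
      rw [← e, hlin.neg k hkn] at hqpos
      omega
    have hn2 : D.neg k ≠ D.neg q := by
      intro e
      have : k = q := by rw [← hD.neg_neg q hqn, ← e, hD.neg_neg k hkn]
      subst this; omega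
    rw [x_eq_xR D hqn, xR_gen D q u (hD.keys q hqn) hn hn1 hn2, add_sub_cancel_left]
    exact sumCol_mem_above hD hlin hqn hn hn1 hn2 hqpos (by rw [hlin.neg k hkn]) u
  have hP : ((g : Matrix D.Idx D.Idx F) *ᵥ ev D F (D.neg k) - ev D F (D.neg k) ∈ above D F o (-o k)) ∧
      ∀ v ∈ above D F o (-o k), (g : Matrix D.Idx D.Idx F) *ᵥ v ∈ above D F o (-o k) := by
    clear he
    induction hg using Subgroup.closure_induction'' with
    | one => exact ⟨by simp, fun v hv => by simpa using hv⟩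
    | mem g hg => obtain ⟨q, hq, u, rfl⟩ := hg; exact gen q hq u
    | inv_mem g hg =>
      obtain ⟨q, hq, u, rfl⟩ := hg
      rw [← (matSys D hD F).x_neg]
      exact gen q hq (-u)
    | mul a b _ _ ha hb =>
      refine ⟨?_, fun v hv => by
        rw [Units.val_mul, ← Matrix.mulVec_mulVec]; exact ha.2 _ (hb.2 v hv)⟩
      rw [Units.val_mul, ← Matrix.mulVec_mulVec]
      have h := add_mem (ha.2 _ hb.1) ha.1
      rwa [Matrix.mulVec_sub, sub_add_sub_cancel] at h
  obtain ⟨w, hw, hw'⟩ : ∃ w ∈ above D F o (-o k),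
      (g : Matrix D.Idx D.Idx F) *ᵥ ev D F (D.neg k) = ev D F (D.neg k) + w :=
    ⟨_, hP.1, (add_sub_cancel _ _).symm⟩
  have heq : D.x F k t *ᵥ (ev D F (D.neg k) + w) = ev D F (D.neg k) := by
    have h := congrArg (fun M : GL D.Idx F => (M : Matrix D.Idx D.Idx F) *ᵥ ev D F (D.neg k)) he
    simp only [Units.val_mul, Units.val_one, Matrix.one_mulVec, ← Matrix.mulVec_mulVec, hw'] at h
    exact h
  rw [Matrix.mulVec_add] at heq
  have hx := above_inl (x_above hD hlin hkn hkpos le_rfl t hw)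
  rw [x_eq_xR D hkn, xR_neg D k t hn (hD.neg_ne k hkn)] at heq
  rw [x_eq_xR D hkn] at hx
  have hcz : ∀ i : Fin D.rank, t * (((D.coroot.getD k #[]).getD i.val 0 : ℤ) : F) = 0 := by
    intro i
    have h := congrFun heq (Sum.inl i)
    simpa [ev, hv, hx i] using h
  obtain ⟨c, hc⟩ := hD.coroot_prim k hkn
  have hc' := congrArg (fun z : ℤ => (z : F)) hc
  simp only [Int.cast_sum, Int.cast_mul, Int.cast_one] at hc'
  calc t = t * 1 := (mul_one t).symm
    _ = ∑ i, (c i : F) * (t * (((D.coroot.getD k #[]).getD i.val 0 : ℤ) : F)) := by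
      rw [← hc', Finset.mul_sum]; exact Finset.sum_congr rfl fun i _ => by ring
    _ = 0 := Finset.sum_eq_zero fun i _ => by rw [hcz i, mul_zero]

include hD in
theorem prod_mem (L : List ℕ) (t : ℕ → F) :
    (L.map fun r => (matSys D hD F).x r (t r)).prod ∈ (matSys D hD F).genBy {q | q ∈ L} :=
  list_prod_mem fun g hg => by
    obtain ⟨r, hr, rfl⟩ := List.mem_map.1 hg
    exact (matSys D hD F).x_mem_genBy (T := {q | q ∈ L}) hr _

include hD ho in
theorem prod_inj : ∀ L : List ℕ, Seg D o L → ∀ t u : ℕ → F,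
    (L.map fun r => (matSys D hD F).x r (t r)).prod = (L.map fun r => (matSys D hD F).x r (u r)).prod →
    ∀ r ∈ L, t r = u r
  | [], _, _, _, _, r, hr => by simp at hr
  | k :: L, h, t, u, he, r, hr => by
    rw [List.map_cons, List.map_cons, List.prod_cons, List.prod_cons] at he
    set S := matSys D hD F
    set P := (L.map fun r => S.x r (t r)).prod
    set Q := (L.map fun r => S.x r (u r)).prod
    have hz : t k - u k = 0 := by
      refine eq_zero_of_mul hD ho h (mul_mem (prod_mem hD L t) (inv_mem (prod_mem hD L u))) ?_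
      show S.x k (t k - u k) * (P * Q⁻¹) = 1
      rw [sub_eq_neg_add, S.add, S.x_neg, mul_assoc, ← mul_assoc (S.x k (t k)), he]
      group
    have hk' : t k = u k := sub_eq_zero.1 hz
    rcases List.mem_cons.1 hr with rfl | hr
    · exact hk'
    · rw [hk'] at he
      exact prod_inj L h.tail t u (mul_left_cancel he) r hr

end Cfsg.Agent.Chev.UProd
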