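/-
U is a Sylow subgroup of a finite Chevalley group.

* `diag_pow_card`: the exponent of H divides q - 1.
* `le_pos_of_le_borel`: p-subgroups of B lie in U.
* `exists_conj_le_pos`: every p-subgroup of G is conjugate into U.
-/
import Cfsg.Agent.Lib.ChevBN.Parabolic
import Cfsg.Agent.Lib.ChevOrder.CardU
import Cfsg.Agent.Lib.ChevOrder.Triangular

set_option autoImplicit false

namespace Cfsg.Agent.Chev.BT

open Cfsg.Lie Cfsg.Lie.ChevalleyDatum Cfsg.Agent.Chev Cfsg.Agent.ChevBN

variable {F : Type*} [Field F] [Fintype F] (p : ℕ) [hp : Fact p.Prime] [CharP F p] {D : ChevalleyDatum}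
  {M : List (List ℤ)} {d : ℤ} (hD : Good D) (hR : Roots D M d)

include hD

omit hp in
theorem diag_pow_card {h : GL D.Idx F} (hh : h ∈ D.diagonalSubgroup F) :
    h ^ (Fintype.card F - 1) = 1 := by
  obtain ⟨χ, hχ, -⟩ := isToral_of_mem hD hh
  apply Units.ext
  rw [Units.val_pow_eq_pow_val, hχ, dg, Matrix.diagonal_pow, Units.val_one, ← Matrix.diagonal_one]
  congr 1
  funext a
  rcases a with i | q
  · simp
  · simp [FiniteField.pow_card_sub_one_eq_one _ (Units.ne_zero (χ q.val))]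

theorem isPGroup_pos : IsPGroup p (D.posUnipotent F) := by
  obtain ⟨n, -, hn⟩ := FiniteField.card F p
  refine IsPGroup.of_card (n := (n : ℕ) * (D.nroots / 2)) ?_
  rw [Cfsg.Agent.ChevOrder.card_posUnipotent hD, Nat.card_eq_fintype_card, hn, ← pow_mul]

theorem le_pos_of_le_borel {Q : Subgroup (GL D.Idx F)} (hQ : IsPGroup p Q) (hQB : Q ≤ D.borelSubgroup F) :
    Q ≤ D.posUnipotent F := by
  intro y hy
  obtain ⟨u, hu, h, hh, rfl⟩ := (Cfsg.Agent.ChevOrder.mem_borel_iff hD).1 (hQB hy)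
  have hN := Cfsg.Agent.ChevOrder.diagonal_le_normalizer_pos hD hh
  have key : ∀ m : ℕ, ∃ v ∈ D.posUnipotent F, (u * h) ^ m = v * h ^ m := by
    intro m
    induction m with
    | zero => exact ⟨1, one_mem _, by simp⟩
    | succ m ih =>
      obtain ⟨v, hv, e⟩ := ih
      refine ⟨v * (h ^ m * u * (h ^ m)⁻¹), mul_mem hv ?_, ?_⟩
      · exact (Subgroup.mem_normalizer_iff.1 (pow_mem hN m) u).1 hu
      · rw [pow_succ, e, pow_succ]; group
  obtain ⟨k, hk⟩ := hQ ⟨u * h, hy⟩
  obtain ⟨v, hv, e⟩ := key (p ^ k)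
  have hk' : (u * h) ^ p ^ k = 1 := congrArg Subtype.val hk
  rw [hk'] at e
  have h1 : h ^ p ^ k = 1 := by
    have : h ^ p ^ k ∈ D.posUnipotent F ⊓ D.diagonalSubgroup F :=
      ⟨by rw [show h ^ p ^ k = v⁻¹ by rw [eq_inv_iff_mul_eq_one]; exact mul_eq_one_comm.1 e.symm]; exact (D.posUnipotent F).inv_mem hv,
        pow_mem hh _⟩
    rwa [Cfsg.Agent.ChevOrder.posUnipotent_inf_diagonal hD, Subgroup.mem_bot] at this
  have h2 : h = 1 := by
    obtain ⟨n, -, hn⟩ := FiniteField.card F p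
    have hd : ¬ p ∣ Fintype.card F - 1 := by
      intro hdvd
      have h3 : p ∣ Fintype.card F := hn ▸ dvd_pow_self p n.ne_zero
      have h4 : 1 ≤ Fintype.card F := Fintype.card_pos
      have := Nat.dvd_sub h3 hdvd
      rw [Nat.sub_sub_self h4] at this
      exact hp.out.ne_one (Nat.dvd_one.1 this)
    have hc : Nat.Coprime (p ^ k) (Fintype.card F - 1) :=
      Nat.Coprime.pow_left k ((Nat.Prime.coprime_iff_not_dvd hp.out).2 hd)
    have := pow_gcd_eq_one.2 ⟨h1, diag_pow_card hD hh⟩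
    rwa [hc.gcd_eq_one, pow_one] at this
  rw [h2, mul_one]
  exact hu

include hR

omit hp hD hR [Fintype F] in
theorem parabolic_empty_le : D.parabolicSubgroup F ∅ ≤ D.borelSubgroup F :=
  sup_le le_rfl ((Subgroup.closure_le _).2 fun _ ⟨_, h, _⟩ => absurd h (Set.notMem_empty _))

omit hp [Fintype F] in
theorem radical_empty : D.unipotentRadical F ∅ = D.posUnipotent F := by
  refine le_antisymm (Subgroup.closure_mono fun g ⟨r, t, h, _, e⟩ => ⟨r, t, h, e⟩) (Subgroup.closure_mono ?_)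
  rintro g ⟨r, t, h, e⟩
  refine ⟨r, t, h, fun hJ => ?_, e⟩
  have h0 : ∀ k < D.rank, co D M k r = 0 := fun k hk =>
    (inRootSub_iff hD hR h.1).1 hJ k hk (Set.notMem_empty k)
  have := hR.ht_pos r h.1 h
  rw [ht, List.sum_eq_zero] at this
  · exact lt_irrefl _ this
  · intro x hx
    obtain ⟨k, hk, rfl⟩ := List.mem_map.1 hx
    exact h0 k (List.mem_range.1 hk)

/-- Every p-subgroup of the group is conjugate into U. -/
theorem exists_conj_le_pos {Q : Subgroup (GL D.Idx F)} (hQG : Q ≤ D.group F) (hQ : IsPGroup p Q) :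
    ∃ g ∈ D.group F, ∀ y ∈ Q, g⁻¹ * y * g ∈ D.posUnipotent F := by
  have hUG : D.posUnipotent F ≤ D.group F := le_sup_left.trans (borel_le_group hD hR)
  set U' := (D.posUnipotent F).subgroupOf (D.group F) with hU'
  have hU'p : IsPGroup p U' :=
    (isPGroup_pos p hD).of_equiv (Subgroup.subgroupOfEquivOfLe hUG).symm
  obtain ⟨S, hS⟩ := hU'p.exists_le_sylow
  have hSU : (S : Subgroup (D.group F)) ≤ U' := by
    by_contra hnot
    haveI : Group.IsNilpotent (S : Subgroup (D.group F)) := S.isPGroup'.isNilpotent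
    have hlt : U'.subgroupOf S < ⊤ := by
      rw [lt_top_iff_ne_top]
      intro e
      exact hnot (Subgroup.subgroupOf_eq_top.1 e)
    obtain ⟨x, hxN, hxU⟩ := SetLike.exists_of_lt (Group.normalizerCondition_of_isNilpotent _ hlt)
    set y : GL D.Idx F := ((x : D.group F) : GL D.Idx F) with hy
    have hmem : ∀ (z : GL D.Idx F) (hz : z ∈ D.posUnipotent F),
        (⟨⟨z, hUG hz⟩, hS (show (⟨z, hUG hz⟩ : D.group F) ∈ U' from hz)⟩ : (S : Subgroup (D.group F))) ∈
          U'.subgroupOf S := fun z hz => hz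
    have hyN : y ∈ Subgroup.normalizer (D.posUnipotent F : Set (GL D.Idx F)) := by
      rw [Subgroup.mem_normalizer_iff]
      intro z
      constructor
      · intro hz
        exact ((Subgroup.mem_normalizer_iff.1 hxN) _).1 (hmem z hz)
      · intro hz
        have := ((Subgroup.mem_normalizer_iff.1 (inv_mem hxN)) _).1 (hmem _ hz)
        have h' : y⁻¹ * (y * z * y⁻¹) * (y⁻¹)⁻¹ ∈ D.posUnipotent F := this
        simpa [mul_assoc] using h'
    have hyB : y ∈ D.borelSubgroup F := by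
      refine parabolic_empty_le ?_
      rw [← normalizer_radical hD hR, radical_empty hD hR]
      exact ⟨hyN, (x : D.group F).2⟩
    refine hxU ?_
    have hy' : IsPGroup p (Subgroup.zpowers y) := by
      have := (S.isPGroup'.to_le ((Subgroup.zpowers_le).2 x.2)).map (D.group F).subtype
      rwa [MonoidHom.map_zpowers] at this
    exact le_pos_of_le_borel p hD hy' ((Subgroup.zpowers_le).2 hyB) (Subgroup.mem_zpowers y)
  have hQ' : IsPGroup p (Q.subgroupOf (D.group F)) := hQ.of_equiv (Subgroup.subgroupOfEquivOfLe hQG).symm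
  obtain ⟨T, hT⟩ := hQ'.exists_le_sylow
  obtain ⟨g, hg⟩ := MulAction.exists_smul_eq (D.group F) T S
  refine ⟨(g⁻¹ : D.group F), (g⁻¹).2, fun y hy => ?_⟩
  have hyT : (⟨y, hQG hy⟩ : D.group F) ∈ (T : Subgroup (D.group F)) := hT hy
  have h1 : g * ⟨y, hQG hy⟩ * g⁻¹ ∈ (S : Subgroup (D.group F)) := by
    rw [← hg]
    exact Subgroup.smul_mem_pointwise_smul _ (MulAut.conj g) _ hyT
  have := Subgroup.mem_subgroupOf.1 (hSU h1)
  simpa using this

end Cfsg.Agent.Chev.BT
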