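/-
Chevalley groups, table checks for `Good D` on large data.

* `jacN r a b`      : the terms of column b of [ad e_r, ad a] − ad [e_r, a] (coordinates numbered 0 .. rank + nroots − 1).
* `der_of_jacN`     : vanishing of all `jacN r` makes ad e_r a derivation (`Der`).
* `der_bracket`     : derivations from derivations, along a chain entry ±1; `der_of_reach`.
-/
import Cfsg.Agent.Lib.Chev.Good

set_option autoImplicit false

namespace Cfsg.Agent.Chev

open Cfsg.Lie Matrix
open Cfsg.Lie.ChevalleyDatum

variable (D : ChevalleyDatum)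

/-- The number of a coordinate. -/
def code : D.Idx → ℕ := Sum.elim Fin.val fun q => D.rank + q.val

/-- The value of a list of terms. -/
def valL (L : List (ℕ × ℤ)) : D.Idx → ℤ := fun x => ((L.filter fun p => p.1 = code D x).map Prod.snd).sum

/-- The terms of ad e_r applied to a coordinate. -/
def colN (r b : ℕ) : List (ℕ × ℤ) :=
  if b < D.rank then [(D.rank + r, -D.cartan b r)]
  else if b - D.rank = r then []
  else if b - D.rank = D.neg r then (List.range D.rank).map fun i => (i, (D.coroot.getD r #[]).getD i 0)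
  else match D.chainEntry r (b - D.rank) with
    | [] => []
    | (k, M) :: _ => [(D.rank + k, M)]

/-- The terms of ad of the coordinate a applied to the coordinate b. -/
def adBN (a b : ℕ) : List (ℕ × ℤ) :=
  if a < D.rank then (if b < D.rank then [] else [(b, D.cartan a (b - D.rank))]) else colN D (a - D.rank) b

/-- A matrix, given by its columns, applied to terms. -/
def mulL (f : ℕ → List (ℕ × ℤ)) (c : ℤ) (L : List (ℕ × ℤ)) : List (ℕ × ℤ) :=
  L.flatMap fun p => (f p.1).map fun q => (q.1, c * p.2 * q.2)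

/-- The terms of column b of [ad e_r, ad a] − ad [e_r, a]. -/
def jacN (r a b : ℕ) : List (ℕ × ℤ) :=
  mulL (colN D r) 1 (adBN D a b) ++ mulL (adBN D a) (-1) (colN D r b) ++
    mulL (fun c => adBN D c b) (-1) (colN D r a)

/-- ad e_r is a derivation, on basis vectors. -/
def Der (r : ℕ) : Prop :=
  ∀ a, adE D ℤ r * adB D ℤ a - adB D ℤ a * adE D ℤ r = ad D ℤ (colA D ℤ r a)

/-- The chain table stays in range. -/
def ChainLt : Prop := ∀ r < D.nroots, ∀ s < D.nroots, ∀ k ∈ (D.chainRoot r s 1).toList, k < D.nroots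

variable {D}

theorem code_inj : Function.Injective (code D) := by
  rintro (i | q) (j | u) h
  · exact congrArg Sum.inl (Fin.ext h)
  · have := i.isLt; simp only [code, Sum.elim_inl, Sum.elim_inr] at h; omega
  · have := j.isLt; simp only [code, Sum.elim_inl, Sum.elim_inr] at h; omega
  · simp only [code, Sum.elim_inr] at h; exact congrArg Sum.inr (Fin.ext (by omega))

theorem code_lt (x : D.Idx) : code D x < D.rank + D.nroots := by
  rcases x with i | q <;> simp only [code, Sum.elim_inl, Sum.elim_inr] <;> omega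

theorem valL_nil : valL D [] = 0 := rfl

theorem valL_cons (p : ℕ × ℤ) (L : List (ℕ × ℤ)) (x : D.Idx) :
    valL D (p :: L) x = (if p.1 = code D x then p.2 else 0) + valL D L x := by
  by_cases h : p.1 = code D x <;> simp [valL, List.filter_cons, h]

theorem valL_append (L L' : List (ℕ × ℤ)) : valL D (L ++ L') = valL D L + valL D L' := by
  funext x; simp [valL]

theorem valL_eq_zero {L : List (ℕ × ℤ)} (h : ZeroSum L) : valL D L = 0 := by
  funext x
  by_cases he : ∃ a ∈ L, a.1 = code D x
  · obtain ⟨a, ha, e⟩ := he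
    have := h a ha
    rw [e] at this
    exact this
  · simp only [valL]
    rw [List.filter_eq_nil_iff.2 fun a ha hd => he ⟨a, ha, of_decide_eq_true hd⟩]
    rfl

theorem valL_single (y : D.Idx) (c : ℤ) : valL D [(code D y, c)] = c • Pi.single y 1 := by
  funext x
  rw [valL_cons, valL_nil, Pi.zero_apply, add_zero]
  by_cases h : y = x
  · subst h; simp
  · simp [code_inj.ne h, Ne.symm h]

theorem valL_map_scale (c : ℤ) : ∀ L : List (ℕ × ℤ),
    valL D (L.map fun q => (q.1, c * q.2)) = c • valL D L
  | [] => by funext x; simp [valL]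
  | q :: L => by
    funext x
    simp only [List.map_cons, valL_cons, valL_map_scale c L, Pi.smul_apply, smul_eq_mul, mul_add, mul_ite, mul_zero]

theorem valL_mulL (f : ℕ → List (ℕ × ℤ)) (M : Matrix D.Idx D.Idx ℤ)
    (hf : ∀ b, valL D (f (code D b)) = fun x => M x b) (c : ℤ) :
    ∀ L : List (ℕ × ℤ), (∀ p ∈ L, ∃ y, p.1 = code D y) → valL D (mulL f c L) = c • (M *ᵥ valL D L)
  | [], _ => by simp [mulL, valL_nil]
  | (n, e) :: L, hL => by
    obtain ⟨y, hy⟩ := hL (n, e) (List.mem_cons_self ..)
    simp only at hy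
    subst hy
    rw [show mulL f c ((code D y, e) :: L) = ((f (code D y)).map fun q => (q.1, c * e * q.2)) ++ mulL f c L from by
      simp [mulL], valL_append, valL_map_scale, valL_mulL f M hf c L fun p hp => hL p (List.mem_cons_of_mem _ hp),
      hf, show ((code D y, e) :: L) = [(code D y, e)] ++ L from rfl, valL_append, valL_single, Matrix.mulVec_add,
      Matrix.mulVec_smul, Matrix.mulVec_single_one, smul_add, smul_smul]
    rfl

theorem chainRoot_one (r s : ℕ) : D.chainRoot r s 1 = (D.chainEntry r s).head?.map Prod.fst := by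
  simp only [ChevalleyDatum.chainRoot, Nat.sub_self]
  cases D.chainEntry r s <;> rfl

theorem chainM_one (r s : ℕ) : D.chainM r s 1 = ((D.chainEntry r s).head?.map Prod.snd).getD 0 := by
  simp only [ChevalleyDatum.chainM, Nat.sub_self]
  cases D.chainEntry r s <;> rfl

theorem colN_spec (hl : ChainLt D) {r : ℕ} (hr : r < D.nroots) (b : D.Idx) :
    valL D (colN D r (code D b)) = colA D ℤ r b ∧ ∀ p ∈ colN D r (code D b), ∃ y, p.1 = code D y := by
  rcases b with i | ⟨s, hs⟩
  · have e : colN D r (code D (Sum.inl i : D.Idx)) = [(code D (Sum.inr ⟨r, hr⟩ : D.Idx), -D.cartan i.val r)] := by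
      simp [colN, code]
    rw [e, valL_single, colA, ev_of_lt D ℤ hr]
    exact ⟨by simp, fun p hp => ⟨Sum.inr ⟨r, hr⟩, congrArg Prod.fst (List.mem_singleton.1 hp)⟩⟩
  · have hc : code D (Sum.inr ⟨s, hs⟩ : D.Idx) = D.rank + s := rfl
    simp only [colN, hc, colA, Nat.not_lt.2 (Nat.le_add_right D.rank s), if_false, Nat.add_sub_cancel_left]
    by_cases h₁ : s = r
    · simp [h₁, valL_nil]
    by_cases h₂ : s = D.neg r
    · simp only [if_neg h₁, if_pos h₂]
      refine ⟨?_, fun p hp => ?_⟩
      · funext x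
        simp only [valL, List.filter_map, List.map_map, Function.comp_def]
        rcases x with i | q
        · rw [show (List.range D.rank).filter (fun j => decide (j = code D (Sum.inl i : D.Idx))) = [i.val] from by
            rw [List.filter_eq, List.count_range]; simp [code, i.isLt]]
          simp [hv]
        · rw [List.filter_eq_nil_iff.2 fun j hj => by
            have := List.mem_range.1 hj
            intro hd; have h2 := of_decide_eq_true hd; simp only [code, Sum.elim_inr] at h2; omega]
          simp [hv]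
      · obtain ⟨i, hi, rfl⟩ := List.mem_map.1 hp
        exact ⟨Sum.inl ⟨i, List.mem_range.1 hi⟩, rfl⟩
    simp only [if_neg h₁, if_neg h₂, chainRoot_one, chainM_one]
    have hh := hl r hr s hs
    rw [chainRoot_one] at hh
    cases he : D.chainEntry r s with
    | nil => simp [valL_nil]
    | cons e L =>
      obtain ⟨k, M⟩ := e
      have hk : k < D.nroots := hh k (by simp [he])
      refine ⟨?_, fun p hp => ⟨Sum.inr ⟨k, hk⟩, by rw [List.mem_singleton.1 hp]; rfl⟩⟩
      show valL D [(code D (Sum.inr ⟨k, hk⟩ : D.Idx), M)] = _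
      rw [valL_single]
      simp [ev_of_lt D ℤ hk]

theorem adBN_spec (hl : ChainLt D) (a b : D.Idx) :
    valL D (adBN D (code D a) (code D b)) = (fun x => adB D ℤ a x b) ∧
      ∀ p ∈ adBN D (code D a) (code D b), ∃ y, p.1 = code D y := by
  rcases a with i | q
  · rcases b with j | ⟨s, hs⟩
    · simp only [adBN, code, Sum.elim_inl, i.isLt, j.isLt, if_true, adB]
      refine ⟨?_, by simp⟩
      funext x
      rcases x with k | u <;> simp [valL, Matrix.diagonal_apply]
    · have e : adBN D (code D (Sum.inl i : D.Idx)) (code D (Sum.inr ⟨s, hs⟩ : D.Idx)) =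
          [(code D (Sum.inr ⟨s, hs⟩ : D.Idx), D.cartan i.val s)] := by
        simp [adBN, code]
      rw [e, valL_single]
      refine ⟨?_, fun p hp => ⟨Sum.inr ⟨s, hs⟩, congrArg Prod.fst (List.mem_singleton.1 hp)⟩⟩
      funext x
      by_cases hx : x = Sum.inr ⟨s, hs⟩
      · subst hx; simp [adB]
      · simp [adB, hx, Matrix.diagonal_apply_ne _ hx]
  · have e : adBN D (code D (Sum.inr q : D.Idx)) (code D b) = colN D q.val (code D b) := by
      simp [adBN, code]
    rw [e]
    exact ⟨(colN_spec hl q.isLt b).1, (colN_spec hl q.isLt b).2⟩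

theorem der_of_jacN (hl : ChainLt D) {r : ℕ} (hr : r < D.nroots)
    (h : ∀ a < D.rank + D.nroots, ∀ b < D.rank + D.nroots, ZeroSum (jacN D r a b)) : Der D r := by
  intro a
  ext x b
  have h0 := congrFun (valL_eq_zero (D := D) (h _ (code_lt a) _ (code_lt b))) x
  rw [jacN, valL_append, valL_append,
    valL_mulL (colN D r) (adE D ℤ r) (fun c => (colN_spec hl hr c).1) 1 _ (adBN_spec hl a b).2,
    valL_mulL (adBN D (code D a)) (adB D ℤ a) (fun c => (adBN_spec hl a c).1) (-1) _ (colN_spec hl hr b).2,
    valL_mulL (fun c => adBN D c (code D b)) (Matrix.of fun y c => adB D ℤ c y b)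
      (fun c => (adBN_spec hl c b).1) (-1) _ (colN_spec hl hr a).2,
    (adBN_spec hl a b).1, (colN_spec hl hr b).1, (colN_spec hl hr a).1] at h0
  simp only [Pi.add_apply, Pi.smul_apply, Pi.zero_apply, smul_eq_mul, one_mul, neg_one_mul] at h0
  simp only [Matrix.sub_apply, Matrix.mul_apply, ad_apply, Matrix.sum_apply, Matrix.smul_apply, smul_eq_mul]
  simp only [Matrix.mulVec, dotProduct, Matrix.of_apply] at h0
  have e : ∀ c, adE D ℤ r c b = colA D ℤ r b c := fun c => rfl
  simp only [e] at h0 ⊢
  rw [Finset.sum_congr rfl fun c _ => mul_comm (colA D ℤ r a c) (adB D ℤ c x b)]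
  linear_combination h0

theorem der_ad {r : ℕ} (h : Der D r) (v : D.Idx → ℤ) :
    adE D ℤ r * ad D ℤ v - ad D ℤ v * adE D ℤ r = ad D ℤ (adE D ℤ r *ᵥ v) := by
  conv_rhs => rw [show v = ∑ a, v a • Pi.single a (1 : ℤ) from pi_eq_sum_univ' v]
  simp only [Matrix.mulVec_sum, Matrix.mulVec_smul, map_sum, map_smul, adE_col]
  rw [Finset.sum_congr rfl fun a _ => congrArg (v a • ·) (h a).symm]
  simp only [ad_apply, smul_sub, Finset.sum_sub_distrib, Finset.mul_sum, Finset.sum_mul, Matrix.mul_smul,
    Matrix.smul_mul]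

/-- The condition on a step. -/
def StepRoot (D : ChevalleyDatum) (p r : ℕ) : Prop :=
  p < D.nroots ∧ r < D.nroots ∧ r ≠ p ∧ r ≠ D.neg p ∧ (D.chainRoot p r 1).isSome ∧
    (D.chainM p r 1 = 1 ∨ D.chainM p r 1 = -1)

instance (D : ChevalleyDatum) (p r : ℕ) : Decidable (StepRoot D p r) := by unfold StepRoot; infer_instance

theorem der_bracket (hl : ChainLt D) {p r : ℕ} (hs : StepRoot D p r) (hP : Der D p) (hR : Der D r) :
    Der D ((D.chainRoot p r 1).getD 0) := by
  obtain ⟨hp, hr, h₁, h₂, hk, hM⟩ := hs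
  cases he : D.chainRoot p r 1 with
  | none => simp [he] at hk
  | some k =>
    have hk' : k < D.nroots := hl p hp r hr k (by simp [he])
    set M := D.chainM p r 1 with hMdef
    have hMM : M * M = 1 := by rcases hM with h | h <;> rw [h] <;> norm_num
    set P := adE D ℤ p
    set R := adE D ℤ r
    have hcom : P * R - R * P = M • adE D ℤ k := by
      have h := hP (Sum.inr ⟨r, hr⟩)
      simp only [adB, colA, if_neg h₁, if_neg h₂, he, Option.elim_some, map_smul, ad_ev D hk', Int.cast_id] at h
      exact h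
    have hK : adE D ℤ k = M • (P * R - R * P) := by rw [hcom, smul_smul, hMM, one_smul]
    intro a
    show adE D ℤ ((some k).getD 0) * adB D ℤ a - adB D ℤ a * adE D ℤ ((some k).getD 0) = _
    simp only [Option.getD_some]
    rw [← adE_col D ℤ k a, ← ad_single (D := D) a, hK, Matrix.smul_mulVec, map_smul, Matrix.smul_mul,
      Matrix.mul_smul, ← smul_sub, Matrix.sub_mulVec, map_sub, ← Matrix.mulVec_mulVec, ← Matrix.mulVec_mulVec,
      ← der_ad hP, ← der_ad hR, ← der_ad hR, ← der_ad hP]
    congr 1
    noncomm_ring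

/-- The step of a closure: the root reached is added. -/
def addStep (D : ChevalleyDatum) (L : List ℕ) (x : ℕ × ℕ) : List ℕ :=
  if StepRoot D x.1 x.2 ∧ x.1 ∈ L ∧ x.2 ∈ L then (D.chainRoot x.1 x.2 1).getD 0 :: L else L

/-- The roots reached from generators along steps. -/
def reach (D : ChevalleyDatum) (gens : List ℕ) (S : List (ℕ × ℕ)) : List ℕ := S.foldl (addStep D) gens

theorem der_of_reach (hl : ChainLt D) : ∀ (S : List (ℕ × ℕ)) (gens : List ℕ),
    (∀ g ∈ gens, Der D g) → ∀ k ∈ reach D gens S, Der D k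
  | [], _, hg, k, hk => hg k hk
  | x :: S, gens, hg, k, hk => by
    refine der_of_reach hl S (addStep D gens x) (fun g hg' => ?_) k hk
    unfold addStep at hg'
    split_ifs at hg' with h
    · rcases List.mem_cons.1 hg' with rfl | hg'
      · exact der_bracket hl h.1 (hg _ h.2.1) (hg _ h.2.2)
      · exact hg g hg'
    · exact hg g hg'

/-- The derivation identity in the form used by `Good`. -/
theorem jac_of_reach (hl : ChainLt D) (gens : List ℕ) (S : List (ℕ × ℕ))
    (hg : ∀ g ∈ gens, Der D g) (hc : ∀ r < D.nroots, r ∈ reach D gens S) :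
    ∀ r < D.nroots, ∀ s (hs : s < D.nroots),
      adE D ℤ r * adE D ℤ s - adE D ℤ s * adE D ℤ r = ad D ℤ (colA D ℤ r (Sum.inr ⟨s, hs⟩)) :=
  fun r hr s hs => der_of_reach hl S gens hg r (hc r hr) (Sum.inr ⟨s, hs⟩)

theorem cartan_add_of (h : ∀ r < D.nroots, ∀ s < D.nroots, ∀ k ∈ (D.chainRoot r s 1).toList,
    k < D.nroots ∧ ∀ i < D.rank, D.cartan i k = D.cartan i r + D.cartan i s) :
    ∀ r < D.nroots, ∀ s < D.nroots, ∀ k, D.chainRoot r s 1 = some k →
      k < D.nroots ∧ ∀ i < D.rank, D.cartan i k = D.cartan i r + D.cartan i s :=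
  fun r hr s hs k hk => h r hr s hs k (by rw [hk]; simp)

theorem ordAdd_of {o : ℕ → ℤ} (h : ∀ r < D.nroots, ∀ s < D.nroots, ∀ k ∈ (D.chainRoot r s 1).toList,
    o k = o r + o s) :
    ∀ r < D.nroots, ∀ s < D.nroots, ∀ k, D.chainRoot r s 1 = some k → o k = o r + o s :=
  fun r hr s hs k hk => h r hr s hs k (by rw [hk]; simp)

theorem coroot_prim_of (h : ∀ r < D.nroots, ∃ i : Fin D.rank,
    (D.coroot.getD r #[]).getD i.val 0 * (D.coroot.getD r #[]).getD i.val 0 = 1) :
    ∀ r < D.nroots, ∃ c : Fin D.rank → ℤ, ∑ i, c i * (D.coroot.getD r #[]).getD i.val 0 = 1 := by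
  intro r hr
  obtain ⟨i, hi⟩ := h r hr
  refine ⟨Pi.single i ((D.coroot.getD r #[]).getD i.val 0), ?_⟩
  rw [Finset.sum_eq_single i]
  · rw [Pi.single_eq_same, hi]
  · intro j _ hj; rw [Pi.single_eq_of_ne hj, zero_mul]
  · simp

/-- The lexicographic height of a root, from its coroot coordinates. -/
def ordLex (D : ChevalleyDatum) (r : ℕ) : ℤ :=
  (List.range D.rank).foldl (fun a i => a * 8 + (D.coroot.getD r #[]).getD i 0) 0

end Cfsg.Agent.Chev
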