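/-
Relations between x_r, n_r(t) and h_r(t) for a single root.
-/
import Cfsg.Agent.Lib.ChevBN.Instance

set_option autoImplicit false

namespace Cfsg.Agent.Chev.RankOne

open Cfsg.Lie Cfsg.Lie.ChevalleyDatum Cfsg.Agent.Chev Cfsg.Agent.ChevBN

variable {D : ChevalleyDatum} (hD : Good D) {F : Type*} [Field F]
include hD

theorem ng_eq_hg_mul (r : ℕ) (a : F) : ng hD F r a = hg hD F r a * ng hD F r 1 := by
  rw [hg, mul_assoc, ← ng_inv, inv_mul_cancel, mul_one]

theorem hg_mul {r : ℕ} (hr : r < D.nroots) {a b : F} (ha : a ≠ 0) (hb : b ≠ 0) :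
    hg hD F r a * hg hD F r b = hg hD F r (a * b) := by
  refine Units.ext ?_
  rw [Units.val_mul, coe_hg, coe_hg, coe_hg, hMat_eq_diag hD hr ha, hMat_eq_diag hD hr hb,
    hMat_eq_diag hD hr (mul_ne_zero ha hb), dg, dg, dg, Matrix.diagonal_mul_diagonal]
  congr 1
  funext x
  rcases x with j | s <;> simp [mul_zpow]

theorem hg_one (r : ℕ) : hg hD F r 1 = 1 := by
  rw [hg, ← ng_inv, mul_inv_cancel]

theorem ng_sq {r : ℕ} (hr : r < D.nroots) : ng hD F r 1 * ng hD F r 1 = hg hD F r (-1) := by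
  have h1 : (ng hD F r 1)⁻¹ = hg hD F r (-1) * ng hD F r 1 := by rw [← ng_eq_hg_mul, ng_inv]
  have h2 : hg hD F r (-1) * hg hD F r (-1) = 1 := by
    rw [hg_mul hD hr (by simp) (by simp), neg_mul_neg, one_mul, hg_one]
  calc ng hD F r 1 * ng hD F r 1
      = hg hD F r (-1) * ((hg hD F r (-1) * ng hD F r 1) * ng hD F r 1) := by
        rw [← mul_assoc, ← mul_assoc, h2, one_mul]
    _ = _ := by rw [← h1, inv_mul_cancel, mul_one]

/-- Changing the sign of both parameters does not change h_r(t). -/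
theorem ng_mul_ng_sign {r : ℕ} (hr : r < D.nroots) {t η : F} (ht : t ≠ 0) (hη : η = 1 ∨ η = -1) :
    ng hD F r (η * t) * ng hD F r (η * -1) = hg hD F r t := by
  rcases hη with rfl | rfl
  · rw [one_mul, one_mul, hg]
  · rw [neg_mul_neg, one_mul, ng_eq_hg_mul hD r (-1 * t), mul_assoc, ng_sq hD hr,
      hg_mul hD hr (by simp [ht]) (by simp)]
    congr 1
    ring

end Cfsg.Agent.Chev.RankOne
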