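/-
The homomorphism SL₂ → GL of a root.

* `sl2Hom hD hr`: sends the upper and lower unitriangular matrices to x_r and x_{-r}, by the Bruhat normal form.
-/
import Cfsg.Agent.Lib.Chev.RankOneRel

set_option autoImplicit false

namespace Cfsg.Agent.Chev.RankOne

open Cfsg.Lie Cfsg.Lie.ChevalleyDatum Cfsg.Agent.Chev Cfsg.Agent.ChevBN Cfsg.Agent.ChevSt Matrix
open scoped MatrixGroups

variable {D : ChevalleyDatum} (hD : Good D) {F : Type*} [Field F] {r : ℕ} (hr : r < D.nroots)
include hD hr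

theorem hg_conj_pos {q : F} (hq : q ≠ 0) (u : F) :
    hg hD F r q * xg hD F r u = xg hD F r (q ^ 2 * u) * hg hD F r q := by
  rw [hg_conj hD hr hq u, hD.pairing_self r hr]
  norm_cast

theorem hg_conj_neg {q : F} (hq : q ≠ 0) (u : F) :
    hg hD F r q * xg hD F (D.neg r) u = xg hD F (D.neg r) ((q ^ 2)⁻¹ * u) * hg hD F r q := by
  rw [hg_conj hD hr hq u, hD.pairing_neg_right r hr, hD.pairing_self r hr, _root_.zpow_neg]
  norm_cast

theorem ng_conj_self (u : F) :
    (ng hD F r 1)⁻¹ * xg hD F r u * ng hD F r 1 = xg hD F (D.neg r) (-u) := by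
  have h1 : (-1 : F) ≠ 0 := by simp
  rw [ng_inv, show ng hD F r 1 = (ng hD F r (-1))⁻¹ by rw [ng_inv, _root_.neg_neg], mul_inv_eq_iff_eq_mul]
  refine Units.ext ?_
  rw [Units.val_mul, Units.val_mul, coe_ng, coe_xg, coe_xg, nMat_conj hD hr hr h1]
  simp [Chev.refl, nSign, hD.pairing_self r hr]

theorem ng_mul_hg {s q : F} (hs : s ≠ 0) (hq : q ≠ 0) :
    ng hD F r s * hg hD F r q = ng hD F r (s / q) := by
  have hp : s / q ^ 2 ≠ 0 := div_ne_zero hs (pow_ne_zero _ hq)
  have e : hg hD F r q * ng hD F r (s / q ^ 2) = ng hD F r s * hg hD F r q := by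
    simp only [ng, ← mul_assoc, hg_conj_pos hD hr hq]
    rw [mul_assoc (xg hD F r _) (hg hD F r q), hg_conj_neg hD hr hq, ← mul_assoc,
      mul_assoc _ (hg hD F r q), hg_conj_pos hD hr hq, ← mul_assoc]
    congr <;> field_simp
  rw [← e, ng_eq_hg_mul hD r (s / q ^ 2), ← mul_assoc, hg_mul hD hr hq hp, ng_eq_hg_mul hD r (s / q)]
  congr 2
  field_simp

open Classical in
/-- The Bruhat normal form as a function of the entries. -/
noncomputable def phiE (a b c d : F) : GL D.Idx F :=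
  if c = 0 then hg hD F r a * xg hD F r (b / a)
  else xg hD F r (a / c) * ng hD F r (-1 / c) * xg hD F r (d / c)

/-- The Bruhat normal form. -/
noncomputable def phi (g : SL(2, F)) : GL D.Idx F := phiE hD (r := r) (g.1 0 0) (g.1 0 1) (g.1 1 0) (g.1 1 1)

omit hr in
theorem phiE_zero (a b d : F) : phiE hD (r := r) a b 0 d = hg hD F r a * xg hD F r (b / a) := if_pos rfl

omit hr in
theorem phiE_ne (a b : F) {c : F} (hc : c ≠ 0) (d : F) :
    phiE hD (r := r) a b c d = xg hD F r (a / c) * ng hD F r (-1 / c) * xg hD F r (d / c) := if_neg hc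

omit hD hr in
/-- The upper unitriangular matrix. -/
def slX (t : F) : SL(2, F) := ⟨!![1, t; 0, 1], by simp [Matrix.det_fin_two]⟩

omit hD hr in
/-- The lower unitriangular matrix. -/
def slY (t : F) : SL(2, F) := ⟨!![1, 0; t, 1], by simp [Matrix.det_fin_two]⟩

omit hD hr in
/-- The Weyl element. -/
def slW : SL(2, F) := ⟨!![0, 1; -1, 0], by simp [Matrix.det_fin_two]⟩

omit hD hr in
theorem det_eq (g : SL(2, F)) : g.1 0 0 * g.1 1 1 - g.1 0 1 * g.1 1 0 = 1 := by
  rw [← Matrix.det_fin_two]; exact g.2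

omit hD hr in
theorem ne_zero_of_c (g : SL(2, F)) (hc : g.1 1 0 = 0) : g.1 0 0 ≠ 0 ∧ g.1 1 1 ≠ 0 := by
  have h := det_eq g
  rw [hc, mul_zero, sub_zero] at h
  exact ⟨left_ne_zero_of_mul_eq_one h, right_ne_zero_of_mul_eq_one h⟩

theorem phi_mul_entries (g h : SL(2, F)) : phi hD (r := r) (g * h) =
    phiE hD (r := r) (g.1 0 0 * h.1 0 0 + g.1 0 1 * h.1 1 0) (g.1 0 0 * h.1 0 1 + g.1 0 1 * h.1 1 1)
      (g.1 1 0 * h.1 0 0 + g.1 1 1 * h.1 1 0) (g.1 1 0 * h.1 0 1 + g.1 1 1 * h.1 1 1) := by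
  show phiE hD (r := r) ((g.1 * h.1) 0 0) ((g.1 * h.1) 0 1) ((g.1 * h.1) 1 0) ((g.1 * h.1) 1 1) = _
  simp only [Matrix.mul_apply, Fin.sum_univ_two]

theorem phi_mul_slX (g : SL(2, F)) (t : F) : phi hD (r := r) (g * slX t) = phi hD (r := r) g * xg hD F r t := by
  have e : phi hD (r := r) (g * slX t) =
      phiE hD (r := r) (g.1 0 0) (g.1 0 0 * t + g.1 0 1) (g.1 1 0) (g.1 1 0 * t + g.1 1 1) := by
    rw [phi_mul_entries hD hr]; simp [slX]
  rw [e, phi]
  by_cases hc : g.1 1 0 = 0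
  · obtain ⟨ha, -⟩ := ne_zero_of_c g hc
    rw [hc, phiE_zero, phiE_zero, mul_assoc, xg_add hD hr]
    congr 2
    field_simp
    ring
  · rw [phiE_ne hD _ _ hc, phiE_ne hD _ _ hc]
    simp only [mul_assoc, xg_add hD hr]
    congr 3
    field_simp
    ring

theorem ng_mul_one (c : F) (hc : c ≠ 0) :
    ng hD F r (-1 / c) * ng hD F r 1 = hg hD F r (1 / c) := by
  rw [ng_eq_hg_mul hD r (-1 / c), mul_assoc, ng_sq hD hr, hg_mul hD hr (by simp [hc]) (by simp)]
  congr 1
  ring

theorem phi_mul_slW (g : SL(2, F)) : phi hD (r := r) (g * slW) = phi hD (r := r) g * ng hD F r 1 := by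
  have e : phi hD (r := r) (g * slW) = phiE hD (r := r) (-g.1 0 1) (g.1 0 0) (-g.1 1 1) (g.1 1 0) := by
    rw [phi_mul_entries hD hr]; simp [slW]
  have hdet := det_eq g
  rw [e, phi]
  generalize g.1 0 0 = a, g.1 0 1 = b, g.1 1 0 = c, g.1 1 1 = d at hdet ⊢
  by_cases hc : c = 0
  · subst hc
    rw [mul_zero, sub_zero] at hdet
    have ha := left_ne_zero_of_mul_eq_one hdet
    have hd := right_ne_zero_of_mul_eq_one hdet
    obtain rfl : d = 1 / a := by field_simp; linear_combination hdet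
    rw [phiE_zero, phiE_ne hD _ _ (neg_ne_zero.2 hd), zero_div, xg_zero, mul_one, hg_conj_pos hD hr ha, mul_assoc, ← ng_eq_hg_mul]
    congr 2 <;> field_simp
  by_cases hd : d = 0
  · subst hd
    obtain rfl : b = -1 / c := by field_simp; linear_combination -hdet
    rw [neg_zero, phiE_zero, phiE_ne hD _ _ hc, zero_div, xg_zero, mul_one, mul_assoc, ng_mul_one hD hr c hc,
      show -(-1 / c) = 1 / c by ring, hg_conj_pos hD hr (one_div_ne_zero hc)]
    congr 2
    field_simp
  · have hcd : 1 / (c * d) ≠ 0 := one_div_ne_zero (mul_ne_zero hc hd)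
    rw [phiE_ne hD _ _ (neg_ne_zero.2 hd), phiE_ne hD _ _ hc,
      show xg hD F r (a / c) * ng hD F r (-1 / c) * xg hD F r (d / c) * ng hD F r 1
        = xg hD F r (a / c) * (ng hD F r (-1 / c) * ng hD F r 1)
          * ((ng hD F r 1)⁻¹ * xg hD F r (d / c) * ng hD F r 1) by group,
      ng_conj_self hD hr, ng_mul_one hD hr c hc, mul_assoc (xg hD F r (a / c)),
      hg_conj_neg hD hr (one_div_ne_zero hc)]
    have hy : xg hD F (D.neg r) (((1 / c) ^ 2)⁻¹ * -(d / c)) =
        xg hD F r (-(1 / (c * d))) * ng hD F r (1 / (c * d)) * xg hD F r (-(1 / (c * d))) := by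
      rw [ng, ← xg_inv, show ((1 / c) ^ 2)⁻¹ * -(d / c) = -(1 / (c * d))⁻¹ by field_simp]
      group
    have hx : hg hD F r (1 / c) * xg hD F r (-(c / d)) = xg hD F r (-(1 / (c * d))) * hg hD F r (1 / c) := by
      rw [hg_conj_pos hD hr (one_div_ne_zero hc)]
      congr 2
      field_simp
    rw [hy]
    simp only [mul_assoc]
    rw [← hx, ← mul_assoc (ng hD F r (1 / (c * d))), ng_mul_hg hD hr hcd (one_div_ne_zero hc),
      ← mul_assoc (xg hD F r (a / c)) (xg hD F r _), xg_add hD hr, div_neg, neg_div_neg_eq]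
    have e1 : 1 / d = 1 / (c * d) / (1 / c) := by field_simp
    have e2 : c / -d = -(c / d) := by ring
    have e3 : b / d = a / c + -(1 / (c * d)) := by field_simp; linear_combination -hdet
    rw [← e1, ← e3, e2, show -(-b / d) = b / d by ring]

theorem phi_one : phi hD (r := r) (1 : SL(2, F)) = 1 := by
  simp [phi, phiE, hg_one, xg_zero]

omit hD hr in
theorem slY_eq (t : F) : slY t = slW * slX (-t) * (slW * slW * slW) := by
  apply Subtype.ext
  simp only [Matrix.SpecialLinearGroup.coe_mul]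
  ext i j
  fin_cases i <;> fin_cases j <;> simp [slX, slY, slW, Matrix.mul_apply, Fin.sum_univ_two]

omit hD hr in
theorem eq_xyx (g : SL(2, F)) (hc : g.1 1 0 ≠ 0) :
    g = slX ((g.1 0 0 - 1) / g.1 1 0) * slY (g.1 1 0) * slX ((g.1 1 1 - 1) / g.1 1 0) := by
  have hdet := det_eq g
  apply Subtype.ext
  simp only [Matrix.SpecialLinearGroup.coe_mul]
  ext i j
  fin_cases i <;> fin_cases j <;> simp [slX, slY, Matrix.mul_apply, Fin.sum_univ_two] <;> field_simp <;>
    first | ring1 | linear_combination -hdet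

omit hD hr in
theorem mul_slY_c (g : SL(2, F)) (hc : g.1 1 0 = 0) : (g * slY 1).1 1 0 = g.1 1 1 := by
  show (g.1 * (slY (1 : F)).1) 1 0 = g.1 1 1
  rw [Matrix.mul_apply, Fin.sum_univ_two, hc]
  simp [slY]

theorem phi_mul (g h : SL(2, F)) : phi hD (r := r) (g * h) = phi hD (r := r) g * phi hD (r := r) h := by
  let S : Submonoid SL(2, F) :=
    { carrier := {h | ∀ g, phi hD (r := r) (g * h) = phi hD (r := r) g * phi hD (r := r) h}
      one_mem' := fun g => by rw [mul_one, phi_one hD hr, mul_one]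
      mul_mem' := fun {h k} hh hk g => by rw [← mul_assoc, hk, hh, hk h, mul_assoc] }
  have hX : ∀ t, slX t ∈ S := fun t g => by
    rw [phi_mul_slX hD hr]
    congr 1
    have h := phi_mul_slX hD hr (1 : SL(2, F)) t
    rw [one_mul, phi_one hD hr, one_mul] at h
    exact h.symm
  have hW : slW ∈ S := fun g => by
    rw [phi_mul_slW hD hr]
    congr 1
    have h := phi_mul_slW hD hr (1 : SL(2, F))
    rw [one_mul, phi_one hD hr, one_mul] at h
    exact h.symm
  have hY : ∀ t, slY t ∈ S := fun t => by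
    rw [slY_eq]; exact mul_mem (mul_mem hW (hX _)) (mul_mem (mul_mem hW hW) hW)
  have hne : ∀ g : SL(2, F), g.1 1 0 ≠ 0 → g ∈ S := fun g hc => by
    rw [eq_xyx g hc]; exact mul_mem (mul_mem (hX _) (hY _)) (hX _)
  have hall : h ∈ S := by
    by_cases hc : h.1 1 0 = 0
    · have h1 : (h * slY 1).1 1 0 ≠ 0 := by
        rw [mul_slY_c h hc]; exact (ne_zero_of_c h hc).2
      have e : h = h * slY 1 * slY (-1) := by
        rw [mul_assoc, show slY (1 : F) * slY (-1) = 1 from ?_, mul_one]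
        apply Subtype.ext
        simp only [Matrix.SpecialLinearGroup.coe_mul, Matrix.SpecialLinearGroup.coe_one]
        ext i j
        fin_cases i <;> fin_cases j <;> simp [slY, Matrix.mul_apply, Fin.sum_univ_two]
      rw [e]
      exact mul_mem (hne _ h1) (hY _)
    · exact hne h hc
  exact hall g

/-- The homomorphism. -/
noncomputable def sl2Hom : SL(2, F) →* GL D.Idx F := MonoidHom.mk' (phi hD (r := r)) (phi_mul hD hr)

theorem sl2Hom_slX (t : F) : sl2Hom hD hr (slX t) = xg hD F r t := by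
  simp [sl2Hom, phi, phiE, slX, hg_one]

theorem sl2Hom_slY (t : F) : sl2Hom hD hr (slY t) = xg hD F (D.neg r) t := by
  by_cases ht : t = 0
  · subst ht
    simp [sl2Hom, phi, phiE, slY, hg_one, xg_zero]
  · simp only [sl2Hom, MonoidHom.mk'_apply, phi, phiE, slY, Matrix.cons_val', Matrix.cons_val_zero, Matrix.cons_val_one,
      Matrix.empty_val', Matrix.cons_val_fin_one, Matrix.of_apply, ht, if_false]
    rw [ng, neg_div, inv_neg, _root_.neg_neg, one_div, inv_inv, ← xg_inv]
    group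

theorem sl2Hom_range :
    (sl2Hom (F := F) hD hr).range = D.rootSubgroup F r ⊔ D.rootSubgroup F (D.neg r) := by
  apply le_antisymm
  · have hx : ∀ t, sl2Hom hD hr (slX t) ∈ D.rootSubgroup F r ⊔ D.rootSubgroup F (D.neg r) := fun t => by
      rw [sl2Hom_slX]; exact Subgroup.mem_sup_left (xg_mem_rootSubgroup hD r t)
    have hy : ∀ t, sl2Hom hD hr (slY t) ∈ D.rootSubgroup F r ⊔ D.rootSubgroup F (D.neg r) := fun t => by
      rw [sl2Hom_slY]; exact Subgroup.mem_sup_right (xg_mem_rootSubgroup hD _ t)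
    rintro _ ⟨g, rfl⟩
    have hne : ∀ g : SL(2, F), g.1 1 0 ≠ 0 →
        sl2Hom hD hr g ∈ D.rootSubgroup F r ⊔ D.rootSubgroup F (D.neg r) := fun g hc => by
      rw [eq_xyx g hc, map_mul, map_mul]; exact mul_mem (mul_mem (hx _) (hy _)) (hx _)
    by_cases hc : g.1 1 0 = 0
    · have h1 : (g * slY 1).1 1 0 ≠ 0 := by
        rw [mul_slY_c g hc]; exact (ne_zero_of_c g hc).2
      have := hne _ h1
      rw [map_mul] at this
      exact (Subgroup.mul_mem_cancel_right _ (hy 1)).1 this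
    · exact hne g hc
  · refine sup_le ?_ ?_
    · intro g hg
      obtain ⟨t, rfl⟩ := (mem_rootSubgroup hD r).1 hg
      exact ⟨slX t, sl2Hom_slX hD hr t⟩
    · intro g hg
      obtain ⟨t, rfl⟩ := (mem_rootSubgroup hD _).1 hg
      exact ⟨slY t, sl2Hom_slY hD hr t⟩

end Cfsg.Agent.Chev.RankOne
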