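/-
Groups of matrices whose off-diagonal entries strictly raise a height.

* `Raises f k M`: every non-zero entry raises the height `f` by at least `k`.
* `pow_card_eq_zero`: a matrix raising by at least 1 satisfies `N ^ card = 0`.
* `level f k`: the invertible `g` with `g - 1` and `g⁻¹ - 1` raising by at least `k`; `⁅level i, level j⁆ ≤ level (i+j)`;
  `isNilpotent_of_le_level`: a subgroup of `level f 1` is nilpotent.
-/
import Mathlib
import Cfsg.Agent.EqLemmas

set_option autoImplicit false

namespace Cfsg.Agent.Chev.Uni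

open Matrix
open scoped commutatorElement

variable {ι R : Type*} [Fintype ι] [DecidableEq ι] [CommRing R]

/-- Every non-zero entry raises the height by at least `k`. -/
def Raises (f : ι → ℤ) (k : ℤ) (M : Matrix ι ι R) : Prop := ∀ a b, M a b ≠ 0 → f b + k ≤ f a

variable {f : ι → ℤ}

omit [DecidableEq ι] in
theorem Raises.mul {i j : ℤ} {M N : Matrix ι ι R} (hM : Raises f i M) (hN : Raises f j N) :
    Raises f (i + j) (M * N) := by
  intro a b h
  rw [Matrix.mul_apply] at h
  obtain ⟨c, -, hc⟩ := Finset.exists_ne_zero_of_sum_ne_zero h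
  have h1 := hM a c (left_ne_zero_of_mul hc)
  have h2 := hN c b (right_ne_zero_of_mul hc)
  omega

omit [Fintype ι] [DecidableEq ι] in
theorem Raises.mono {i j : ℤ} (hji : j ≤ i) {M : Matrix ι ι R} (hM : Raises f i M) : Raises f j M :=
  fun a b h => by have := hM a b h; omega

omit [Fintype ι] [DecidableEq ι] in
theorem Raises.add {k : ℤ} {M N : Matrix ι ι R} (hM : Raises f k M) (hN : Raises f k N) :
    Raises f k (M + N) := by
  intro a b h
  by_cases h1 : M a b = 0
  · exact hN a b (by simpa [h1] using h)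
  · exact hM a b h1

omit [Fintype ι] [DecidableEq ι] in
theorem Raises.sub {k : ℤ} {M N : Matrix ι ι R} (hM : Raises f k M) (hN : Raises f k N) :
    Raises f k (M - N) := by
  intro a b h
  by_cases h1 : M a b = 0
  · exact hN a b (by simpa [h1] using h)
  · exact hM a b h1

omit [Fintype ι] in
theorem raises_one : Raises f 0 (1 : Matrix ι ι R) := by
  intro a b h
  by_cases hab : a = b
  · subst hab; simp
  · exact absurd (Matrix.one_apply_ne hab) h

theorem pow_card_eq_zero {N : Matrix ι ι R} (hN : Raises f 1 N) : N ^ Fintype.card ι = 0 := by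
  have key : ∀ (k : ℕ) (a b : ι), (N ^ k) a b ≠ 0 →
      k ≤ (Finset.univ.filter fun c => f b ≤ f c ∧ f c < f a).card ∧ f b ≤ f a := by
    intro k
    induction k with
    | zero =>
      intro a b h
      rw [pow_zero] at h
      exact ⟨Nat.zero_le _, by have := raises_one (f := f) a b h; omega⟩
    | succ k ih =>
      intro a b h
      rw [pow_succ', Matrix.mul_apply] at h
      obtain ⟨c, -, hc⟩ := Finset.exists_ne_zero_of_sum_ne_zero h
      have h1 := hN a c (left_ne_zero_of_mul hc)
      obtain ⟨h2, h3⟩ := ih c b (right_ne_zero_of_mul hc)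
      refine ⟨lt_of_le_of_lt h2 (Finset.card_lt_card ?_), by omega⟩
      rw [Finset.ssubset_iff_of_subset]
      · exact ⟨c, by simp [h3]; omega, by simp⟩
      · intro e
        simp only [Finset.mem_filter, Finset.mem_univ, true_and]
        rintro ⟨he1, he2⟩
        exact ⟨he1, by omega⟩
  ext a b
  by_contra h
  have h1 := (key _ a b h).1
  have h2 : (Finset.univ.filter fun c => f b ≤ f c ∧ f c < f a).card < Fintype.card ι :=
    Finset.card_lt_univ_of_notMem (x := a) (by simp)
  omega

variable (f) in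
/-- The invertible matrices `g` with `g - 1`, `g⁻¹ - 1` raising by at least `k`. -/
def level (k : ℕ) : Subgroup (GL ι R) where
  carrier := {g | Raises f k ((g : Matrix ι ι R) - 1) ∧ Raises f k (((g⁻¹ : GL ι R) : Matrix ι ι R) - 1)}
  one_mem' := by
    have h : ∀ a b : ι, ((1 : GL ι R) : Matrix ι ι R) a b - (1 : Matrix ι ι R) a b = 0 := fun a b => by simp
    exact ⟨fun a b h' => absurd (h a b) h', fun a b h' => absurd (by simp) h'⟩
  mul_mem' := by
    rintro g h ⟨hg, hg'⟩ ⟨hh, hh'⟩
    have key : ∀ x y : Matrix ι ι R, Raises f k (x - 1) → Raises f k (y - 1) → Raises f k (x * y - 1) := by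
      intro x y hx hy
      have e : x * y - 1 = (x - 1) * (y - 1) + (x - 1) + (y - 1) := by noncomm_ring
      rw [e]
      exact (((hx.mul hy).mono (by omega)).add hx).add hy
    refine ⟨by rw [Units.val_mul]; exact key _ _ hg hh, ?_⟩
    rw [_root_.mul_inv_rev, Units.val_mul]
    exact key _ _ hh' hg'
  inv_mem' := by
    rintro g ⟨hg, hg'⟩
    exact ⟨hg', by rwa [inv_inv]⟩

theorem raises_val_of_mem_level {k : ℕ} {g : GL ι R} (hg : g ∈ level f k) :
    Raises f 0 (g : Matrix ι ι R) := by
  have := (hg.1.mono (show (0 : ℤ) ≤ k by positivity)).add raises_one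
  rwa [sub_add_cancel] at this

theorem commutator_mem_level {i j : ℕ} {g h : GL ι R} (hg : g ∈ level f i) (hh : h ∈ level f j) :
    ⁅g, h⁆ ∈ level f (i + j) := by
  have key : ∀ (i j : ℕ) (g h : GL ι R), g ∈ level f i → h ∈ level f j →
      Raises f (i + j : ℕ) (((⁅g, h⁆ : GL ι R) : Matrix ι ι R) - 1) := by
    intro i j g h hg hh
    have hu := raises_val_of_mem_level (mul_mem ((level f 0).inv_mem
      (show g ∈ level f 0 from ⟨hg.1.mono (by simp), hg.2.mono (by simp)⟩)) ((level f 0).inv_mem
      (show h ∈ level f 0 from ⟨hh.1.mono (by simp), hh.2.mono (by simp)⟩)))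
    set u := g⁻¹ * h⁻¹ with hudef
    have e1 : ((h * g : GL ι R) : Matrix ι ι R) * (u : Matrix ι ι R) = 1 := by
      rw [← Units.val_mul, hudef, show h * g * (g⁻¹ * h⁻¹) = 1 by group, Units.val_one]
    have e2 : ((⁅g, h⁆ : GL ι R) : Matrix ι ι R) - 1
        = (((g : Matrix ι ι R) - 1) * ((h : Matrix ι ι R) - 1) - ((h : Matrix ι ι R) - 1) * ((g : Matrix ι ι R) - 1))
          * (u : Matrix ι ι R) := by
      rw [show ⁅g, h⁆ = g * h * u by rw [commutatorElement_def, hudef]; group]
      rw [Units.val_mul, Units.val_mul]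
      rw [Units.val_mul] at e1
      calc (g : Matrix ι ι R) * h * u - 1 = (g : Matrix ι ι R) * h * u - (h : Matrix ι ι R) * g * u := by rw [e1]
        _ = _ := by noncomm_ring
    rw [e2]
    have := (((hg.1.mul hh.1)).sub ((hh.1.mul hg.1).mono (le_of_eq (add_comm _ _)))).mul hu
    simpa using this
  refine ⟨key i j g h hg hh, ?_⟩
  rw [commutatorElement_inv, Nat.add_comm]
  exact key j i h g hh hg

theorem exists_level_eq_bot : ∃ N : ℕ, level (R := R) f N = ⊥ := by
  obtain ⟨K, hK⟩ : ∃ K : ℕ, ∀ a b, f a < f b + K := by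
    refine ⟨(Finset.univ.sup fun p : ι × ι => (f p.1 - f p.2).toNat) + 1, fun a b => ?_⟩
    have h := Finset.le_sup (f := fun p : ι × ι => (f p.1 - f p.2).toNat) (Finset.mem_univ (a, b))
    simp only at h
    omega
  refine ⟨K, (Subgroup.eq_bot_iff_forall _).2 fun g hg => Units.ext ?_⟩
  rw [Units.val_one, ← sub_eq_zero]
  ext a b
  by_contra h
  have := hg.1 a b h
  have := hK a b
  omega

/-- A group of unitriangular matrices is nilpotent. -/
theorem isNilpotent_of_le_level {U : Subgroup (GL ι R)} (hU : U ≤ level f 1) :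
    Group.IsNilpotent U := by
  obtain ⟨N, hN⟩ := exists_level_eq_bot (ι := ι) (R := R) (f := f)
  rw [Subgroup.nilpotent_iff_finite_descending_central_series]
  refine ⟨N, fun n => (level f (n + 1)).subgroupOf U, ⟨?_, ?_⟩, ?_⟩
  · exact Subgroup.subgroupOf_eq_top.2 hU
  · intro x n hx g
    rw [Subgroup.mem_subgroupOf] at hx ⊢
    exact commutator_mem_level hx (hU g.2)
  · refine Subgroup.subgroupOf_eq_bot.2 (disjoint_iff.2 ?_)
    rw [eq_bot_iff, ← hN]
    rintro g ⟨hg, -⟩
    exact ⟨hg.1.mono (by push_cast; omega), hg.2.mono (by push_cast; omega)⟩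

end Cfsg.Agent.Chev.Uni
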