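/-
`U` consists of unitriangular matrices for the height of the roots.
-/
import Cfsg.Agent.Lib.Chev.Unitriangular
import Cfsg.Agent.Lib.ChevOrder.Triangular

set_option autoImplicit false

namespace Cfsg.Agent.Chev.Uni

open Cfsg.Agent

theorem raises_of_up {D : Cfsg.Lie.ChevalleyDatum} {F : Type*} [Field F] {o : ℕ → ℤ} {M : Matrix D.Idx D.Idx F}
    (hU : ChevOrder.Up o M) (hd : ChevOrder.UniDiag M) :
    Chev.Uni.Raises (ChevOrder.key o) ((1 : ℕ) : ℤ) (M - 1) := by
  intro a b h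
  by_cases hab : a = b
  · subst hab; simp [hd a] at h
  · by_contra hle
    exact h (by simp [Matrix.one_apply_ne hab, hU a b hab (by omega)])

theorem pos_le_level {F : Type*} [Field F] {D : Cfsg.Lie.ChevalleyDatum} (hD : Chev.Good D) :
    ∃ f : D.Idx → ℤ, D.posUnipotent F ≤ Chev.Uni.level f 1 := by
  obtain ⟨o, ho⟩ := hD.order
  refine ⟨ChevOrder.key o, fun g hg => ⟨?_, ?_⟩⟩
  · exact raises_of_up (ChevOrder.up_of_mem_pos hD ho hg).1 (ChevOrder.up_of_mem_pos hD ho hg).2
  · exact raises_of_up (ChevOrder.up_of_mem_pos hD ho (inv_mem hg)).1 (ChevOrder.up_of_mem_pos hD ho (inv_mem hg)).2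

end Cfsg.Agent.Chev.Uni
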